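import Mathlib.AlgebraicGeometry.Morphisms.Affine
import Mathlib.AlgebraicGeometry.Morphisms.ClosedImmersion
import Mathlib.AlgebraicGeometry.Morphisms.Separated
import Groth.Agent.AlgSpPts.Sep
import Groth.Agent.AlgSpLib.Points

/-!
# Fibre products of affine charts over a separated space
-/

set_option backward.isDefEq.respectTransparency false
set_option backward.isDefEq.respectTransparency.types false

universe u

open CategoryTheory Limits Opposite AlgebraicGeometry AlgSp Groth.Agent.AlgSpLib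
open scoped TensorProduct

namespace Groth.Agent.AlgSpVal

variable {S : Scheme.{u}}

/-- The fibre product over `Z` maps to the fibre product over the base by a closed immersion. -/
theorem isClosedImmersion_graph {Z G : Sp S} {p : Z ⟶ G} (hp : IsSeparatedMor p) {U T V P W : Over S}
    {a : (yon S).obj U ⟶ Z} {b : (yon S).obj T ⟶ Z} {au : U ⟶ V} {bu : T ⟶ V} {g : (yon S).obj V ⟶ G}
    (hg : Mono g) (ha : a ≫ p = (yon S).map au ≫ g) (hb : b ≫ p = (yon S).map bu ≫ g)
    {pr₁ : P ⟶ U} {pr₂ : P ⟶ T} (sqP : IsPullback pr₁ pr₂ au bu)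
    {w₁ : W ⟶ U} {w₂ : W ⟶ T} (sqW : IsPullback ((yon S).map w₁) ((yon S).map w₂) a b)
    (κ : W ⟶ P) (h₁ : κ ≫ pr₁ = w₁) (h₂ : κ ≫ pr₂ = w₂) : IsClosedImmersion κ.left := by
  have hy₁ : (yon S).map κ ≫ (yon S).map pr₁ = (yon S).map w₁ := by rw [← Functor.map_comp, h₁]
  have hy₂ : (yon S).map κ ≫ (yon S).map pr₂ = (yon S).map w₂ := by rw [← Functor.map_comp, h₂]
  have hab : ((yon S).map pr₁ ≫ a) ≫ p = ((yon S).map pr₂ ≫ b) ≫ p := by
    rw [Category.assoc, Category.assoc, ha, hb, ← Functor.map_comp_assoc, ← Functor.map_comp_assoc, sqP.w]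
  let d : (yon S).obj P ⟶ pullback p p := pullback.lift _ _ hab
  have hw : ((yon S).map w₁ ≫ a) ≫ pullback.diagonal p = (yon S).map κ ≫ d := by
    apply pullback.hom_ext
    · rw [Category.assoc, Category.assoc, pullback.diagonal_fst, Category.comp_id, Category.assoc,
        pullback.lift_fst, ← Category.assoc ((yon S).map κ), hy₁]
    · rw [Category.assoc, Category.assoc, pullback.diagonal_snd, Category.comp_id, Category.assoc,
        pullback.lift_snd, ← Category.assoc ((yon S).map κ), hy₂, sqW.w]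
  have hd₁ : ∀ {X' : Sp S} (y : X' ⟶ (yon S).obj P) (x : X' ⟶ Z), x ≫ pullback.diagonal p = y ≫ d →
      x = (y ≫ (yon S).map pr₁) ≫ a ∧ x = (y ≫ (yon S).map pr₂) ≫ b := fun y x h => by
    constructor
    · have := congrArg (· ≫ pullback.fst p p) h
      simpa [d] using this
    · have := congrArg (· ≫ pullback.snd p p) h
      simpa [d] using this
  have sq : IsPullback ((yon S).map w₁ ≫ a) ((yon S).map κ) (pullback.diagonal p) d := by
    refine ⟨⟨hw⟩, ⟨PullbackCone.IsLimit.mk _
      (fun c => sqW.lift (c.snd ≫ (yon S).map pr₁) (c.snd ≫ (yon S).map pr₂)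
        ((hd₁ c.snd c.fst c.condition).1.symm.trans (hd₁ c.snd c.fst c.condition).2))
      (fun c => ?_) (fun c => ?_) fun c m hm₁ hm₂ => ?_⟩⟩
    · rw [← Category.assoc, sqW.lift_fst]
      exact (hd₁ c.snd c.fst c.condition).1.symm
    · refine (sqP.map (yon S)).hom_ext ?_ ?_
      · rw [Category.assoc, hy₁, sqW.lift_fst]
      · rw [Category.assoc, hy₂, sqW.lift_snd]
    · refine sqW.hom_ext ?_ ?_
      · rw [sqW.lift_fst, ← hm₂, Category.assoc, hy₁]
      · rw [sqW.lift_snd, ← hm₂, Category.assoc, hy₂]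
  exact hp.property _ _ _ sq

section Spec

variable {A C T : CommRingCat.{u}} {str : Spec A ⟶ S}

/-- `Spec` of a ring map as a morphism over `S`. -/
noncomputable def specHom {R : CommRingCat.{u}} (γ : A ⟶ C) (δ : C ⟶ R) (ε : A ⟶ R) (h : γ ≫ δ = ε) :
    Over.mk (Spec.map ε ≫ str) ⟶ Over.mk (Spec.map γ ≫ str) :=
  CategoryTheory.Over.homMk (Spec.map δ) (by
    change Spec.map δ ≫ Spec.map γ ≫ str = Spec.map ε ≫ str
    rw [← Spec.map_comp_assoc, h])

/-- `Spec` of a ring map as a morphism to the base. -/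
noncomputable def specToBase (γ : A ⟶ C) : Over.mk (Spec.map γ ≫ str) ⟶ Over.mk str :=
  CategoryTheory.Over.homMk (Spec.map γ) rfl

/-- Over an affine base, the fibre product of two affine schemes over a separated space is affine, with
ring of functions generated by the two rings. -/
theorem exists_spec_pullback {Z : Sp S} {p : Z ⟶ (yon S).obj (Over.mk str)} (hp : IsSeparatedMor p)
    (γ : A ⟶ C) (β : A ⟶ T) (a : (yon S).obj (Over.mk (Spec.map γ ≫ str)) ⟶ Z)
    (b : (yon S).obj (Over.mk (Spec.map β ≫ str)) ⟶ Z) (hr : Representable a)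
    (ha : a ≫ p = (yon S).map (specToBase γ)) (hb : b ≫ p = (yon S).map (specToBase β)) :
    ∃ (B : CommRingCat.{u}) (γ' : C ⟶ B) (β' : T ⟶ B) (h : γ ≫ γ' = β ≫ β'),
      IsPullback ((yon S).map (specHom (str := str) γ γ' (β ≫ β') h)) ((yon S).map (specHom β β' _ rfl)) a b ∧
      ∀ R' : Subring B, (∀ c, γ'.hom c ∈ R') → (∀ t, β'.hom t ∈ R') → R' = ⊤ := by
  let U : Over S := Over.mk (Spec.map γ ≫ str)
  let V : Over S := Over.mk (Spec.map β ≫ str)
  let W := hr.pullback b
  let w₁ : W ⟶ U := hr.fst' b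
  let w₂ : W ⟶ V := hr.snd b
  have sqW : IsPullback ((yon S).map w₁) ((yon S).map w₂) a b := hr.isPullback' b
  let au : U ⟶ Over.mk str := specToBase γ
  let bu : V ⟶ Over.mk str := specToBase β
  let D : CommRingCat.{u} := pushout γ β
  let P : Over S := Over.mk (Spec.map (β ≫ pushout.inr γ β) ≫ str)
  let pr₁ : P ⟶ U := specHom γ (pushout.inl γ β) (β ≫ pushout.inr γ β) pushout.condition
  let pr₂ : P ⟶ V := specHom β (pushout.inr γ β) (β ≫ pushout.inr γ β) rfl
  have hsqS : IsPullback pr₁.left pr₂.left au.left bu.left :=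
    isPullback_SpecMap_of_isPushout _ _ _ _ (IsPushout.of_hasPushout γ β)
  have hwP : pr₁ ≫ au = pr₂ ≫ bu := Over.OverMorphism.ext hsqS.w
  have sqP : IsPullback pr₁ pr₂ au bu := IsPullback.of_map (Over.forget S) hwP hsqS
  have hwW : w₁ ≫ au = w₂ ≫ bu := (yon S).map_injective (by
    rw [Functor.map_comp, Functor.map_comp, ← ha, ← hb, ← Category.assoc, sqW.w, Category.assoc])
  let κ : W ⟶ P := sqP.lift w₁ w₂ hwW
  have hκ : IsClosedImmersion κ.left := isClosedImmersion_graph hp (g := 𝟙 _) inferInstance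
    (by rw [ha, Category.comp_id]) (by rw [hb, Category.comp_id]) sqP sqW κ (sqP.lift_fst _ _ _) (sqP.lift_snd _ _ _)
  have : IsAffine U.left := inferInstanceAs (IsAffine (Spec C))
  have : IsAffine V.left := inferInstanceAs (IsAffine (Spec T))
  have : IsAffine (Over.mk str).left := inferInstanceAs (IsAffine (Spec A))
  have : IsAffine P.left := inferInstanceAs (IsAffine (Spec D))
  have hWa : IsAffine W.left := isAffine_of_isAffineHom κ.left
  let B : CommRingCat.{u} := Γ(W.left, ⊤)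
  let j : Spec B ⟶ W.left := W.left.isoSpec.inv
  obtain ⟨γ', hγ'⟩ : ∃ γ' : C ⟶ B, Spec.map γ' = j ≫ w₁.left := ⟨_, Spec.map_preimage _⟩
  obtain ⟨β', hβ'⟩ : ∃ β' : T ⟶ B, Spec.map β' = j ≫ w₂.left := ⟨_, Spec.map_preimage _⟩
  have h : γ ≫ γ' = β ≫ β' := Spec.map_injective (by
    rw [Spec.map_comp, Spec.map_comp, hγ', hβ', Category.assoc, Category.assoc]
    exact congrArg (j ≫ ·) (congrArg Over.Hom.left hwW))
  refine ⟨B, γ', β', h, ?_, ?_⟩
  · let e : Over.mk (Spec.map (β ≫ β') ≫ str) ≅ W := CategoryTheory.Over.isoMk W.left.isoSpec.symm (by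
      change j ≫ W.hom = Spec.map (β ≫ β') ≫ str
      rw [Spec.map_comp, hβ', Category.assoc, Category.assoc]
      exact congrArg (j ≫ ·) (Over.w w₂).symm)
    have h1 : specHom (str := str) γ γ' (β ≫ β') h = e.hom ≫ w₁ := Over.OverMorphism.ext hγ'
    have h2 : specHom (str := str) β β' (β ≫ β') rfl = e.hom ≫ w₂ := Over.OverMorphism.ext hβ'
    rw [h1, h2, Functor.map_comp, Functor.map_comp]
    exact sqW.of_iso ((yon S).mapIso e).symm (Iso.refl _) (Iso.refl _) (Iso.refl _)
      (by rw [Iso.symm_hom, Functor.mapIso_inv, ← Functor.map_comp_assoc, e.inv_hom_id, Iso.refl_hom,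
        Category.comp_id]; simp)
      (by rw [Iso.symm_hom, Functor.mapIso_inv, ← Functor.map_comp_assoc, e.inv_hom_id, Iso.refl_hom,
        Category.comp_id]; simp)
      (by simp) (by simp)
  · intro R' hγR hβR
    obtain ⟨φ, hφ⟩ : ∃ φ : D ⟶ B, Spec.map φ = j ≫ κ.left := ⟨_, Spec.map_preimage _⟩
    have hsurj : Function.Surjective φ.hom := by
      have : IsClosedImmersion (Spec.map φ) := hφ ▸ inferInstance
      have h := (IsClosedImmersion.isAffine_surjective_of_isAffine (Spec.map φ)).2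
      have e : φ = (Scheme.ΓSpecIso D).inv ≫ (Spec.map φ).appTop ≫ (Scheme.ΓSpecIso B).hom := by
        rw [Scheme.ΓSpecIso_naturality, Iso.inv_hom_id_assoc]
      rw [e]
      exact ((ConcreteCategory.bijective_of_isIso (Scheme.ΓSpecIso B).hom).surjective.comp h).comp
        (ConcreteCategory.bijective_of_isIso (Scheme.ΓSpecIso D).inv).surjective
    have e₁ : pushout.inl γ β ≫ φ = γ' := Spec.map_injective (by
      rw [Spec.map_comp, hφ, hγ', Category.assoc]
      exact congrArg (j ≫ ·) (congrArg Over.Hom.left (sqP.lift_fst w₁ w₂ hwW)))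
    have e₂ : pushout.inr γ β ≫ φ = β' := Spec.map_injective (by
      rw [Spec.map_comp, hφ, hβ', Category.assoc]
      exact congrArg (j ≫ ·) (congrArg Over.Hom.left (sqP.lift_snd w₁ w₂ hwW)))
    rw [eq_top_iff]
    rintro z -
    obtain ⟨y, rfl⟩ := hsurj z
    suffices R'.comap φ.hom = ⊤ from (this ▸ Subring.mem_top y : y ∈ R'.comap φ.hom)
    have hb1 : ∀ c, (pushout.inl γ β).hom c ∈ R'.comap φ.hom := fun c => by
      have := hγR c
      rw [← e₁] at this
      exact this
    have hb2 : ∀ c, (pushout.inr γ β).hom c ∈ R'.comap φ.hom := fun c => by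
      have := hβR c
      rw [← e₂] at this
      exact this
    let f₁ : C ⟶ CommRingCat.of (R'.comap φ.hom) := CommRingCat.ofHom ((pushout.inl γ β).hom.codRestrict _ hb1)
    let f₂ : T ⟶ CommRingCat.of (R'.comap φ.hom) := CommRingCat.ofHom ((pushout.inr γ β).hom.codRestrict _ hb2)
    have hf : γ ≫ f₁ = β ≫ f₂ := CommRingCat.hom_ext (RingHom.ext fun c => Subtype.ext
      (RingHom.congr_fun (congrArg CommRingCat.Hom.hom (pushout.condition (f := γ) (g := β))) c :))
    let r : pushout γ β ⟶ CommRingCat.of (R'.comap φ.hom) := pushout.desc f₁ f₂ hf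
    have hr' : r ≫ CommRingCat.ofHom (R'.comap φ.hom).subtype = 𝟙 _ := pushout.hom_ext
      (by rw [← Category.assoc, pushout.inl_desc, Category.comp_id]; rfl)
      (by rw [← Category.assoc, pushout.inr_desc, Category.comp_id]; rfl)
    rw [eq_top_iff]
    rintro x -
    have : ((r.hom x : R'.comap φ.hom) : D) = x := RingHom.congr_fun (congrArg CommRingCat.Hom.hom hr') x
    exact this ▸ (r.hom x).2

end Spec

section Calc

theorem specHom_comp {A C D R : CommRingCat.{u}} {str : Spec A ⟶ S} (γ : A ⟶ C) (δ : C ⟶ D) (ε : A ⟶ D)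
    (h : γ ≫ δ = ε) (δ' : D ⟶ R) (ε' : A ⟶ R) (h' : ε ≫ δ' = ε') :
    specHom (str := str) ε δ' ε' h' ≫ specHom γ δ ε h =
      specHom γ (δ ≫ δ') ε' (by rw [← Category.assoc, h, h']) :=
  Over.OverMorphism.ext (Spec.map_comp δ δ').symm

theorem specHom_toBase {A C R : CommRingCat.{u}} {str : Spec A ⟶ S} (γ : A ⟶ C) (δ : C ⟶ R) (ε : A ⟶ R)
    (h : γ ≫ δ = ε) : specHom (str := str) γ δ ε h ≫ specToBase γ = specToBase ε :=
  Over.OverMorphism.ext (by
    change Spec.map δ ≫ Spec.map γ = Spec.map ε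
    rw [← Spec.map_comp, h])

theorem specHom_congr {A C R : CommRingCat.{u}} {str : Spec A ⟶ S} (γ : A ⟶ C) {δ δ' : C ⟶ R} (ε : A ⟶ R)
    (h : γ ≫ δ = ε) (h' : γ ≫ δ' = ε) (e : δ = δ') : specHom (str := str) γ δ ε h = specHom γ δ' ε h' := by
  subst e; rfl

end Calc

end Groth.Agent.AlgSpVal
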