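import Mathlib.AlgebraicGeometry.Morphisms.Separated
import Mathlib.AlgebraicGeometry.Morphisms.UniversallyOpen
import Mathlib.RingTheory.Valuation.ValuationRing
import Groth.Agent.AlgSpPts.Sep
import Groth.Agent.AlgSpLib.Rep
import Groth.Prelude.Def_AlgSpMor5

/-!
# Valuative criteria: uniqueness, composition, base change, representable morphisms
-/

set_option backward.isDefEq.respectTransparency false
set_option backward.isDefEq.respectTransparency.types false

universe u

open CategoryTheory Limits Opposite AlgebraicGeometry AlgSp Groth.Agent.AlgSpLib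

namespace Groth.Agent.AlgSpVal

variable {S : Scheme.{u}} {F G H : Sp S}

/-- Two maps from a reduced scheme which agree on a dominant subscheme and after composing with a
separated morphism are equal. -/
theorem eq_of_isSeparatedMor {f : F ⟶ G} (hf : IsSeparatedMor f) {T T' : Over S} (i : T' ⟶ T)
    [IsDominant i.left] [IsReduced T.left] (l l' : (yon S).obj T ⟶ F) (h : l ≫ f = l' ≫ f)
    (hi : (yon S).map i ≫ l = (yon S).map i ≫ l') : l = l' := by
  let g : (yon S).obj T ⟶ pullback f f := pullback.lift l l' h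
  have sq := hf.rep.isPullback g
  let E := hf.rep.pullback g
  let e : E ⟶ T := hf.rep.snd g
  have he : IsClosedImmersion e.left := hf.property_snd g
  obtain ⟨k, hk⟩ := (yon S).map_surjective (sq.lift ((yon S).map i ≫ l) ((yon S).map i) (by
    apply pullback.hom_ext
    · simp [g]
    · simp [g, hi]))
  have hki : k ≫ e = i := (yon S).map_injective (by rw [Functor.map_comp, hk, sq.lift_snd])
  have : Surjective e.left := ⟨Set.range_eq_univ.1 (by
    rw [← (e.left.isClosedMap.isClosed_range).closure_eq]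
    refine Set.eq_univ_of_univ_subset (i.left.denseRange.closure_eq ▸ closure_mono ?_)
    rw [← hki]
    rintro _ ⟨x, rfl⟩
    exact ⟨k.left x, (Scheme.Hom.comp_apply _ _ _).symm⟩)⟩
  have : IsIso e.left := isIso_of_isClosedImmersion_of_surjective _
  have : IsIso ((Over.forget S).map e) := ‹IsIso e.left›
  have : IsIso e := isIso_of_reflects_iso e (Over.forget S)
  have hsq := sq.w
  have h1 := congrArg (· ≫ pullback.fst f f) hsq
  have h2 := congrArg (· ≫ pullback.snd f f) hsq
  simp only [Category.assoc, g, pullback.lift_fst, pullback.lift_snd, pullback.diagonal_fst,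
    pullback.diagonal_snd, Category.comp_id] at h1 h2
  exact (cancel_epi ((yon S).map e)).1 (h1.symm.trans h2)

theorem isDominant_generic {A K : Type u} [CommRing A] [IsDomain A] [CommRing K] [Nontrivial K] [Algebra A K]
    (hinj : Function.Injective (algebraMap A K)) :
    IsDominant (Spec.map (CommRingCat.ofHom (algebraMap A K))) :=
  ⟨PrimeSpectrum.denseRange_comap_iff_ker_le_nilRadical (algebraMap A K) |>.2 (by
    rw [(RingHom.injective_iff_ker_eq_bot _).1 hinj]; exact bot_le)⟩

theorem isDominant_valSq {f : F ⟶ G} (sq : ValSq f) : IsDominant sq.j.left :=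
  isDominant_generic (IsFractionRing.injective sq.A sq.K)

theorem uniqVC_of_isSeparatedMor {f : F ⟶ G} (hf : IsSeparatedMor f) : UniqVC f := fun sq l l' h1 h2 h1' h2' => by
  have := isDominant_valSq sq
  have : IsReduced sq.ptA.left := inferInstanceAs (IsReduced (Spec (CommRingCat.of sq.A)))
  exact eq_of_isSeparatedMor hf sq.j l l' (h2.trans h2'.symm) (h1.trans h1'.symm)

/-! ### Extensions -/

section DomExt

variable {f : F ⟶ G} {sq : ValSq f} (e : sq.DomExt)

/-- `Spec K' → Spec K`. -/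
noncomputable def extK : e.ptK' ⟶ sq.ptK :=
  CategoryTheory.Over.homMk (Spec.map (CommRingCat.ofHom e.ψ)) (by
    change Spec.map _ ≫ Spec.map _ ≫ _ = Spec.map _ ≫ Spec.map _ ≫ _
    rw [← Spec.map_comp_assoc, ← Spec.map_comp_assoc, ← CommRingCat.ofHom_comp, ← CommRingCat.ofHom_comp, e.comm])

/-- `Spec A' → Spec A`. -/
noncomputable def extA : e.ptA' ⟶ sq.ptA := CategoryTheory.Over.homMk (Spec.map (CommRingCat.ofHom e.φ)) rfl

/-- `Spec K' → Spec A'`. -/
noncomputable def extJ : e.ptK' ⟶ e.ptA' :=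
  CategoryTheory.Over.homMk (Spec.map (CommRingCat.ofHom (algebraMap e.A' e.K'))) rfl

theorem extJ_extA : extJ e ≫ extA e = extK e ≫ sq.j := Over.OverMorphism.ext (by
  change Spec.map _ ≫ Spec.map _ = Spec.map _ ≫ Spec.map _
  rw [← Spec.map_comp, ← Spec.map_comp, ← CommRingCat.ofHom_comp, ← CommRingCat.ofHom_comp, e.comm])

theorem hasLift_iff : e.HasLift ↔ ∃ l : (yon S).obj e.ptA' ⟶ F,
    (yon S).map (extJ e) ≫ l = (yon S).map (extK e) ≫ sq.top ∧ l ≫ f = (yon S).map (extA e) ≫ sq.bot :=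
  Iff.rfl

end DomExt

/-- A lift gives a lift after the trivial extension. -/
theorem hasLiftExt_of_hasLift {f : F ⟶ G} {sq : ValSq f} (h : sq.HasLift) : sq.HasLiftExt := by
  obtain ⟨l, h1, h2⟩ := h
  let e : sq.DomExt :=
    { A' := sq.A, K' := sq.K, φ := RingHom.id _, ψ := RingHom.id _, comm := rfl, isLocalHom := ⟨fun _ h => h⟩ }
  refine ⟨e, (hasLift_iff e).2 ⟨(yon S).map (extA e) ≫ l, ?_, by rw [Category.assoc, h2]⟩⟩
  rw [← Functor.map_comp_assoc, extJ_extA, Functor.map_comp, Category.assoc, h1]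

theorem existVC_of_strict {f : F ⟶ G} (h : ExistVCStrict f) : ExistVC f := fun sq => hasLiftExt_of_hasLift (h sq)

/-! ### Composition -/

theorem comp₂_eq {A B C : CommRingCat.{u}} (a : A ⟶ B) (b : B ⟶ C) (str : Spec A ⟶ S) (c : A ⟶ C) (h : c = a ≫ b) :
    𝟙 _ ≫ Spec.map b ≫ Spec.map a ≫ str = Spec.map c ≫ str := by
  rw [Category.id_comp, h, ← Spec.map_comp_assoc]

theorem comp₃_eq {A B C D : CommRingCat.{u}} (a : A ⟶ B) (b : B ⟶ C) (c : C ⟶ D) (str : Spec A ⟶ S) (ab : A ⟶ C) (h : ab = a ≫ b) :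
    𝟙 _ ≫ Spec.map c ≫ Spec.map b ≫ Spec.map a ≫ str = Spec.map c ≫ Spec.map ab ≫ str := by
  rw [Category.id_comp, h, ← Spec.map_comp_assoc a]

theorem existVC_comp {f : F ⟶ G} {g : G ⟶ H} (hf : ExistVC f) (hg : ExistVC g) : ExistVC (f ≫ g) := by
  intro sq
  let sqg : ValSq g :=
    { A := sq.A, K := sq.K, str := sq.str, top := sq.top ≫ f, bot := sq.bot,
      comm := by rw [Category.assoc]; exact sq.comm }
  obtain ⟨e₁, he₁⟩ := hg sqg
  obtain ⟨l₁, hl₁, hl₁'⟩ := (hasLift_iff e₁).1 he₁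
  let sqf : ValSq f :=
    { A := e₁.A', K := e₁.K', str := Spec.map (CommRingCat.ofHom e₁.φ) ≫ sq.str,
      top := (yon S).map (extK e₁) ≫ sq.top, bot := l₁,
      comm := (Category.assoc _ _ _).trans hl₁.symm }
  obtain ⟨e₂, he₂⟩ := hf sqf
  obtain ⟨l₂, hl₂, hl₂'⟩ := (hasLift_iff e₂).1 he₂
  let e : sq.DomExt :=
    { A' := e₂.A', K' := e₂.K', φ := e₂.φ.comp e₁.φ, ψ := e₂.ψ.comp e₁.ψ,
      comm := by
        rw [← RingHom.comp_assoc]
        erw [e₂.comm]
        rw [RingHom.comp_assoc]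
        erw [e₁.comm]
        rfl
      isLocalHom := ⟨fun a ha => e₁.isLocalHom.map_nonunit a (e₂.isLocalHom.map_nonunit _ ha)⟩ }
  let c : e.ptA' ⟶ e₂.ptA' := CategoryTheory.Over.homMk (𝟙 (Spec (CommRingCat.of e₂.A')))
    (comp₂_eq (CommRingCat.ofHom e₁.φ) (CommRingCat.ofHom e₂.φ) sq.str (CommRingCat.ofHom e.φ)
      (CommRingCat.ofHom_comp e₁.φ e₂.φ))
  let cK : e.ptK' ⟶ e₂.ptK' := CategoryTheory.Over.homMk (𝟙 (Spec (CommRingCat.of e₂.K')))
    (comp₃_eq (CommRingCat.ofHom e₁.φ) (CommRingCat.ofHom e₂.φ)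
      (CommRingCat.ofHom (algebraMap e₂.A' e₂.K')) sq.str (CommRingCat.ofHom e.φ)
      (CommRingCat.ofHom_comp e₁.φ e₂.φ))
  have hA : c ≫ extA e₂ ≫ extA e₁ = extA e := Over.OverMorphism.ext (by
    change 𝟙 _ ≫ Spec.map _ ≫ Spec.map _ = Spec.map _
    rw [Category.id_comp, ← Spec.map_comp, ← CommRingCat.ofHom_comp])
  have hK : cK ≫ extK e₂ ≫ extK e₁ = extK e := Over.OverMorphism.ext (by
    change 𝟙 _ ≫ Spec.map _ ≫ Spec.map _ = Spec.map _
    rw [Category.id_comp, ← Spec.map_comp, ← CommRingCat.ofHom_comp])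
  have hJ : extJ e ≫ c = cK ≫ extJ e₂ := Over.OverMorphism.ext (by
    change Spec.map _ ≫ 𝟙 _ = 𝟙 _ ≫ Spec.map _
    rw [Category.comp_id, Category.id_comp])
  refine ⟨e, (hasLift_iff e).2 ⟨(yon S).map c ≫ l₂, ?_, ?_⟩⟩
  · rw [← Functor.map_comp_assoc, hJ, Functor.map_comp, Category.assoc, hl₂, ← hK, Functor.map_comp,
      Functor.map_comp, Category.assoc, Category.assoc]
  · rw [Category.assoc, ← Category.assoc l₂, hl₂', Category.assoc, hl₁', ← hA, Functor.map_comp,
      Functor.map_comp, Category.assoc, Category.assoc]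

theorem uniqVC_comp {f : F ⟶ G} {g : G ⟶ H} (hf : UniqVC f) (hg : UniqVC g) : UniqVC (f ≫ g) := by
  intro sq l l' h1 h2 h1' h2'
  let sqg : ValSq g :=
    { A := sq.A, K := sq.K, str := sq.str, top := sq.top ≫ f, bot := sq.bot,
      comm := by rw [Category.assoc]; exact sq.comm }
  have hlf : l ≫ f = l' ≫ f := hg sqg (l ≫ f) (l' ≫ f)
    ((Category.assoc _ _ _).symm.trans (congrArg (· ≫ f) h1)) ((Category.assoc _ _ _).trans h2)
    ((Category.assoc _ _ _).symm.trans (congrArg (· ≫ f) h1')) ((Category.assoc _ _ _).trans h2')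
  let sqf : ValSq f :=
    { A := sq.A, K := sq.K, str := sq.str, top := sq.top, bot := l ≫ f,
      comm := ((congrArg (· ≫ f) h1).symm.trans (Category.assoc _ _ _)) }
  exact hf sqf l l' h1 rfl h1' hlf.symm

/-! ### Base change -/

section BaseChange

variable {F' G' : Sp S} {f : F ⟶ G} {g : G' ⟶ G} {fst : F' ⟶ F} {f' : F' ⟶ G'}

/-- The square of the original morphism attached to a square of the base change. -/
noncomputable def pushSq (hsq : IsPullback fst f' f g) (sq : ValSq f') : ValSq f where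
  A := sq.A
  K := sq.K
  str := sq.str
  top := sq.top ≫ fst
  bot := sq.bot ≫ g
  comm := by rw [Category.assoc, hsq.w, ← Category.assoc, sq.comm, Category.assoc]

theorem existVC_of_isPullback (hsq : IsPullback fst f' f g) (hf : ExistVC f) : ExistVC f' := by
  intro sq
  obtain ⟨e₀, he₀⟩ := hf (pushSq hsq sq)
  obtain ⟨l, hl, hl'⟩ := (hasLift_iff e₀).1 he₀
  let e : sq.DomExt :=
    { A' := e₀.A', K' := e₀.K', φ := e₀.φ, ψ := e₀.ψ, comm := e₀.comm, isLocalHom := e₀.isLocalHom }
  refine ⟨e, (hasLift_iff e).2 ⟨hsq.lift l ((yon S).map (extA e) ≫ sq.bot) ?_, ?_, hsq.lift_snd _ _ _⟩⟩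
  · rw [Category.assoc]; exact hl'
  · apply hsq.hom_ext
    · rw [Category.assoc, hsq.lift_fst, Category.assoc]
      exact hl
    · rw [Category.assoc, hsq.lift_snd, ← Functor.map_comp_assoc, extJ_extA, Functor.map_comp,
        Category.assoc, Category.assoc, sq.comm]

theorem uniqVC_of_isPullback (hsq : IsPullback fst f' f g) (hf : UniqVC f) : UniqVC f' := by
  intro sq l l' h1 h2 h1' h2'
  refine hsq.hom_ext ?_ (h2.trans h2'.symm)
  exact hf (pushSq hsq sq) (l ≫ fst) (l' ≫ fst)
    ((Category.assoc _ _ _).symm.trans (congrArg (· ≫ fst) h1))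
    (by rw [Category.assoc, hsq.w, ← Category.assoc, h2]; rfl)
    ((Category.assoc _ _ _).symm.trans (congrArg (· ≫ fst) h1'))
    (by rw [Category.assoc, hsq.w, ← Category.assoc, h2']; rfl)

end BaseChange

/-! ### Representable morphisms -/

theorem mem_range_of_dominates {A A' K K' : Type u} [CommRing A] [IsDomain A] [ValuationRing A] [Field K]
    [Algebra A K] [IsFractionRing A K] [CommRing A'] [IsDomain A'] [Field K'] [Algebra A' K'] [IsFractionRing A' K']
    (φ : A →+* A') (ψ : K →+* K') (comm : (algebraMap A' K').comp φ = ψ.comp (algebraMap A K))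
    [IsLocalHom φ] (x : K) (y : A') (h : ψ x = algebraMap A' K' y) : x ∈ (algebraMap A K).range := by
  rcases ValuationRing.isInteger_or_isInteger A x with hx | ⟨a, ha⟩
  · exact hx
  · rcases eq_or_ne x 0 with rfl | hx
    · exact zero_mem _
    · have hu : IsUnit (φ a) := by
        refine IsUnit.of_mul_eq_one y (IsFractionRing.injective A' K' ?_)
        rw [map_mul, map_one, show algebraMap A' K' (φ a) = ψ (algebraMap A K a) from RingHom.congr_fun comm a,
          ha, ← h, map_inv₀, inv_mul_cancel₀ ((map_ne_zero ψ).2 hx)]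
      obtain ⟨b, hb⟩ := (isUnit_of_map_unit φ a hu).exists_right_inv
      refine ⟨b, ?_⟩
      have := congrArg (algebraMap A K) hb
      rw [map_mul, ha, map_one] at this
      exact (eq_of_inv_mul_eq_one this).symm

theorem hasLift_of_representable {f : F ⟶ G} (hf : Representable f) {sq : ValSq f} (e : sq.DomExt)
    (he : e.HasLift) : sq.HasLift := by
  obtain ⟨l', hl', hl''⟩ := (hasLift_iff e).1 he
  let W := hf.pullback sq.bot
  let q : W ⟶ sq.ptA := hf.snd sq.bot
  have sqW := hf.isPullback sq.bot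
  obtain ⟨t, ht⟩ := (yon S).map_surjective (sqW.lift sq.top ((yon S).map sq.j) sq.comm)
  obtain ⟨m, hm⟩ := (yon S).map_surjective (sqW.lift l' ((yon S).map (extA e)) hl'')
  have htq : t ≫ q = sq.j := (yon S).map_injective (by rw [Functor.map_comp, ht, sqW.lift_snd])
  have htm : extK e ≫ t = extJ e ≫ m := (yon S).map_injective (sqW.hom_ext
    (by rw [Functor.map_comp, Functor.map_comp, Category.assoc, Category.assoc, ht, hm, sqW.lift_fst,
      sqW.lift_fst, hl'])
    (by rw [Functor.map_comp, Functor.map_comp, Category.assoc, Category.assoc, ht, hm, sqW.lift_snd,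
      sqW.lift_snd, ← Functor.map_comp, ← Functor.map_comp, extJ_extA]))
  obtain ⟨O, hO, hzO, -⟩ := exists_isAffineOpen_mem_and_subset (U := (⊤ : W.left.Opens))
    (x := m.left (IsLocalRing.closedPoint e.A')) trivial
  let mS : Spec (CommRingCat.of e.A') ⟶ W.left := m.left
  have hmO : Set.range mS ⊆ Set.range O.ι := by
    rw [Scheme.Opens.range_ι]
    rintro _ ⟨x, rfl⟩
    exact ((IsLocalRing.specializes_closedPoint (show PrimeSpectrum e.A' from x)).map mS.continuous).mem_open O.2 hzO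
  let tS : Spec (CommRingCat.of sq.K) ⟶ W.left := t.left
  have htO : Set.range tS ⊆ Set.range O.ι := by
    rintro _ ⟨x, rfl⟩
    apply hmO
    have hx : x = Spec.map (CommRingCat.ofHom e.ψ) (IsLocalRing.closedPoint e.K') :=
      Subsingleton.elim (α := PrimeSpectrum sq.K) _ _
    refine ⟨(extJ e).left (IsLocalRing.closedPoint e.K'), ?_⟩
    rw [hx]
    exact ((Scheme.Hom.comp_apply _ _ _).symm.trans
      (congrArg (fun k => k (IsLocalRing.closedPoint e.K')) (congrArg Over.Hom.left htm).symm)).trans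
        (Scheme.Hom.comp_apply _ _ _)
  have : IsAffine O.toScheme := hO
  let C : CommRingCat.{u} := Γ(O.toScheme, ⊤)
  obtain ⟨γ, hγ⟩ : ∃ γ : C ⟶ CommRingCat.of sq.K, Spec.map γ ≫ O.toScheme.isoSpec.inv ≫ O.ι = tS := by
    refine ⟨Spec.preimage (IsOpenImmersion.lift O.ι tS htO ≫ O.toScheme.isoSpec.hom), ?_⟩
    rw [Spec.map_preimage, Category.assoc, Iso.hom_inv_id_assoc, IsOpenImmersion.lift_fac]
  obtain ⟨μ, hμ⟩ : ∃ μ : C ⟶ CommRingCat.of e.A', Spec.map μ ≫ O.toScheme.isoSpec.inv ≫ O.ι = mS := by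
    refine ⟨Spec.preimage (IsOpenImmersion.lift O.ι mS hmO ≫ O.toScheme.isoSpec.hom), ?_⟩
    rw [Spec.map_preimage, Category.assoc, Iso.hom_inv_id_assoc, IsOpenImmersion.lift_fac]
  have hcomp : γ ≫ CommRingCat.ofHom e.ψ = μ ≫ CommRingCat.ofHom (algebraMap e.A' e.K') := by
    apply Spec.map_injective
    rw [← cancel_mono (O.toScheme.isoSpec.inv ≫ O.ι), Spec.map_comp, Spec.map_comp, Category.assoc, Category.assoc,
      hγ, hμ]
    exact congrArg Over.Hom.left htm
  have := e.isLocalHom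
  have hmem : ∀ c, γ.hom c ∈ (algebraMap sq.A sq.K).range := fun c =>
    mem_range_of_dominates e.φ e.ψ e.comm _ (μ.hom c) (RingHom.congr_fun (congrArg CommRingCat.Hom.hom hcomp) c)
  let eA : sq.A ≃+* (algebraMap sq.A sq.K).range :=
    RingEquiv.ofBijective (algebraMap sq.A sq.K).rangeRestrict
      ⟨fun a b h => IsFractionRing.injective sq.A sq.K (congrArg Subtype.val h), (algebraMap sq.A sq.K).rangeRestrict_surjective⟩
  let ν : C ⟶ CommRingCat.of sq.A := CommRingCat.ofHom (eA.symm.toRingHom.comp (γ.hom.codRestrict _ hmem))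
  have hν : ν ≫ CommRingCat.ofHom (algebraMap sq.A sq.K) = γ := by
    ext c
    exact congrArg Subtype.val (eA.apply_symm_apply ⟨γ.hom c, hmem c⟩)
  let lS : Spec (CommRingCat.of sq.A) ⟶ W.left := Spec.map ν ≫ O.toScheme.isoSpec.inv ≫ O.ι
  have hlS : sq.j.left ≫ lS = tS := by
    change Spec.map _ ≫ Spec.map ν ≫ _ = _
    rw [← Spec.map_comp_assoc, hν, hγ]
  have := isDominant_valSq sq
  have : IsReduced sq.ptA.left := inferInstanceAs (IsReduced (Spec (CommRingCat.of sq.A)))
  have hlq : lS ≫ q.left = 𝟙 sq.ptA.left := by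
    have : IsAffine sq.ptA.left := inferInstanceAs (IsAffine (Spec (CommRingCat.of sq.A)))
    refine ext_of_isDominant_of_isSeparated (terminal.from sq.ptA.left) (Subsingleton.elim _ _) sq.j.left ?_
    rw [← Category.assoc, hlS]
    exact (congrArg Over.Hom.left htq).trans (Category.comp_id _).symm
  let lW : sq.ptA ⟶ W := CategoryTheory.Over.homMk lS (by
    rw [← Over.w q, ← Category.assoc]
    exact (congrArg (· ≫ sq.ptA.hom) hlq).trans (Category.id_comp _))
  refine ⟨(yon S).map lW ≫ hf.fst sq.bot, ?_, ?_⟩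
  · rw [← Functor.map_comp_assoc, show sq.j ≫ lW = t from Over.OverMorphism.ext hlS, ht, sqW.lift_fst]
  · rw [Category.assoc, sqW.w, ← Functor.map_comp_assoc, show lW ≫ q = 𝟙 _ from Over.OverMorphism.ext hlq,
      CategoryTheory.Functor.map_id, Category.id_comp]

theorem existVC_iff_strict_of_representable {f : F ⟶ G} (hf : Representable f) : ExistVC f ↔ ExistVCStrict f :=
  ⟨fun h sq => (h sq).elim fun e he => hasLift_of_representable hf e he, existVC_of_strict⟩

end Groth.Agent.AlgSpVal
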