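import Groth.Agent.S2335
import Groth.Agent.AlgSpVal.Basic
import Groth.Agent.AlgSpDec.Fibres
import Groth.Agent.AlgSpPts.SepDescent
import Groth.Agent.AlgSpPts.FppfTarget
import Groth.Agent.EtFound.Descent

/-!
# Separatedness through discrete valuation rings
-/

set_option backward.isDefEq.respectTransparency false
set_option backward.isDefEq.respectTransparency.types false

universe u

open CategoryTheory Limits Opposite AlgebraicGeometry AlgSp Groth.Agent.AlgSpLib

namespace Groth.Agent.AlgSpVal

variable {S : Scheme.{u}} {F G : Sp S}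

theorem isLocNoethSp_of_lft (hF : IsAlgSpace F) (hG : IsAlgSpace G) (f : F ⟶ G)
    (hf : LocP @LocallyOfFiniteType f) (hN : IsLocNoethSp G) : IsLocNoethSp F := by
  obtain ⟨U, V, a, b, h, ha, ha', hb, -, w⟩ := exists_chart hF hG f
  have : IsLocallyNoetherian V.left := AlgSpDec.isLocallyNoetherian_chart hb hN
  have : LocallyOfFiniteType h.left := hf a b h ha hb w
  exact ⟨U, a, ha, ha', LocallyOfFiniteType.isLocallyNoetherian h.left⟩

theorem isSeparatedMor_of_dvr_uniq (hF : IsAlgSpace F) (hG : IsAlgSpace G) {f : F ⟶ G}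
    (hqs : IsQuasiSeparatedMor f) (hft : LocP @LocallyOfFiniteType f) (hN : IsLocNoethSp G)
    (hu : ∀ sq : ValSq f, IsDiscreteValuationRing sq.A → sq.HasUniq) : IsSeparatedMor f := by
  have hFF : IsAlgSpace (pullback f f) := isAlgSpace_pullback hF hF hG f f
  have hN' : IsLocNoethSp (pullback f f) := by
    refine isLocNoethSp_of_lft hFF hG (pullback.snd f f ≫ f) ?_ hN
    exact locP_comp hFF hF hG (locP_of_isPullback (IsPullback.of_hasPullback f f) hF hG hF hft) hft
  obtain ⟨hr, hl, -, -, hm⟩ := AlgSpPts.diagonal_package hF hG f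
  obtain ⟨T, g, hg, hg'⟩ := hFF.atlas
  have : IsLocallyNoetherian T.left := AlgSpDec.isLocallyNoetherian_chart hg hN'
  have := isLocallySurjective_of_etale_surjective hg hg'
  have := EtFound.fpqc_isClosedImmersion.{u}
  have : MorphismProperty.IsLocalAtTarget (@IsClosedImmersion : MorphismProperty Scheme.{u}) Scheme.fppfPrecoverage :=
    AlgSpPts.isLocalAtTarget_fppf _
  refine AlgSpPts.repWith_of_locallySurjective hr g (hr.isPullback g) _ ((repWith_yon_map_iff _ _).2 ?_)
  let W := hr.pullback g
  let fst : (yon S).obj W ⟶ F := hr.fst g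
  let snd : W ⟶ T := hr.snd g
  have sq : IsPullback fst ((yon S).map snd) (pullback.diagonal f) g := hr.isPullback g
  have hqc : QuasiCompact snd.left := hqs.property g fst snd sq
  have hlft : LocallyOfFiniteType snd.left := hl.property g fst snd sq
  have hmono : Mono snd.left := hm.property g fst snd sq
  have : IsProper snd.left := by
    refine (S2335.result snd.left).2 fun A _ _ _ x y hxy => ?_
    let A' := Over.mk (y ≫ T.hom)
    let K := Over.mk (Spec.map (CommRingCat.ofHom (algebraMap A (FractionRing A))) ≫ y ≫ T.hom)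
    let b : A' ⟶ T := CategoryTheory.Over.homMk y rfl
    let j : K ⟶ A' := CategoryTheory.Over.homMk (Spec.map (CommRingCat.ofHom (algebraMap A (FractionRing A)))) rfl
    let i₁ : K ⟶ W := CategoryTheory.Over.homMk x (by
      change x ≫ W.hom = _ ≫ y ≫ T.hom
      rw [← Over.w snd, ← Category.assoc, hxy, Category.assoc])
    have hij : i₁ ≫ snd = j ≫ b := Over.OverMorphism.ext hxy
    let l := (yon S).map b ≫ g ≫ pullback.fst f f
    let l' := (yon S).map b ≫ g ≫ pullback.snd f f
    have hl₁ : (yon S).map j ≫ l = (yon S).map i₁ ≫ fst := by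
      rw [← Functor.map_comp_assoc, ← hij, Functor.map_comp, Category.assoc, ← sq.w_assoc,
        pullback.diagonal_fst, Category.comp_id]
    have hl₂ : (yon S).map j ≫ l' = (yon S).map i₁ ≫ fst := by
      rw [← Functor.map_comp_assoc, ← hij, Functor.map_comp, Category.assoc, ← sq.w_assoc,
        pullback.diagonal_snd, Category.comp_id]
    let vs : ValSq f :=
      { A := A, K := FractionRing A, str := y ≫ T.hom, top := (yon S).map i₁ ≫ fst, bot := l ≫ f,
        comm := ((congrArg (· ≫ f) hl₁).symm.trans (Category.assoc _ _ _)) }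
    have hll : l = l' := hu vs ‹IsDiscreteValuationRing A› l l' hl₁ rfl hl₂ (by
      change l' ≫ f = l ≫ f
      simp only [l, l', Category.assoc, pullback.condition])
    have hlift : l ≫ pullback.diagonal f = (yon S).map b ≫ g := by
      apply pullback.hom_ext
      · rw [Category.assoc, pullback.diagonal_fst, Category.comp_id, Category.assoc]
      · rw [Category.assoc, pullback.diagonal_snd, Category.comp_id, Category.assoc]
        exact hll
    obtain ⟨k, hk⟩ := (yon S).map_surjective (sq.lift l ((yon S).map b) hlift)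
    have hk₂ : k ≫ snd = b := (yon S).map_injective (by rw [Functor.map_comp, hk, sq.lift_snd])
    have hk₂' : k.left ≫ snd.left = y := congrArg Over.Hom.left hk₂
    refine ⟨k.left, ⟨hk₂', ?_⟩, fun m hm' => ?_⟩
    · rw [← cancel_mono snd.left, Category.assoc, hk₂']
      exact hxy.symm
    · rw [← cancel_mono snd.left, hm'.1, hk₂']
  exact (IsClosedImmersion.iff_isProper_and_mono _).2 ⟨(by assumption : IsProper snd.left), hmono⟩

end Groth.Agent.AlgSpVal
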