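import Mathlib.RingTheory.PowerSeries.Inverse
import Mathlib.RingTheory.Ideal.MinimalPrime.Localization
import Groth.Agent.S4450
import Groth.Agent.AlgSpVal.DvrSep
import Groth.Agent.AlgSpPts.Misc

/-!
# Discrete valuation rings through points in the closure of an image
-/

set_option backward.isDefEq.respectTransparency false
set_option backward.isDefEq.respectTransparency.types false

universe u

open CategoryTheory Limits Opposite AlgebraicGeometry AlgSp Groth.Agent.AlgSpLib IsLocalRing

namespace Groth.Agent.AlgSpVal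

/-- A point in the closure of the image of a compact scheme in an affine one is a specialisation of a point of
the image. -/
theorem exists_specializes_of_mem_closure_range {U V : Scheme.{u}} [CompactSpace ↥U] [IsAffine V] (g : U ⟶ V) {v : ↥V}
    (hv : v ∈ closure (Set.range g)) : ∃ x, g x ⤳ v := by
  obtain ⟨R, q, hq⟩ := compactSpace_iff_exists.mp (‹CompactSpace ↥U›)
  obtain ⟨φ, hφ⟩ : ∃ φ : Γ(V, ⊤) ⟶ R, Spec.map φ = (q ≫ g) ≫ V.isoSpec.hom := ⟨_, Spec.map_preimage _⟩
  have h2 : (V.isoSpec.hom v : PrimeSpectrum Γ(V, ⊤)) ∈ closure (Set.range (PrimeSpectrum.comap φ.hom)) := by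
    refine map_mem_closure V.isoSpec.hom.continuous hv ?_
    rintro _ ⟨x, rfl⟩
    obtain ⟨r, rfl⟩ := hq x
    refine ⟨r, ?_⟩
    change Spec.map φ r = _
    rw [hφ]
    rfl
  rw [PrimeSpectrum.closure_range_comap, PrimeSpectrum.mem_zeroLocus, SetLike.coe_subset_coe] at h2
  obtain ⟨p, hp, hpw⟩ := Ideal.exists_minimalPrimes_le h2
  obtain ⟨p₀, hp₀, -, hpp⟩ := Ideal.exists_comap_eq_of_mem_minimalPrimes φ.hom (I := ⊥) p
    (by rwa [← RingHom.ker_eq_comap_bot])
  refine ⟨q (⟨p₀, hp₀⟩ : PrimeSpectrum R), ?_⟩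
  refine V.isoSpec.hom.isOpenEmbedding.isInducing.specializes_iff.1 ?_
  have e : V.isoSpec.hom (g (q (⟨p₀, hp₀⟩ : PrimeSpectrum R))) = Spec.map φ (⟨p₀, hp₀⟩ : PrimeSpectrum R) := by
    rw [hφ]
    rfl
  rw [e]
  exact (PrimeSpectrum.le_iff_specializes (PrimeSpectrum.comap φ.hom ⟨p₀, hp₀⟩) _).1 (hpp.le.trans hpw)

/-- A specialisation in a locally Noetherian scheme is the trace of a discrete valuation ring. -/
theorem exists_dvr_path_field {U V : Scheme.{u}} [IsLocallyNoetherian V] (g : U ⟶ V) [LocallyOfFiniteType g]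
    (u : ↥U) (v : ↥V) (h : g u ⤳ v) :
    ∃ (A : Type u) (_ : CommRing A) (_ : IsDomain A) (_ : IsDiscreteValuationRing A)
      (i : Spec (CommRingCat.of A) ⟶ V) (k : Spec (CommRingCat.of (FractionRing A)) ⟶ U),
      i (closedPoint A) = v ∧ k (closedPoint (FractionRing A)) = u ∧
        k ≫ g = Spec.map (CommRingCat.ofHom (algebraMap A (FractionRing A))) ≫ i := by
  let K := U.residueField u
  by_cases hne : v = g u
  · let A := PowerSeries K
    let c : K →+* A := PowerSeries.C
    refine ⟨A, inferInstance, inferInstance, inferInstance,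
      Spec.map (CommRingCat.ofHom c) ≫ U.fromSpecResidueField u ≫ g,
      Spec.map (CommRingCat.ofHom ((algebraMap A (FractionRing A)).comp c)) ≫ U.fromSpecResidueField u, ?_,
      U.fromSpecResidueField_apply u _, ?_⟩
    · rw [Scheme.Hom.comp_apply, Scheme.Hom.comp_apply, hne]
      exact congrArg g (U.fromSpecResidueField_apply u _)
    · rw [CommRingCat.ofHom_comp, Spec.map_comp, Category.assoc, Category.assoc]
  · obtain ⟨A, i, hA, hcl, hgen⟩ := S4450.result g u v h hne
    let σ : K →+* FractionRing A := (FractionRing.algEquiv A K).symm.toRingEquiv.toRingHom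
    refine ⟨A, inferInstance, inferInstance, hA, i, Spec.map (CommRingCat.ofHom σ) ≫ U.fromSpecResidueField u, hcl,
      U.fromSpecResidueField_apply u _, ?_⟩
    have e : σ.comp (algebraMap A K) = algebraMap A (FractionRing A) :=
      RingHom.ext fun a => (FractionRing.algEquiv A K).symm.commutes a
    rw [Category.assoc, ← hgen, ← Category.assoc, ← Spec.map_comp, ← CommRingCat.ofHom_comp]
    exact congrArg (fun r => Spec.map (CommRingCat.ofHom r) ≫ i) e

variable {S : Scheme.{u}} {F G : Sp S}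

theorem exists_dvr_of_mem_closure (hF : IsAlgSpace F) (hG : IsAlgSpace G) {f : F ⟶ G} (hft : IsFiniteTypeMor f)
    (hN : IsLocNoethSp G) (y : Points G) (hy : y ∈ closure (Set.range (Points.map f))) :
    ∃ (A : Type u) (_ : CommRing A) (_ : IsDomain A) (_ : IsDiscreteValuationRing A)
      (a : Spec (CommRingCat.of A) ⟶ S) (α : (yon S).obj (Over.mk a) ⟶ G)
      (κ : (yon S).obj (Over.mk (Spec.map (CommRingCat.ofHom (algebraMap A (FractionRing A))) ≫ a)) ⟶ F),
      κ ≫ f = (yon S).map (Over.homMk (Spec.map (CommRingCat.ofHom (algebraMap A (FractionRing A))))) ≫ α ∧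
      Points.map α (Points.schemeEquiv (Over.mk a) (closedPoint A)) = y := by
  obtain ⟨V, b, v, hV, hb, hbv⟩ := AlgSpDec.exists_affine_chart_at hG y
  have : IsLocallyNoetherian V.left := AlgSpDec.isLocallyNoetherian_chart hb hN
  have sq := IsPullback.of_hasPullback f b
  have hP : IsAlgSpace (pullback f b) := isAlgSpace_pullback hF (IsAlgSpace.yon_obj _) hG f b
  have hVc : IsQuasiCompactSp ((yon S).obj V) :=
    (AlgSpPts.isQuasiCompactSp_iff (IsAlgSpace.yon_obj _)).2 (Points.schemeHomeo V).compactSpace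
  obtain ⟨U, a, ha, ha', hU⟩ := hft.2 (IsAlgSpace.yon_obj V) hVc b _ _ sq
  have : CompactSpace ↥U.left := hU
  obtain ⟨g, hg⟩ := (yon S).map_surjective (a ≫ pullback.snd f b)
  have hlft : LocP @LocallyOfFiniteType (pullback.snd f b) := locP_of_isPullback sq hF hG (IsAlgSpace.yon_obj V) hft.1
  have : LocallyOfFiniteType g.left := hlft a (𝟙 _) g ha (repWith_id _ V) (by rw [Category.comp_id, hg])
  have hcl : v ∈ closure (Set.range g.left) := by
    rw [mem_closure_iff]
    intro O hO hvO
    obtain ⟨_, ⟨o, ho, rfl⟩, x, hx⟩ := mem_closure_iff.1 hy _ (isOpenMap_ofPt hb O hO) ⟨v, hvO, hbv⟩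
    rw [Points.ofPt_eq_map_ofScheme] at hx
    obtain ⟨z, -, hz⟩ := exists_point_of_isPullback sq hx
    obtain ⟨u, rfl⟩ := surjective_ofPt ha' z
    rw [Points.map_ofPt, ← hg] at hz
    have h2 := ((ofPt_comp g (𝟙 _) u).symm.trans (congrArg (Points.ofPt · u) (Category.comp_id _))).trans hz
    exact ⟨o, ho, u, (Points.schemeHomeo V).injective h2⟩
  obtain ⟨u, hu⟩ := exists_specializes_of_mem_closure_range g.left hcl
  obtain ⟨A, _, _, hA, i, k, hi, -, hk⟩ := exists_dvr_path_field g.left u v hu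
  let iV : Over.mk (i ≫ V.hom) ⟶ V := CategoryTheory.Over.homMk i rfl
  let kU : Over.mk (Spec.map (CommRingCat.ofHom (algebraMap A (FractionRing A))) ≫ i ≫ V.hom) ⟶ U :=
    CategoryTheory.Over.homMk k (by
      change k ≫ U.hom = _ ≫ i ≫ V.hom
      rw [← Over.w g, ← Category.assoc, hk, Category.assoc])
  refine ⟨A, inferInstance, inferInstance, hA, i ≫ V.hom, (yon S).map iV ≫ b,
    (yon S).map kU ≫ a ≫ pullback.fst f b, ?_, ?_⟩
  · rw [Category.assoc, Category.assoc, pullback.condition, ← Category.assoc a, ← hg, ← Functor.map_comp_assoc,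
      ← Functor.map_comp_assoc]
    congr 2
    exact Over.OverMorphism.ext hk
  · rw [← hbv]
    refine (Points.ofPt_eq_map_ofScheme _ _).symm.trans ((ofPt_comp iV b _).trans ?_)
    exact congrArg (Points.ofPt b) hi

end Groth.Agent.AlgSpVal
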