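import Groth.Agent.AlgSpVal.ValThrough
import Groth.Agent.AlgSpLib.EtLocalInst

/-!
# Valuation rings lift along flat morphisms
-/

set_option backward.isDefEq.respectTransparency false
set_option backward.isDefEq.respectTransparency.types false

universe u

open CategoryTheory Limits Opposite AlgebraicGeometry AlgSp Groth.Agent.AlgSpLib IsLocalRing

namespace Groth.Agent.AlgSpVal

variable {S : Scheme.{u}} {F G : Sp S}

theorem exists_lift_of_flat (hF : IsAlgSpace F) (hG : IsAlgSpace G) {f : F ⟶ G} (hf : LocP @Flat f)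
    (A : Type u) [CommRing A] [IsDomain A] [ValuationRing A] (str : Spec (.of A) ⟶ S)
    (b : (yon S).obj (Over.mk str) ⟶ G)
    (hb : Points.ofPt b (closedPoint A : ↥(Over.mk str).left) ∈ Set.range (Points.map f)) :
    ∃ (A' : Type u) (_ : CommRing A') (_ : IsDomain A') (_ : ValuationRing A') (φ : A →+* A'),
      Function.Injective φ ∧ IsLocalHom φ ∧
      ∃ l : (yon S).obj (Over.mk (Spec.map (CommRingCat.ofHom φ) ≫ str)) ⟶ F,
        l ≫ f = (yon S).map (Over.homMk (Spec.map (CommRingCat.ofHom φ)) rfl :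
          Over.mk (Spec.map (CommRingCat.ofHom φ) ≫ str) ⟶ Over.mk str) ≫ b := by
  obtain ⟨x, hx⟩ := hb
  rw [Points.ofPt_eq_map_ofScheme] at hx
  have sqP := IsPullback.of_hasPullback f b
  obtain ⟨z, -, hz⟩ := exists_point_of_isPullback sqP hx
  have hP : IsAlgSpace (pullback f b) := isAlgSpace_pullback hF (IsAlgSpace.yon_obj _) hG f b
  obtain ⟨U, a, u, -, ha, hu⟩ := AlgSpDec.exists_affine_chart_at hP z
  obtain ⟨c, hc⟩ := (yon S).map_surjective (a ≫ pullback.snd f b)
  have : Flat c.left := locP_of_isPullback sqP hF hG (IsAlgSpace.yon_obj _) hf a (𝟙 _) c ha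
    (repWith_id _ _) (by rw [Category.comp_id, hc])
  have hcu : c.left u = (closedPoint A : ↥(Over.mk str).left) := by
    rw [← hu, Points.map_ofPt, ← hc] at hz
    have h2 := ((ofPt_comp c (𝟙 _) u).symm.trans (congrArg (Points.ofPt · u) (Category.comp_id _))).trans hz
    have h3 := congrArg (Points.toScheme (Over.mk str)) h2
    rw [Points.toScheme_ofScheme] at h3
    exact h3.trans (Points.toScheme_ofScheme _ _)
  let η : ↥(Over.mk str).left := (⟨⊥, Ideal.isPrime_bot⟩ : PrimeSpectrum A)
  have hη : η ⤳ c.left u := by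
    rw [hcu]
    exact IsLocalRing.specializes_closedPoint (show PrimeSpectrum A from η)
  obtain ⟨u', hu', hu'η⟩ := Flat.generalizingMap (f := c.left) hη
  let K' := U.left.residueField u'
  obtain ⟨A', i₂, hi₂, hι⟩ := exists_valuationRing_through (K := K') (U.left.fromSpecResidueField u') u
    ((congrArg (· ⤳ u) (U.left.fromSpecResidueField_apply u' _)).mpr hu')
  obtain ⟨φ, hφ⟩ : ∃ φ : CommRingCat.of A ⟶ CommRingCat.of A', Spec.map φ = i₂ ≫ c.left :=
    ⟨_, Spec.map_preimage _⟩
  have hloc : IsLocalHom φ.hom := by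
    refine ((local_hom_TFAE φ.hom).out 0 4).2 ?_
    have h : Spec.map φ (closedPoint A') = (closedPoint A : ↥(Over.mk str).left) := by
      rw [hφ, Scheme.Hom.comp_apply, hi₂]
      exact hcu
    exact congrArg PrimeSpectrum.asIdeal h
  have hinj : Function.Injective φ.hom := by
    let ι : CommRingCat.of A' ⟶ CommRingCat.of K' := CommRingCat.ofHom (algebraMap A' K')
    have h : Spec.map (φ ≫ ι) (closedPoint K') = η := by
      rw [Spec.map_comp, hφ, ← Category.assoc]
      change ((Spec.map ι ≫ i₂) ≫ c.left) (closedPoint K') = η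
      rw [hι, Scheme.Hom.comp_apply]
      refine (congrArg c.left (U.left.fromSpecResidueField_apply u' _)).trans hu'η
    have h' : Ideal.comap (ι.hom.comp φ.hom) (maximalIdeal K') = ⊥ := congrArg PrimeSpectrum.asIdeal h
    rw [maximalIdeal_eq_bot, ← RingHom.ker_eq_comap_bot, ← RingHom.injective_iff_ker_eq_bot] at h'
    exact Function.Injective.of_comp (f := ι.hom) h'
  let iT : Over.mk (Spec.map φ ≫ str) ⟶ U := CategoryTheory.Over.homMk i₂ (by
    change i₂ ≫ U.hom = Spec.map φ ≫ str
    rw [hφ, Category.assoc, ← Over.w c]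
    rfl)
  refine ⟨A', inferInstance, inferInstance, inferInstance, φ.hom, hinj, hloc,
    (yon S).map iT ≫ a ≫ pullback.fst f b, ?_⟩
  rw [Category.assoc, Category.assoc, pullback.condition, ← Category.assoc a, ← hc, ← Functor.map_comp_assoc]
  congr 2
  exact Over.OverMorphism.ext hφ.symm

end Groth.Agent.AlgSpVal
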