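import Groth.Agent.AlgSpVal.RefinedUC
import Groth.Agent.AlgSpVal.DvrThrough
import Groth.Agent.AlgSpVal.FlatLift

/-!
# The refined valuative criterion over discrete valuation rings
-/

set_option backward.isDefEq.respectTransparency false
set_option backward.isDefEq.respectTransparency.types false
set_option maxHeartbeats 400000

universe u

open CategoryTheory Limits Opposite AlgebraicGeometry AlgSp Groth.Agent.AlgSpLib IsLocalRing
open scoped TensorProduct

namespace Groth.Agent.AlgSpVal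

variable {S : Scheme.{u}}

section Descent

/-- The closure of the image of a closed set stays inside a closed set containing it on a chart. -/
theorem preimage_closure_subset {Pβ P₀ : Sp S} {W W₀ : Over S} {π : Pβ ⟶ P₀} {aB : (yon S).obj W ⟶ Pβ}
    {a₀ : (yon S).obj W₀ ⟶ P₀} (ha₀ : RepWith @Etale a₀) {ψ : W ⟶ W₀}
    (sq : IsPullback ((yon S).map ψ) aB a₀ π) {C : Set (Points Pβ)} {Z₀ : Set ↥W₀.left} (hZ₀ : IsClosed Z₀)
    (hsub : ∀ v, Points.ofPt aB v ∈ C → ψ.left v ∈ Z₀) :
    Points.ofPt a₀ ⁻¹' closure (Points.map π '' C) ⊆ Z₀ := by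
  rw [(isOpenMap_ofPt ha₀).preimage_closure_eq_closure_preimage (Points.continuous_ofPt a₀)]
  refine closure_minimal ?_ hZ₀
  rintro v ⟨c, hc, hcv⟩
  obtain ⟨z, hz₁, hz₂⟩ := exists_point_of_isPullback sq (x := Points.ofScheme _ v) (y := c) (by
    rw [← Points.ofPt_eq_map_ofScheme]; exact hcv.symm)
  obtain ⟨v', rfl⟩ := (Points.schemeHomeo _).surjective z
  rw [Points.map_yon_map_apply] at hz₁
  obtain rfl := (Points.schemeHomeo _).injective hz₁
  refine hsub v' ?_
  rw [Points.ofPt_eq_map_ofScheme]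
  exact hz₂.symm ▸ hc

variable {A : CommRingCat.{u}} {str : Spec A ⟶ S}

/-- Specialisations lift in a base change if they do in all base changes to polynomial rings. -/
theorem exists_specializes_of_polynomial {P : Sp S} (hP : IsAlgSpace P) (hc : CompactSpace (Points P))
    (p : P ⟶ (yon S).obj (Over.mk str)) {B : CommRingCat.{u}} (β : A ⟶ B)
    (x : Points (pullback p ((yon S).map (specToBase (str := str) β)))) (t : ↥(Over.mk (Spec.map β ≫ str)).left)
    (h : ∀ (n : ℕ) (φc : CommRingCat.of (MvPolynomial (ULift.{u} (Fin n)) A) ⟶ B) (hφc : polyHom A n ≫ φc = β)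
      (π : pullback p ((yon S).map (specToBase (str := str) β)) ⟶
        pullback p ((yon S).map (specToBase (str := str) (polyHom A n)))),
      π ≫ pullback.fst _ _ = pullback.fst _ _ →
      π ≫ pullback.snd _ _ = pullback.snd _ _ ≫ (yon S).map (specHom (str := str) (polyHom A n) φc β hφc) →
      ∃ z₀, Points.map π x ⤳ z₀ ∧ Points.map (pullback.snd p _) z₀ =
        Points.ofScheme _ ((specHom (str := str) (polyHom A n) φc β hφc).left t)) :
    ∃ z, x ⤳ z ∧ Points.map (pullback.snd p _) z = Points.ofScheme _ t := by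
  by_contra ht
  obtain ⟨R, γ, a, ha, ha', hap⟩ := exists_spec_chart hP hc p
  let _ : Algebra A R := γ.hom.toAlgebra
  let _ : Algebra A B := β.hom.toAlgebra
  let l : R ⟶ CommRingCat.of (R ⊗[A] B) := CommRingCat.ofHom Algebra.TensorProduct.includeLeftRingHom
  let r : B ⟶ CommRingCat.of (R ⊗[A] B) :=
    CommRingCat.ofHom (Algebra.TensorProduct.includeRight (R := A) (A := R) (B := B)).toRingHom
  have hpo : IsPushout γ β l r := CommRingCat.isPushout_tensorProduct A R B
  obtain ⟨aB, sqB, hBs⟩ := exists_chart_baseChange γ β l r hpo a hap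
  let C : Set (Points (pullback p ((yon S).map (specToBase (str := str) β)))) := closure {x}
  let Cw : Set (PrimeSpectrum (R ⊗[A] B)) := Points.ofPt aB ⁻¹' C
  have hUB : IsClosed Cw := isClosed_closure.preimage (Points.continuous_ofPt aB)
  let J : Ideal (R ⊗[A] B) := PrimeSpectrum.vanishingIdeal Cw
  have hJ : PrimeSpectrum.zeroLocus (J : Set (R ⊗[A] B)) = Cw := by
    rw [PrimeSpectrum.zeroLocus_vanishingIdeal_eq_closure]; exact hUB.closure_eq
  obtain ⟨n, φ, hφ⟩ := exists_polynomial_descent J (show PrimeSpectrum B from t).asIdeal fun Q hQ hJQ hQt => by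
    have hw : (⟨Q, hQ⟩ : PrimeSpectrum (R ⊗[A] B)) ∈ Cw := hJ ▸ (show (J : Set (R ⊗[A] B)) ⊆ Q from hJQ)
    exact ht ⟨_, specializes_iff_mem_closure.2 hw, (map_ofPt_spec hBs _).trans (congrArg _ (PrimeSpectrum.ext hQt))⟩
  let B₀ : CommRingCat.{u} := CommRingCat.of (MvPolynomial (ULift.{u} (Fin n)) A)
  let l₀ : R ⟶ CommRingCat.of (R ⊗[A] B₀) := CommRingCat.ofHom Algebra.TensorProduct.includeLeftRingHom
  let r₀ : B₀ ⟶ CommRingCat.of (R ⊗[A] B₀) :=
    CommRingCat.ofHom (Algebra.TensorProduct.includeRight (R := A) (A := R) (B := B₀)).toRingHom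
  have hpo₀ : IsPushout γ (polyHom A n) l₀ r₀ := CommRingCat.isPushout_tensorProduct A R B₀
  obtain ⟨a₀, sq₀, h₀s⟩ := exists_chart_baseChange γ (polyHom A n) l₀ r₀ hpo₀ a hap
  let φc : B₀ ⟶ B := CommRingCat.ofHom φ.toRingHom
  have hφc : polyHom A n ≫ φc = β := CommRingCat.hom_ext (RingHom.ext φ.commutes)
  let Φ : CommRingCat.of (R ⊗[A] B₀) ⟶ CommRingCat.of (R ⊗[A] B) :=
    CommRingCat.ofHom (Algebra.TensorProduct.map (AlgHom.id A R) φ).toRingHom
  have hl : l₀ ≫ Φ = l := by
    ext x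
    change Algebra.TensorProduct.map (AlgHom.id A R) φ (x ⊗ₜ 1) = x ⊗ₜ 1
    simp
  have hr : r₀ ≫ Φ = φc ≫ r := by
    refine CommRingCat.hom_ext (RingHom.ext fun x => ?_)
    change Algebra.TensorProduct.map (AlgHom.id A R) φ (1 ⊗ₜ x) = 1 ⊗ₜ φ x
    simp
  let π := pullback.lift (pullback.fst p ((yon S).map (specToBase (str := str) β)))
    (pullback.snd p _ ≫ (yon S).map (specHom (str := str) (polyHom A n) φc β hφc))
    (by rw [pullback.condition, Category.assoc, ← Functor.map_comp, specHom_toBase]) (f := p)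
    (g := (yon S).map (specToBase (str := str) (polyHom A n)))
  have sqπ := isPullback_chart sqB hBs sq₀ h₀s φc hφc Φ hl hr π (pullback.lift_fst _ _ _) (pullback.lift_snd _ _ _)
  obtain ⟨z₀, hxz, hz₀⟩ := h n φc hφc π (pullback.lift_fst _ _ _) (pullback.lift_snd _ _ _)
  obtain ⟨w, rfl⟩ := surjective_ofPt (repWith_of_isPullback sq₀ ha') z₀
  have hmem := preimage_closure_subset (C := C) (repWith_of_isPullback sq₀ ha) sqπ
    (Z₀ := (PrimeSpectrum.zeroLocus (J.comap Φ.hom : Set (R ⊗[A] B₀)) : Set (PrimeSpectrum (R ⊗[A] B₀))))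
    (PrimeSpectrum.isClosed_zeroLocus _)
    (fun v hv y hy => hJ.ge (show (v : PrimeSpectrum (R ⊗[A] B)) ∈ Cw from hv) hy)
    (a := w) (hxz.mem_closed isClosed_closure (subset_closure ⟨x, subset_closure rfl, rfl⟩))
  rw [map_ofPt_spec h₀s] at hz₀
  exact hφ (show PrimeSpectrum (R ⊗[A] B₀) from w).asIdeal (show PrimeSpectrum (R ⊗[A] B₀) from w).isPrime
    hmem (congrArg PrimeSpectrum.asIdeal ((Points.schemeHomeo _).injective hz₀))

end Descent

variable {F G H : Sp S}

/-- A specialisation over the closed point gives a lift after an extension. -/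
theorem hasLiftExt_of_specializes (hF : IsAlgSpace F) (hG : IsAlgSpace G) {f : F ⟶ G} (sq : ValSq f)
    (hdec : AlgSp.IsDecent (pullback f sq.bot)) (z : Points (pullback f sq.bot))
    (hxz : Points.ofPt (pullback.lift sq.top ((yon S).map sq.j) sq.comm) (closedPoint sq.K : ↥sq.ptK.left) ⤳ z)
    (hz : Points.map (pullback.snd f sq.bot) z = Points.ofScheme sq.ptA (closedPoint sq.A : ↥sq.ptA.left)) :
    sq.HasLiftExt := by
  let t : (yon S).obj sq.ptK ⟶ pullback f sq.bot := pullback.lift sq.top ((yon S).map sq.j) sq.comm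
  obtain ⟨U, a, u, -, ha, rfl⟩ := AlgSpDec.exists_affine_chart_at
    (isAlgSpace_pullback hF (IsAlgSpace.yon_obj _) hG f sq.bot) z
  obtain ⟨u', hu's, hu'⟩ := AlgSpDec.exists_specializes_lift_of_isDecent hdec ha hxz
  have sqW : IsPullback ((yon S).map (ha.rep.fst' t)) ((yon S).map (ha.rep.snd t)) a t := ha.rep.isPullback' t
  obtain ⟨v, hv, -⟩ := exists_ofPt_of_eq sqW hu'
  have : Etale (ha.rep.snd t).left := ha.property_snd t
  obtain ⟨K', _, ψ, k, -, hkv, hkw⟩ := exists_separable_point (ha.rep.snd t).left v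
  let kW : Over.mk (Spec.map (CommRingCat.ofHom ψ) ≫ sq.ptK.hom) ⟶ ha.rep.pullback t :=
    CategoryTheory.Over.homMk k (by
      rw [← Over.w (ha.rep.snd t), ← Category.assoc, hkw]
      rfl)
  obtain ⟨c, hc⟩ := (yon S).map_surjective (a ≫ pullback.snd f sq.bot)
  have hwc : ha.rep.fst' t ≫ c = ha.rep.snd t ≫ sq.j := (yon S).map_injective (by
    rw [Functor.map_comp, Functor.map_comp, hc, ← Category.assoc, sqW.w, Category.assoc, pullback.lift_snd])
  suffices h' : ∃ e : sq.DomExt, True ∧ e.HasLift from let ⟨e, _, he⟩ := h'; ⟨e, he⟩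
  refine exists_domExt_of_field_point sq (a := a ≫ pullback.fst f sq.bot) (c := c)
    (by rw [Category.assoc, pullback.condition, hc, Category.assoc]) ψ (kW ≫ ha.rep.fst' t) u ?_ ?_ ?_ ?_
    (Q := fun _ _ _ => True) trivial
  · have e1 : (kW ≫ ha.rep.fst' t).left (closedPoint K') = u' := by
      rw [Over.comp_left, Scheme.Hom.comp_apply]
      change (ha.rep.fst' t).left (k _) = _
      rw [hkv, hv]
    rw [e1]
    exact hu's
  · rw [Points.map_ofPt, ← hc] at hz
    have h2 := ((ofPt_comp c (𝟙 _) u).symm.trans (congrArg (Points.ofPt · u) (Category.comp_id _))).trans hz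
    exact (Points.schemeHomeo sq.ptA).injective h2
  · rw [Functor.map_comp, Category.assoc, ← Category.assoc ((yon S).map (ha.rep.fst' t)), sqW.w, Category.assoc,
      pullback.lift_fst, ← Category.assoc, ← Functor.map_comp]
    congr 2
    exact Over.OverMorphism.ext hkw
  · rw [Over.comp_left, Category.assoc, ← Over.comp_left, hwc, Over.comp_left, ← Category.assoc]
    congr 1

/-- The square over an extension. -/
noncomputable def extSq {f : F ⟶ G} {sq : ValSq f} (e : sq.DomExt) : ValSq f where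
  A := e.A'
  K := e.K'
  str := Spec.map (CommRingCat.ofHom e.φ) ≫ sq.str
  top := (yon S).map (extK e) ≫ sq.top
  bot := (yon S).map (extA e) ≫ sq.bot
  comm := by
    rw [Category.assoc, sq.comm, ← Functor.map_comp_assoc, ← Functor.map_comp_assoc]
    exact congrArg (fun m => (yon S).map m ≫ sq.bot) (extJ_extA e).symm

theorem hasLiftExt_of_extSq {f : F ⟶ G} {sq : ValSq f} (e₁ : sq.DomExt) (h : (extSq e₁).HasLiftExt) :
    sq.HasLiftExt := by
  obtain ⟨e₂, he₂⟩ := h
  obtain ⟨l₂, hl₂, hl₂'⟩ := (hasLift_iff e₂).1 he₂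
  let e : sq.DomExt :=
    { A' := e₂.A', K' := e₂.K', φ := e₂.φ.comp e₁.φ, ψ := e₂.ψ.comp e₁.ψ,
      comm := by
        rw [← RingHom.comp_assoc]
        erw [e₂.comm]
        rw [RingHom.comp_assoc]
        erw [e₁.comm]
        rfl
      isLocalHom := ⟨fun a ha => e₁.isLocalHom.map_nonunit a (e₂.isLocalHom.map_nonunit _ ha)⟩ }
  let c : e.ptA' ⟶ e₂.ptA' := CategoryTheory.Over.homMk (𝟙 (Spec (CommRingCat.of e₂.A')))
    (comp₂_eq (CommRingCat.ofHom e₁.φ) (CommRingCat.ofHom e₂.φ) sq.str (CommRingCat.ofHom e.φ)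
      (CommRingCat.ofHom_comp e₁.φ e₂.φ))
  let cK : e.ptK' ⟶ e₂.ptK' := CategoryTheory.Over.homMk (𝟙 (Spec (CommRingCat.of e₂.K')))
    (comp₃_eq (CommRingCat.ofHom e₁.φ) (CommRingCat.ofHom e₂.φ)
      (CommRingCat.ofHom (algebraMap e₂.A' e₂.K')) sq.str (CommRingCat.ofHom e.φ)
      (CommRingCat.ofHom_comp e₁.φ e₂.φ))
  have hA : c ≫ extA e₂ ≫ extA e₁ = extA e := Over.OverMorphism.ext (by
    change 𝟙 _ ≫ Spec.map _ ≫ Spec.map _ = Spec.map _
    rw [Category.id_comp, ← Spec.map_comp, ← CommRingCat.ofHom_comp])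
  have hK : cK ≫ extK e₂ ≫ extK e₁ = extK e := Over.OverMorphism.ext (by
    change 𝟙 _ ≫ Spec.map _ ≫ Spec.map _ = Spec.map _
    rw [Category.id_comp, ← Spec.map_comp, ← CommRingCat.ofHom_comp])
  have hJ : extJ e ≫ c = cK ≫ extJ e₂ := Over.OverMorphism.ext (by
    change Spec.map _ ≫ 𝟙 _ = 𝟙 _ ≫ Spec.map _
    rw [Category.comp_id, Category.id_comp])
  refine ⟨e, (hasLift_iff e).2 ⟨(yon S).map c ≫ l₂, ?_, ?_⟩⟩
  · rw [← Functor.map_comp_assoc, hJ, Functor.map_comp, Category.assoc, hl₂, ← hK, Functor.map_comp,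
      Functor.map_comp, Category.assoc, Category.assoc]
    rfl
  · rw [Category.assoc, hl₂', ← hA, Functor.map_comp, Functor.map_comp, Category.assoc, Category.assoc]
    rfl

/-- Specialisations of points coming from the dense subspace lift through discrete valuation rings. -/
theorem exists_specializes_dvr_dense (hH : IsAlgSpace H) (hG : IsAlgSpace G) {f : F ⟶ G} {h : H ⟶ F}
    (hlft : LocP @LocallyOfFiniteType (h ≫ f))
    (hval : ∀ sq : ValSq (h ≫ f), IsDiscreteValuationRing sq.A →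
      ∃ l : (yon S).obj sq.ptA ⟶ F, (yon S).map sq.j ≫ l = sq.top ≫ h ∧ l ≫ f = sq.bot)
    {T₀ : Over S} [IsLocallyNoetherian T₀.left] {g₀ : (yon S).obj T₀ ⟶ G} {P₀ : Sp S} {e₀ : P₀ ⟶ F}
    {q₀ : P₀ ⟶ (yon S).obj T₀} (sq₀ : IsPullback e₀ q₀ f g₀) (M : pullback (h ≫ f) g₀ ⟶ P₀)
    (hM₁ : M ≫ e₀ = pullback.fst (h ≫ f) g₀ ≫ h) (hM₂ : M ≫ q₀ = pullback.snd (h ≫ f) g₀)
    (x : Points (pullback (h ≫ f) g₀)) (s t' : ↥T₀.left)
    (hx : Points.map (pullback.snd (h ≫ f) g₀) x = Points.ofScheme T₀ s) (hst : s ⤳ t') :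
    ∃ z₀, Points.map M x ⤳ z₀ ∧ Points.map q₀ z₀ = Points.ofScheme T₀ t' := by
  have sqH := IsPullback.of_hasPullback (h ≫ f) g₀
  obtain ⟨U, a, u, -, ha, rfl⟩ := AlgSpDec.exists_affine_chart_at
    (isAlgSpace_pullback hH (IsAlgSpace.yon_obj _) hG (h ≫ f) g₀) x
  obtain ⟨gU, hgU⟩ := (yon S).map_surjective (a ≫ pullback.snd (h ≫ f) g₀)
  have : LocallyOfFiniteType gU.left := locP_of_isPullback sqH hH hG (IsAlgSpace.yon_obj T₀) hlft a (𝟙 _) gU ha
    (repWith_id _ T₀) (by rw [Category.comp_id, hgU])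
  rw [Points.map_ofPt, ← hgU] at hx
  have hgu : gU.left u = s := (Points.schemeHomeo T₀).injective
    (((ofPt_comp gU (𝟙 _) u).symm.trans (congrArg (Points.ofPt · u) (Category.comp_id _))).trans hx)
  obtain ⟨A₂, _, _, hA₂, i, k, hi, hku, hk⟩ := exists_dvr_path_field gU.left u t' (hgu ▸ hst)
  let iT : Over.mk (i ≫ T₀.hom) ⟶ T₀ := CategoryTheory.Over.homMk i rfl
  let kU : Over.mk (Spec.map (CommRingCat.ofHom (algebraMap A₂ (FractionRing A₂))) ≫ i ≫ T₀.hom) ⟶ U :=
    CategoryTheory.Over.homMk k (by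
      change k ≫ U.hom = _ ≫ i ≫ T₀.hom
      rw [← Over.w gU, ← Category.assoc, hk, Category.assoc])
  let sqD : ValSq (h ≫ f) :=
    { A := A₂, K := FractionRing A₂, str := i ≫ T₀.hom, top := (yon S).map kU ≫ a ≫ pullback.fst _ _,
      bot := (yon S).map iT ≫ g₀,
      comm := by
        rw [Category.assoc, Category.assoc, pullback.condition, ← Category.assoc a, ← hgU,
          ← Functor.map_comp_assoc, ← Functor.map_comp_assoc]
        congr 2
        exact Over.OverMorphism.ext hk }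
  obtain ⟨l, hl₁, hl₂⟩ := hval sqD hA₂
  let l₀ : (yon S).obj sqD.ptA ⟶ P₀ := sq₀.lift l ((yon S).map iT) hl₂
  refine ⟨Points.ofPt l₀ (closedPoint A₂ : ↥sqD.ptA.left), ?_, ?_⟩
  · have h1 : (yon S).map sqD.j ≫ l₀ = (yon S).map kU ≫ a ≫ M := by
      have hk' : sqD.j ≫ iT = kU ≫ gU := Over.OverMorphism.ext hk.symm
      apply sq₀.hom_ext
      · rw [Category.assoc, Category.assoc, Category.assoc, sq₀.lift_fst, hM₁]
        exact hl₁.trans ((Category.assoc _ _ _).trans (congrArg _ (Category.assoc _ _ _)))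
      · rw [Category.assoc, Category.assoc, Category.assoc, sq₀.lift_snd, hM₂, ← hgU, ← Functor.map_comp,
          ← Functor.map_comp, hk']
    have h2 : Points.map M (Points.ofPt a u) = Points.ofPt l₀ (sqD.j.left (closedPoint (FractionRing A₂))) := by
      rw [Points.map_ofPt, ← ofPt_comp, h1, ofPt_comp]
      congr 1
      exact hku.symm
    rw [h2]
    exact (IsLocalRing.specializes_closedPoint (show PrimeSpectrum A₂ from _)).map (Points.continuous_ofPt l₀)
  · rw [Points.map_ofPt, sq₀.lift_snd]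
    refine ((congrArg (Points.ofPt · _) (Category.comp_id _).symm).trans (ofPt_comp iT (𝟙 _) _)).trans ?_
    exact congrArg (Points.ofScheme T₀) hi

/-- Lifting through a Noetherian chart of the target. -/
theorem hasLiftExt_of_dvr_chart (hH : IsAlgSpace H) (hF : IsAlgSpace F) (hG : IsAlgSpace G) {f : F ⟶ G}
    {h : H ⟶ F} (hqc : IsQuasiCompactMor f) (hfs : IsSeparatedMor f)
    (hlft : LocP @LocallyOfFiniteType (h ≫ f))
    (hval : ∀ sq : ValSq (h ≫ f), IsDiscreteValuationRing sq.A →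
      ∃ l : (yon S).obj sq.ptA ⟶ F, (yon S).map sq.j ≫ l = sq.top ≫ h ∧ l ≫ f = sq.bot)
    (sq : ValSq f) (t₀ : (yon S).obj sq.ptK ⟶ H) (ht₀ : t₀ ≫ h = sq.top)
    {C : CommRingCat.{u}} [IsNoetherianRing C] {str : Spec C ⟶ S} (g : (yon S).obj (Over.mk str) ⟶ G)
    (β : C ⟶ CommRingCat.of sq.A) (m : Over.mk (Spec.map β ≫ str) ⟶ sq.ptA) (minv : sq.ptA ⟶ Over.mk (Spec.map β ≫ str))
    (hmm : minv ≫ m = 𝟙 _) (hη : minv.left (closedPoint sq.A : ↥sq.ptA.left) = (closedPoint sq.A : ↥(Spec (CommRingCat.of sq.A))))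
    (hmc : m.left (closedPoint sq.A : ↥(Spec (CommRingCat.of sq.A))) = (closedPoint sq.A : ↥sq.ptA.left))
    (hmg : (yon S).map (specToBase (str := str) β) ≫ g = (yon S).map m ≫ sq.bot) : sq.HasLiftExt := by
  let Tβ : Over S := Over.mk (Spec.map β ≫ str)
  let p := pullback.snd f g
  have sq₁ := IsPullback.of_hasPullback f g
  have hP : IsAlgSpace (pullback f g) := isAlgSpace_pullback hF (IsAlgSpace.yon_obj _) hG f g
  have : IsAffine (Over.mk str).left := inferInstanceAs (IsAffine (Spec C))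
  have hPc : CompactSpace (Points (pullback f g)) := (AlgSpPts.isQuasiCompactSp_iff hP).1
    (hqc (IsAlgSpace.yon_obj _) isQuasiCompactSp_yon _ _ _ sq₁)
  have hcomm₁ : sq.top ≫ f = ((yon S).map (sq.j ≫ minv) ≫ (yon S).map (specToBase (str := str) β)) ≫ g := by
    rw [Category.assoc, hmg, ← Functor.map_comp_assoc, Category.assoc, hmm, Category.comp_id]
    exact sq.comm
  let xP : (yon S).obj sq.ptK ⟶ pullback p ((yon S).map (specToBase (str := str) β)) :=
    pullback.lift (pullback.lift sq.top _ hcomm₁) ((yon S).map (sq.j ≫ minv)) (by rw [pullback.lift_snd])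
  let η : ↥sq.ptK.left := closedPoint sq.K
  obtain ⟨z, hxz, hz⟩ := exists_specializes_of_polynomial hP hPc p β (Points.ofPt xP η)
    (closedPoint sq.A : ↥Tβ.left) fun n φc hφc π hπ₁ hπ₂ => by
    let T₀ : Over S := Over.mk (Spec.map (polyHom C n) ≫ str)
    let f₀ : Tβ ⟶ T₀ := specHom (str := str) (polyHom C n) φc β hφc
    let d : (yon S).obj T₀ ⟶ (yon S).obj (Over.mk str) := (yon S).map (specToBase (str := str) (polyHom C n))
    have : IsLocallyNoetherian T₀.left :=
      inferInstanceAs (IsLocallyNoetherian (Spec (CommRingCat.of (MvPolynomial (ULift.{u} (Fin n)) C))))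
    let q := pullback.snd (h ≫ f) (d ≫ g)
    have sqH := IsPullback.of_hasPullback (h ≫ f) (d ≫ g)
    let tH : (yon S).obj sq.ptK ⟶ pullback (h ≫ f) (d ≫ g) :=
      pullback.lift t₀ ((yon S).map (sq.j ≫ minv ≫ f₀)) (by
        rw [← Category.assoc t₀, ht₀]
        refine hcomm₁.trans ?_
        rw [← Functor.map_comp, ← Functor.map_comp_assoc, Category.assoc, Category.assoc, Category.assoc,
          specHom_toBase])
    let M : pullback (h ≫ f) (d ≫ g) ⟶ pullback p d :=
      pullback.lift (pullback.lift (pullback.fst (h ≫ f) (d ≫ g) ≫ h) (q ≫ d)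
        (by rw [Category.assoc, Category.assoc, pullback.condition])) q (by rw [pullback.lift_snd])
    have hxM : xP ≫ π = tH ≫ M := by
      apply pullback.hom_ext
      · rw [Category.assoc, Category.assoc, hπ₁, pullback.lift_fst, pullback.lift_fst]
        apply pullback.hom_ext
        · rw [pullback.lift_fst, Category.assoc, pullback.lift_fst, pullback.lift_fst_assoc, ht₀]
        · rw [pullback.lift_snd, Category.assoc, pullback.lift_snd, pullback.lift_snd_assoc, ← Functor.map_comp,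
            ← Functor.map_comp, Category.assoc, Category.assoc, Category.assoc, specHom_toBase]
      · rw [Category.assoc, Category.assoc, hπ₂, pullback.lift_snd, pullback.lift_snd_assoc, pullback.lift_snd,
          ← Functor.map_comp, Category.assoc]
    have sqP : IsPullback (pullback.fst p d ≫ pullback.fst f g) (pullback.snd p d) f (d ≫ g) :=
      (IsPullback.of_hasPullback p d).paste_horiz (IsPullback.of_hasPullback f g)
    obtain ⟨z₀, h₁, h₂⟩ := exists_specializes_dvr_dense hH hG hlft hval sqP M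
      (by rw [← Category.assoc, pullback.lift_fst, pullback.lift_fst]) (pullback.lift_snd _ _ _)
      (Points.ofPt tH η) (f₀.left ((sq.j ≫ minv).left η)) (f₀.left (closedPoint sq.A : ↥Tβ.left)) (by
        rw [Points.map_ofPt, pullback.lift_snd]
        refine ((congrArg (Points.ofPt · η) (Category.comp_id _).symm).trans (ofPt_comp _ (𝟙 _) η)).trans ?_
        rfl)
      ((IsLocalRing.specializes_closedPoint (show PrimeSpectrum sq.A from _)).map f₀.left.continuous)
    refine ⟨z₀, ?_, h₂⟩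
    rwa [Points.map_ofPt, hxM, ← Points.map_ofPt]
  -- back to the square
  let N : pullback p ((yon S).map (specToBase (str := str) β)) ⟶ pullback f sq.bot :=
    pullback.lift (pullback.fst p _ ≫ pullback.fst f g) (pullback.snd p _ ≫ (yon S).map m) (by
      rw [Category.assoc, pullback.condition, ← Category.assoc, pullback.condition, Category.assoc, hmg,
        Category.assoc])
  have hN' : xP ≫ N = pullback.lift sq.top ((yon S).map sq.j) sq.comm := by
    apply pullback.hom_ext
    · rw [Category.assoc, pullback.lift_fst, pullback.lift_fst_assoc, pullback.lift_fst, pullback.lift_fst]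
    · rw [Category.assoc, pullback.lift_snd, pullback.lift_snd_assoc, pullback.lift_snd, ← Functor.map_comp,
        Category.assoc, hmm, Category.comp_id]
  have : IsAffine sq.ptA.left := inferInstanceAs (IsAffine (Spec (CommRingCat.of sq.A)))
  refine hasLiftExt_of_specializes hF hG sq
    (AlgSpDec.isDecent_of_isQuasiSeparatedSp (isAlgSpace_pullback hF (IsAlgSpace.yon_obj _) hG f _)
      (isQuasiSeparatedSp_of_toAffine _ (AlgSpPts.isQuasiSeparatedMor_of_isPullback (IsPullback.of_hasPullback f _)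
        (repWith_mono (P := @IsClosedImmersion) (Q := @QuasiCompact)
          (fun _ _ e (_ : IsClosedImmersion e) => inferInstanceAs (QuasiCompact e)) _ hfs))))
    (Points.map N z) ?_ ?_
  · rw [← hN', ← Points.map_ofPt]
    exact hxz.map (Points.continuous_map N)
  · rw [← Points.map_comp, pullback.lift_snd, Points.map_comp, hz]
    exact (Points.map_yon_map_apply m _).trans (congrArg _ hmc)

/-- A Noetherian affine chart at a point. -/
theorem exists_noetherian_chart (hG : IsAlgSpace G) (hN : IsLocNoethSp G) (y : Points G) :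
    ∃ (C : CommRingCat.{u}) (_ : IsNoetherianRing C) (str : Spec C ⟶ S) (g : (yon S).obj (Over.mk str) ⟶ G),
      LocP @Flat g ∧ y ∈ Set.range (Points.map g) := by
  obtain ⟨V, b, v, hV, hb, hbv⟩ := AlgSpDec.exists_affine_chart_at hG y
  have : IsLocallyNoetherian V.left := AlgSpDec.isLocallyNoetherian_chart hb hN
  let str : Spec Γ(V.left, ⊤) ⟶ S := V.left.isoSpec.inv ≫ V.hom
  let iV : Over.mk str ⟶ V := CategoryTheory.Over.homMk V.left.isoSpec.inv rfl
  have : IsOpenImmersion iV.left := inferInstanceAs (IsOpenImmersion V.left.isoSpec.inv)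
  have hg : RepWith @Etale ((yon S).map iV ≫ b) :=
    repWith_comp ((repWith_yon_map_iff _ _).2 (inferInstance : Etale iV.left)) hb
  refine ⟨_, IsLocallyNoetherian.component_noetherian (X := V.left) ⟨⊤, isAffineOpen_top _⟩, str, _,
    locP_of_repWith (repWith_mono (P := @Etale) (Q := @Flat)
      (fun _ _ e (_ : Etale e) => inferInstanceAs (Flat e)) _ hg),
    Points.ofScheme (Over.mk str) (V.left.isoSpec.hom v), ?_⟩
  rw [← Points.ofPt_eq_map_ofScheme, ofPt_comp, ← hbv]
  refine congrArg (Points.ofPt b) ?_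
  change V.left.isoSpec.inv (V.left.isoSpec.hom v) = v
  rw [← Scheme.Hom.comp_apply, Iso.hom_inv_id]
  rfl

/-- Lifting when the bottom arrow factors through a Noetherian chart. -/
theorem hasLiftExt_of_dvr_factor (hH : IsAlgSpace H) (hF : IsAlgSpace F) (hG : IsAlgSpace G) {f : F ⟶ G}
    {h : H ⟶ F} (hqc : IsQuasiCompactMor f) (hfs : IsSeparatedMor f)
    (hlft : LocP @LocallyOfFiniteType (h ≫ f))
    (hval : ∀ sq : ValSq (h ≫ f), IsDiscreteValuationRing sq.A →
      ∃ l : (yon S).obj sq.ptA ⟶ F, (yon S).map sq.j ≫ l = sq.top ≫ h ∧ l ≫ f = sq.bot)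
    (sq : ValSq f) (t₀ : (yon S).obj sq.ptK ⟶ H) (ht₀ : t₀ ≫ h = sq.top)
    {C : CommRingCat.{u}} [IsNoetherianRing C] {str : Spec C ⟶ S} (g : (yon S).obj (Over.mk str) ⟶ G)
    (mc : sq.ptA ⟶ Over.mk str) (hmc : (yon S).map mc ≫ g = sq.bot) : sq.HasLiftExt := by
  obtain ⟨β, hβ⟩ : ∃ β : C ⟶ CommRingCat.of sq.A, Spec.map β = mc.left := ⟨_, Spec.map_preimage _⟩
  have hTβ : Spec.map β ≫ str = sq.ptA.hom := by rw [hβ]; exact Over.w mc
  let m : Over.mk (Spec.map β ≫ str) ⟶ sq.ptA := CategoryTheory.Over.homMk (𝟙 (Spec (CommRingCat.of sq.A)))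
    ((Category.id_comp _).trans hTβ.symm)
  let minv : sq.ptA ⟶ Over.mk (Spec.map β ≫ str) := CategoryTheory.Over.homMk (𝟙 (Spec (CommRingCat.of sq.A)))
    ((Category.id_comp _).trans hTβ)
  have hmm : minv ≫ m = 𝟙 _ := Over.OverMorphism.ext (Category.id_comp _)
  have hmg : (yon S).map (specToBase (str := str) β) ≫ g = (yon S).map m ≫ sq.bot := by
    have : m ≫ mc = specToBase (str := str) β := Over.OverMorphism.ext ((Category.id_comp _).trans hβ.symm)
    rw [← this, Functor.map_comp, Category.assoc, hmc]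
  exact hasLiftExt_of_dvr_chart hH hF hG hqc hfs hlft hval sq t₀ ht₀ g β m minv hmm rfl rfl hmg

/-- An injective local map of valuation rings as an extension of a square. -/
noncomputable def domExtOf {f : F ⟶ G} (sq : ValSq f) (A' K' : Type u) [CommRing A'] [IsDomain A'] [ValuationRing A']
    [Field K'] [Algebra A' K'] [IsFractionRing A' K'] (φ : sq.A →+* A') (hφi : Function.Injective φ)
    (hφl : IsLocalHom φ) : sq.DomExt where
  A' := A'
  K' := K'
  φ := φ
  ψ := IsFractionRing.lift (g := (algebraMap A' K').comp φ) ((IsFractionRing.injective A' K').comp hφi)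
  comm := RingHom.ext fun r =>
    (IsFractionRing.lift_algebraMap (g := (algebraMap A' K').comp φ) ((IsFractionRing.injective A' K').comp hφi) r).symm
  isLocalHom := hφl

theorem hasLiftExt_of_dvr_dense (hH : IsAlgSpace H) (hF : IsAlgSpace F) (hG : IsAlgSpace G) {f : F ⟶ G}
    {h : H ⟶ F} (hN : IsLocNoethSp G) (hqc : IsQuasiCompactMor f) (hfs : IsSeparatedMor f)
    (hlft : LocP @LocallyOfFiniteType (h ≫ f))
    (hval : ∀ sq : ValSq (h ≫ f), IsDiscreteValuationRing sq.A →
      ∃ l : (yon S).obj sq.ptA ⟶ F, (yon S).map sq.j ≫ l = sq.top ≫ h ∧ l ≫ f = sq.bot)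
    (sq : ValSq f) (t₀ : (yon S).obj sq.ptK ⟶ H) (ht₀ : t₀ ≫ h = sq.top) : sq.HasLiftExt := by
  -- a Noetherian chart at the image of the closed point
  obtain ⟨C, _, str, g, hg, hy⟩ :=
    exists_noetherian_chart hG hN (Points.ofPt sq.bot (closedPoint sq.A : ↥sq.ptA.left))
  -- an extension mapping to the chart
  obtain ⟨A', _, _, _, φ, hφi, hφl, lg, hlg⟩ :=
    exists_lift_of_flat (IsAlgSpace.yon_obj _) hG hg sq.A sq.str sq.bot hy
  let e₁ : sq.DomExt := domExtOf sq A' (FractionRing A') φ hφi hφl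
  obtain ⟨m', hm'⟩ := (yon S).map_surjective lg
  refine hasLiftExt_of_extSq e₁ ?_
  exact hasLiftExt_of_dvr_factor hH hF hG hqc hfs hlft hval (extSq e₁) ((yon S).map (extK e₁) ≫ t₀)
    (by rw [Category.assoc, ht₀]; rfl) g m' (by rw [hm']; exact hlg)

theorem isUnivClosedMor_of_dvr_dense (hH : IsAlgSpace H) (hF : IsAlgSpace F) (hG : IsAlgSpace G) {f : F ⟶ G}
    {h : H ⟶ F} (hN : IsLocNoethSp G) (hf : IsQuasiCompactMor f) (hfs : IsSeparatedMor f)
    (hhf : LocP @LocallyOfFiniteType (h ≫ f)) (hqc : IsQuasiCompactMor h) (hd : DenseRange (Points.map h))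
    (hval : ∀ sq : ValSq (h ≫ f), IsDiscreteValuationRing sq.A →
      ∃ l : (yon S).obj sq.ptA ⟶ F, (yon S).map sq.j ≫ l = sq.top ≫ h ∧ l ≫ f = sq.bot) :
    IsUnivClosedMor f :=
  isUnivClosedMor_of_dense hH hF hG hf hqc hd fun sq ⟨t, ht⟩ =>
    ⟨uniqVC_of_isSeparatedMor hfs sq, hasLiftExt_of_dvr_dense hH hF hG hN hf hfs hhf hval sq t ht⟩

theorem isSeparatedMor_of_dvr_dense (hH : IsAlgSpace H) (hF : IsAlgSpace F) (hG : IsAlgSpace G) {f : F ⟶ G}
    {h : H ⟶ F} (hN : IsLocNoethSp G) (hflt : LocP @LocallyOfFiniteType f) (hqs : IsQuasiSeparatedMor f)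
    (hh : IsFiniteTypeMor h) (hd : DenseRange (Points.map h))
    (hval : ∀ sq : ValSq (h ≫ f), IsDiscreteValuationRing sq.A →
      ∀ l l' : (yon S).obj sq.ptA ⟶ F, (yon S).map sq.j ≫ l = sq.top ≫ h ∧ l ≫ f = sq.bot →
        (yon S).map sq.j ≫ l' = sq.top ≫ h ∧ l' ≫ f = sq.bot → l = l') :
    IsSeparatedMor f := by
  obtain ⟨hr, hl, -, hsep, -⟩ := AlgSpPts.diagonal_package hF hG f
  have hFF : IsAlgSpace (pullback f f) := isAlgSpace_pullback hF hF hG f f
  have hN' : IsLocNoethSp (pullback f f) :=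
    isLocNoethSp_of_lft hFF hG (pullback.snd f f ≫ f)
      (locP_comp hFF hF hG (locP_of_isPullback (IsPullback.of_hasPullback f f) hF hG hF hflt) hflt) hN
  refine AlgSpPts.repWith_isClosedImmersion_of_univClosed hr hl
    (isUnivClosedMor_of_dvr_dense hH hF hFF hN' (AlgSpPts.isQuasiCompactMor_of_repWith hqs) ?_
      (locP_comp hH hF hFF hh.1 (locP_of_repWith hl)) hh.2 hd ?_)
  · have : Mono (pullback.diagonal f) := inferInstance
    exact repWith_of_isIso @IsClosedImmersion _
  intro sq hA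
  let l := sq.bot ≫ pullback.fst f f
  let l' := sq.bot ≫ pullback.snd f f
  have h1 : (yon S).map sq.j ≫ l = sq.top ≫ h := by
    rw [← Category.assoc]
    refine (congrArg (· ≫ pullback.fst f f) sq.comm.symm).trans ?_
    rw [Category.assoc, Category.assoc, pullback.diagonal_fst, Category.comp_id]
  have h1' : (yon S).map sq.j ≫ l' = sq.top ≫ h := by
    rw [← Category.assoc]
    refine (congrArg (· ≫ pullback.snd f f) sq.comm.symm).trans ?_
    rw [Category.assoc, Category.assoc, pullback.diagonal_snd, Category.comp_id]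
  let sqf : ValSq (h ≫ f) :=
    { A := sq.A, K := sq.K, str := sq.str, top := sq.top, bot := l ≫ f,
      comm := by
        rw [← Category.assoc]
        exact (congrArg (· ≫ f) h1).symm.trans (Category.assoc _ _ _) }
  have hll : l = l' := hval sqf hA l l' ⟨h1, rfl⟩ ⟨h1', by
    change l' ≫ f = l ≫ f
    simp only [l, l', Category.assoc, pullback.condition]⟩
  refine ⟨l, h1, ?_⟩
  apply pullback.hom_ext
  · rw [Category.assoc, pullback.diagonal_fst, Category.comp_id]
  · rw [Category.assoc, pullback.diagonal_snd, Category.comp_id]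
    exact hll

end Groth.Agent.AlgSpVal
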