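import Mathlib.AlgebraicGeometry.ValuativeCriterion
import Groth.Agent.AlgSpVal.Basic
import Groth.Agent.AlgSpDec.Fibres
import Groth.Agent.AlgSpPts.UnivClosed
import Groth.Agent.AlgSpPts.Sep

/-!
# Universally closed quasi-separated morphisms satisfy existence in the valuative criterion
-/

set_option backward.isDefEq.respectTransparency false
set_option backward.isDefEq.respectTransparency.types false

universe u

open CategoryTheory Limits Opposite AlgebraicGeometry AlgSp Groth.Agent.AlgSpLib IsLocalRing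

namespace Groth.Agent.AlgSpVal

variable {S : Scheme.{u}} {F G : Sp S}

theorem isQuasiSeparatedSp_of_toAffine {F : Sp S} {T : Over S} [IsAffine T.left] (q : F ⟶ (yon S).obj T)
    (hq : IsQuasiSeparatedMor q) : IsQuasiSeparatedSp F := by
  refine (AlgSpPts.isQuasiSeparatedSp_iff_mor F).2 ?_
  have key : IsQuasiSeparatedMor ((yon S).map (Over.mkIdTerminal.from T)) := by
    refine (isQuasiSeparatedMor_yon_map_iff _).2 ?_
    have e : (Over.mkIdTerminal.from T).left = T.hom := by simpa using Over.w (Over.mkIdTerminal.from T)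
    rw [e]
    have : QuasiSeparated (T.hom ≫ terminal.from S) := by
      rw [terminal.comp_from]; exact (quasiSeparatedSpace_iff_quasiSeparated T.left).1 inferInstance
    exact QuasiSeparated.of_comp T.hom (terminal.from S)
  exact ((AlgSpPts.isTerminalYon S).hom_ext (q ≫ (yon S).map (Over.mkIdTerminal.from T)) ((AlgSpPts.isTerminalYon S).from F)) ▸
    AlgSpPts.isQuasiSeparatedMor_comp hq key

theorem existVC_of_univClosed (hF : IsAlgSpace F) (hG : IsAlgSpace G) {f : F ⟶ G}
    (hqs : IsQuasiSeparatedMor f) (hc : IsUnivClosedMor f) : ExistVC f := by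
  intro sq
  let Z := pullback f sq.bot
  have sqZ := IsPullback.of_hasPullback f sq.bot
  let p : Z ⟶ (yon S).obj sq.ptA := pullback.snd f sq.bot
  have hZ : IsAlgSpace Z := isAlgSpace_pullback hF (IsAlgSpace.yon_obj _) hG f sq.bot
  have : IsAffine sq.ptA.left := inferInstanceAs (IsAffine (Spec (CommRingCat.of sq.A)))
  have hdec : AlgSp.IsDecent Z := AlgSpDec.isDecent_of_isQuasiSeparatedSp hZ
    (isQuasiSeparatedSp_of_toAffine p (AlgSpPts.isQuasiSeparatedMor_of_isPullback sqZ hqs))
  have hpc : IsClosedMap (Points.map p) := hc (IsAlgSpace.yon_obj _) _ _ _ sqZ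
  let t : (yon S).obj sq.ptK ⟶ Z := pullback.lift sq.top ((yon S).map sq.j) sq.comm
  let η : ↥sq.ptK.left := closedPoint sq.K
  let x : Points Z := Points.ofPt t η
  let c₀ : ↥sq.ptA.left := closedPoint sq.A
  -- a specialisation of `x` over the closed point
  obtain ⟨z, hxz, hz⟩ : ∃ z, x ⤳ z ∧ Points.map p z = Points.ofScheme sq.ptA c₀ := by
    have h1 : Points.map p x = Points.ofScheme sq.ptA (sq.j.left η) := by
      rw [Points.map_ofPt, pullback.lift_snd]
      exact (congrArg (Points.ofPt · η) (Category.comp_id _).symm).trans (ofPt_comp _ _ η)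
    have h2 : sq.j.left η ⤳ c₀ := IsLocalRing.specializes_closedPoint (show PrimeSpectrum sq.A from _)
    have h3 := (hpc _ (isClosed_closure (s := {x}))).closure_eq
    have h4 : Points.ofScheme sq.ptA c₀ ∈ closure (Points.map p '' closure {x}) :=
      (h2.map (Points.schemeHomeo sq.ptA).continuous).mem_closed isClosed_closure
        (subset_closure ⟨x, subset_closure rfl, h1⟩)
    rw [h3] at h4
    obtain ⟨z, hz, hzc⟩ := h4
    exact ⟨z, specializes_iff_mem_closure.2 hz, hzc⟩
  obtain ⟨U, a, u, hU, ha, rfl⟩ := AlgSpDec.exists_affine_chart_at hZ z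
  obtain ⟨u', hu's, hu'⟩ := AlgSpDec.exists_specializes_lift_of_isDecent hdec ha hxz
  let W := ha.rep.pullback t
  let w₁ : W ⟶ U := ha.rep.fst' t
  let w₂ : W ⟶ sq.ptK := ha.rep.snd t
  have sqW : IsPullback ((yon S).map w₁) ((yon S).map w₂) a t := ha.rep.isPullback' t
  obtain ⟨v, hv, -⟩ := exists_ofPt_of_eq sqW (v := η) hu'
  let K' := W.left.residueField v
  let σ : U.left.presheaf.stalk u ⟶ K' :=
    U.left.presheaf.stalkSpecializes (hv ▸ hu's) ≫ w₁.left.stalkMap v ≫ W.left.residue v
  obtain ⟨A', hA', hA'_local⟩ := exists_factor_valuationRing σ.hom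
  let σA : U.left.presheaf.stalk u ⟶ .of A' := CommRingCat.ofHom (σ.hom.codRestrict _ hA')
  let ι : CommRingCat.of A' ⟶ K' := CommRingCat.ofHom (algebraMap A' K')
  have hσ : σA ≫ ι = σ := rfl
  let i₂ : Spec (CommRingCat.of A') ⟶ U.left := Spec.map σA ≫ U.left.fromSpecStalk u
  have hw : W.left.fromSpecResidueField v ≫ w₁.left = Spec.map ι ≫ i₂ := by
    rw [Scheme.fromSpecResidueField, Category.assoc, ← Scheme.SpecMap_stalkMap_fromSpecStalk,
      ← Scheme.SpecMap_stalkSpecializes_fromSpecStalk (hv ▸ hu's : w₁.left v ⤳ u)]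
    simp only [i₂, ← Spec.map_comp_assoc, hσ]
    rfl
  have hi₂ : i₂ (closedPoint A') = u := by
    change (Spec.map σA ≫ U.left.fromSpecStalk u) (closedPoint A') = u
    rw [Scheme.Hom.comp_apply]
    have h3 : Spec.map σA (closedPoint A') = closedPoint (U.left.presheaf.stalk u) :=
      comap_closedPoint (S := A') (σ.hom.codRestrict A'.toSubring hA')
    rw [h3, U.left.fromSpecStalk_closedPoint]
  let T : Over S := Over.mk (i₂ ≫ U.hom)
  let iT : T ⟶ U := CategoryTheory.Over.homMk i₂ rfl
  obtain ⟨b, hb⟩ := (yon S).map_surjective ((yon S).map iT ≫ a ≫ p)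
  obtain ⟨φ, hφ⟩ : ∃ φ : CommRingCat.of sq.A ⟶ CommRingCat.of A', Spec.map φ = b.left := ⟨_, Spec.map_preimage _⟩
  obtain ⟨ψ, hψ⟩ : ∃ ψ : CommRingCat.of sq.K ⟶ K', Spec.map ψ = W.left.fromSpecResidueField v ≫ w₂.left :=
    ⟨_, Spec.map_preimage _⟩
  obtain ⟨c, hc⟩ := (yon S).map_surjective (a ≫ p)
  have hbc : b = iT ≫ c := (yon S).map_injective (by rw [hb, Functor.map_comp, hc])
  have hwc : w₁ ≫ c = w₂ ≫ sq.j := (yon S).map_injective (by
    rw [Functor.map_comp, Functor.map_comp, hc, ← Category.assoc, sqW.w, Category.assoc, pullback.lift_snd])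
  have hcomm : φ ≫ ι = CommRingCat.ofHom (algebraMap sq.A sq.K) ≫ ψ := Spec.map_injective (by
    have h1 : W.left.fromSpecResidueField v ≫ w₁.left ≫ c.left =
        W.left.fromSpecResidueField v ≫ w₂.left ≫ sq.j.left := by
      rw [← Over.comp_left, ← Over.comp_left, hwc]
    rw [Spec.map_comp, Spec.map_comp, hφ, hψ, hbc, Over.comp_left, Category.assoc]
    change Spec.map ι ≫ i₂ ≫ c.left = _
    rw [← Category.assoc, ← hw, Category.assoc]
    exact h1)
  have hloc : IsLocalHom φ.hom := by
    refine ((local_hom_TFAE φ.hom).out 0 4).2 ?_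
    have h1 : Points.map p (Points.ofPt a u) = Points.ofScheme sq.ptA c₀ := hz
    have h2 : Points.ofScheme sq.ptA (b.left (closedPoint A')) = Points.ofScheme sq.ptA c₀ := by
      rw [← h1, hbc, Over.comp_left, Scheme.Hom.comp_apply, Points.map_ofPt, ← hc]
      change Points.ofScheme sq.ptA (c.left (i₂ (closedPoint A'))) = _
      rw [hi₂]
      exact ((congrArg (Points.ofPt · u) (Category.comp_id _).symm).trans (ofPt_comp c (𝟙 _) u)).symm
    have h3 := congrArg (Points.toScheme sq.ptA) h2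
    rw [Points.toScheme_ofScheme, Points.toScheme_ofScheme, ← hφ] at h3
    exact congrArg PrimeSpectrum.asIdeal h3
  let e : sq.DomExt :=
    { A' := A', K' := K', φ := φ.hom, ψ := ψ.hom, comm := congrArg CommRingCat.Hom.hom hcomm, isLocalHom := hloc }
  have hstr : 𝟙 (Spec (CommRingCat.of A')) ≫ i₂ ≫ U.hom = Spec.map φ ≫ sq.str := by
    rw [Category.id_comp, hφ]
    exact (Over.w b).symm
  let k : e.ptA' ⟶ T := CategoryTheory.Over.homMk (𝟙 (Spec (CommRingCat.of A'))) hstr
  let kW : e.ptK' ⟶ W := CategoryTheory.Over.homMk (W.left.fromSpecResidueField v) (by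
    change W.left.fromSpecResidueField v ≫ W.hom = Spec.map ι ≫ Spec.map φ ≫ sq.str
    rw [← Over.w w₁, ← Category.assoc, hw, ← hstr, Category.assoc, Category.id_comp])
  have hk : extJ e ≫ k ≫ iT = kW ≫ w₁ := Over.OverMorphism.ext (by
    change Spec.map ι ≫ 𝟙 _ ≫ i₂ = W.left.fromSpecResidueField v ≫ w₁.left
    rw [Category.id_comp, hw])
  have hk₂ : kW ≫ w₂ = extK e := Over.OverMorphism.ext hψ.symm
  have hkA : k ≫ b = extA e := Over.OverMorphism.ext (by
    change 𝟙 _ ≫ b.left = Spec.map (CommRingCat.ofHom φ.hom)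
    rw [Category.id_comp]
    exact hφ.symm)
  refine ⟨e, (hasLift_iff e).2 ⟨(yon S).map (k ≫ iT) ≫ a ≫ pullback.fst f sq.bot, ?_, ?_⟩⟩
  · rw [← Functor.map_comp_assoc, hk, Functor.map_comp, Category.assoc, ← Category.assoc ((yon S).map w₁), sqW.w,
      Category.assoc, pullback.lift_fst, ← Category.assoc, ← Functor.map_comp, hk₂]
  · rw [Category.assoc, Category.assoc, pullback.condition, ← hkA, Functor.map_comp _ k b, hb, Functor.map_comp]
    simp only [Category.assoc]
    rfl

end Groth.Agent.AlgSpVal
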