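import Groth.Agent.AlgSpVal.SepLift

/-!
# Lifts after an extension give lifts, for separated morphisms
-/

set_option backward.isDefEq.respectTransparency false
set_option backward.isDefEq.respectTransparency.types false

universe u

open CategoryTheory Limits Opposite AlgebraicGeometry AlgSp Groth.Agent.AlgSpLib

namespace Groth.Agent.AlgSpVal

variable {S : Scheme.{u}} {F G : Sp S}

theorem hasLift_of_isSeparatedMor (hF : IsAlgSpace F) (hG : IsAlgSpace G) {f : F ⟶ G} (hf : IsSeparatedMor f)
    (sq : ValSq f) (e : sq.DomExt) (he : e.HasLift) : sq.HasLift := by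
  obtain ⟨l', hl', hl''⟩ := (hasLift_iff e).1 he
  let Z := pullback f sq.bot
  let p : Z ⟶ (yon S).obj sq.ptA := pullback.snd f sq.bot
  have hZ : IsAlgSpace Z := isAlgSpace_pullback hF (IsAlgSpace.yon_obj _) hG f sq.bot
  have hp : IsSeparatedMor p := AlgSpPts.isSeparatedMor_of_isPullback (IsPullback.of_hasPullback f sq.bot) hf
  let t : (yon S).obj sq.ptK ⟶ Z := pullback.lift sq.top ((yon S).map sq.j) sq.comm
  let m : (yon S).obj e.ptA' ⟶ Z := pullback.lift l' ((yon S).map (extA e)) hl''
  let _ : Algebra sq.A e.A' := e.φ.toAlgebra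
  let _ : Algebra sq.K e.K' := e.ψ.toAlgebra
  let _ : Algebra sq.A e.K' := ((algebraMap e.A' e.K').comp e.φ).toAlgebra
  have : IsScalarTower sq.A e.A' e.K' := IsScalarTower.of_algebraMap_eq fun _ => rfl
  have : IsScalarTower sq.A sq.K e.K' := IsScalarTower.of_algebraMap_eq fun x => RingHom.congr_fun e.comm x
  have : IsLocalHom (algebraMap sq.A e.A') := e.isLocalHom
  have hφ : CommRingCat.ofHom (algebraMap sq.A e.A') ≫ CommRingCat.ofHom (algebraMap e.A' e.K') =
      CommRingCat.ofHom (algebraMap sq.A e.K') := rfl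
  have hψ : CommRingCat.ofHom (algebraMap sq.A sq.K) ≫ CommRingCat.ofHom (algebraMap sq.K e.K') =
      CommRingCat.ofHom (algebraMap sq.A e.K') := CommRingCat.hom_ext e.comm.symm
  obtain ⟨l, hl, hlt⟩ := exists_lift_of_dominating (A := sq.A) (A' := e.A') (K := sq.K) (K' := e.K') hZ hp t m
    (pullback.lift_snd _ _ _) (pullback.lift_snd _ _ _) (by
      let T : Over S := Over.mk (Spec.map (CommRingCat.ofHom (algebraMap sq.A e.K')) ≫ sq.str)
      let k : T ⟶ e.ptK' := CategoryTheory.Over.homMk (𝟙 (Spec (CommRingCat.of e.K')))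
        ((Category.id_comp _).trans ((Category.assoc _ _ _).symm.trans
          (congrArg (· ≫ sq.str) ((Spec.map_comp _ _).symm.trans (congrArg Spec.map hφ)))))
      have h1 : specHom (str := sq.str) (CommRingCat.ofHom (algebraMap sq.A e.A'))
          (CommRingCat.ofHom (algebraMap e.A' e.K')) _ hφ = k ≫ extJ e :=
        Over.OverMorphism.ext (Category.id_comp _).symm
      have h2 : specHom (str := sq.str) (CommRingCat.ofHom (algebraMap sq.A sq.K))
          (CommRingCat.ofHom (algebraMap sq.K e.K')) _ hψ = k ≫ extK e :=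
        Over.OverMorphism.ext (Category.id_comp _).symm
      rw [h1, h2, Functor.map_comp, Functor.map_comp, Category.assoc, Category.assoc]
      congr 1
      apply pullback.hom_ext
      · rw [Category.assoc, Category.assoc, pullback.lift_fst, pullback.lift_fst]
        exact hl'
      · rw [Category.assoc, Category.assoc, pullback.lift_snd, pullback.lift_snd, ← Functor.map_comp,
          ← Functor.map_comp, extJ_extA])
  refine ⟨l ≫ pullback.fst f sq.bot, ?_, ?_⟩
  · rw [← Category.assoc]
    exact (congrArg (· ≫ pullback.fst f sq.bot) hlt).trans (pullback.lift_fst _ _ _)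
  · rw [Category.assoc, pullback.condition, ← Category.assoc]
    exact (congrArg (· ≫ sq.bot) hl).trans (Category.id_comp _)

theorem existVC_iff_strict_of_isSeparatedMor (hF : IsAlgSpace F) (hG : IsAlgSpace G) {f : F ⟶ G}
    (hf : IsSeparatedMor f) : ExistVC f ↔ ExistVCStrict f :=
  ⟨fun h sq => (h sq).elim fun e he => hasLift_of_isSeparatedMor hF hG hf sq e he, existVC_of_strict⟩

end Groth.Agent.AlgSpVal
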