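import Mathlib.AlgebraicGeometry.ValuativeCriterion
import Groth.Agent.AlgSpVal.Basic
import Groth.Agent.AlgSpPts.Misc
import Groth.Agent.AlgSpPts.Sep
import Groth.Agent.AlgSpLib.Points
import Groth.Prelude.Def_AlgSp4

/-!
# The valuative criterion for universal closedness
-/

set_option backward.isDefEq.respectTransparency false
set_option backward.isDefEq.respectTransparency.types false

universe u

open CategoryTheory Limits Opposite AlgebraicGeometry AlgSp Groth.Agent.AlgSpLib IsLocalRing

namespace Groth.Agent.AlgSpVal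

variable {S : Scheme.{u}}

/-- The image of a closed set of points in an affine scheme is closed if specialisations in the base lift. -/
theorem isClosed_image_of_lifts {P : Sp S} (hP : IsAlgSpace P) {T : Over S} [IsAffine T.left]
    (q : P ⟶ (yon S).obj T) (hc : CompactSpace (Points P))
    (hlift : ∀ (U : Over S) (a : (yon S).obj U ⟶ P) (b : U ⟶ T), RepWith @Etale a → (yon S).map b = a ≫ q →
      ∀ (u : ↥U.left) (t' : ↥T.left), b.left u ⤳ t' →
        ∃ y, Points.ofPt a u ⤳ y ∧ Points.map q y = Points.ofScheme T t')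
    {C : Set (Points P)} (hC : IsClosed C) :
    IsClosed {t : ↥T.left | ∃ c ∈ C, Points.map q c = Points.ofScheme T t} := by
  obtain ⟨U, a, ha, ha', hU⟩ := (AlgSpPts.isQuasiCompactSp_iff hP).2 hc
  have : CompactSpace ↥U.left := hU
  obtain ⟨R, g, hg⟩ := compactSpace_iff_exists.mp (‹CompactSpace ↥U.left›)
  obtain ⟨b, hb⟩ := (yon S).map_surjective (a ≫ q)
  have himg : ∀ u, Points.map q (Points.ofPt a u) = Points.ofScheme T (b.left u) := fun u => by
    rw [Points.map_ofPt, ← hb]
    exact (congrArg (Points.ofPt · u) (Category.comp_id _).symm).trans (ofPt_comp b (𝟙 _) u)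
  let h : Spec R ⟶ T.left := g ≫ b.left
  let Z : Set ↥(Spec R) := g ⁻¹' (Points.ofPt a ⁻¹' C)
  have hset : {t : ↥T.left | ∃ c ∈ C, Points.map q c = Points.ofScheme T t} = h '' Z := by
    ext t
    constructor
    · rintro ⟨c, hc', hct⟩
      obtain ⟨u, rfl⟩ := surjective_ofPt ha' c
      obtain ⟨r, rfl⟩ := hg u
      refine ⟨r, hc', ?_⟩
      rw [himg] at hct
      have := congrArg (Points.toScheme T) hct
      rw [Points.toScheme_ofScheme, Points.toScheme_ofScheme] at this
      rw [Scheme.Hom.comp_apply]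
      exact this
    · rintro ⟨r, hr, rfl⟩
      exact ⟨_, hr, by rw [himg, Scheme.Hom.comp_apply]⟩
  have hZ : IsClosed Z := (hC.preimage (Points.continuous_ofPt a)).preimage g.continuous
  have hstab : StableUnderSpecialization (h '' Z) := by
    intro t t' hst ht
    rw [← hset] at ht ⊢
    obtain ⟨c, hcC, hct⟩ := ht
    obtain ⟨u, rfl⟩ := surjective_ofPt ha' c
    rw [himg] at hct
    have hut : b.left u = t := by
      have := congrArg (Points.toScheme T) hct
      rwa [Points.toScheme_ofScheme, Points.toScheme_ofScheme] at this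
    subst hut
    obtain ⟨y, hy, hy'⟩ := hlift U a b ha hb u t' hst
    exact ⟨y, hy.mem_closed hC hcC, hy'⟩
  rw [hset]
  obtain ⟨φ, hφ⟩ : ∃ φ : Γ(T.left, ⊤) ⟶ R, Spec.map φ = h ≫ T.left.isoSpec.hom := ⟨_, Spec.map_preimage _⟩
  have e₁ : T.left.isoSpec.hom '' (h '' Z) = Spec.map φ '' Z := by
    rw [hφ, ← Set.image_comp]; rfl
  have hc₁ := PrimeSpectrum.isClosed_image_of_stableUnderSpecialization φ.hom Z hZ (by
    change StableUnderSpecialization (Spec.map φ '' Z)
    rw [← e₁]
    intro x y hxy hx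
    obtain ⟨t, ht, rfl⟩ := hx
    obtain ⟨t', rfl⟩ := T.left.isoSpec.hom.surjective y
    exact ⟨t', hstab (T.left.isoSpec.hom.isOpenEmbedding.isInducing.specializes_iff.1 hxy) ht, rfl⟩)
  have hc₂ : IsClosed (T.left.isoSpec.hom '' (h '' Z)) := e₁ ▸ hc₁
  have := hc₂.preimage T.left.isoSpec.hom.continuous
  rwa [Set.preimage_image_eq _ T.left.isoSpec.hom.isOpenEmbedding.injective] at this

/-- Specialisations in the base lift under the existence part of the valuative criterion. -/
theorem exists_lift_specializes {P : Sp S} {T : Over S} {q : P ⟶ (yon S).obj T} (he : ExistVC q)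
    {U : Over S} {a : (yon S).obj U ⟶ P} {b : U ⟶ T} (hb : (yon S).map b = a ≫ q) (u : ↥U.left) (t' : ↥T.left)
    (hst : b.left u ⤳ t') : ∃ y, Points.ofPt a u ⤳ y ∧ Points.map q y = Points.ofScheme T t' := by
  let σ : T.left.presheaf.stalk t' ⟶ U.left.residueField u :=
    T.left.presheaf.stalkSpecializes hst ≫ b.left.stalkMap u ≫ U.left.residue u
  obtain ⟨A, hA, hA_local⟩ := exists_factor_valuationRing σ.hom
  let σA : T.left.presheaf.stalk t' ⟶ .of A := CommRingCat.ofHom (σ.hom.codRestrict _ hA)
  let ι : CommRingCat.of A ⟶ U.left.residueField u :=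
    CommRingCat.ofHom (algebraMap A (U.left.residueField u))
  have hσ : σA ≫ ι = σ := rfl
  let i₂ : Spec (CommRingCat.of A) ⟶ T.left := Spec.map σA ≫ T.left.fromSpecStalk t'
  have hw : U.left.fromSpecResidueField u ≫ b.left = Spec.map ι ≫ i₂ := by
    rw [Scheme.fromSpecResidueField, Category.assoc, ← Scheme.SpecMap_stalkMap_fromSpecStalk,
      ← Scheme.SpecMap_stalkSpecializes_fromSpecStalk hst]
    simp only [i₂, ← Spec.map_comp_assoc, hσ]
    rfl
  let str : Spec (CommRingCat.of A) ⟶ S := i₂ ≫ T.hom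
  let iU : Over.mk (Spec.map ι ≫ str) ⟶ U := CategoryTheory.Over.homMk (U.left.fromSpecResidueField u) (by
    change U.left.fromSpecResidueField u ≫ U.hom = Spec.map ι ≫ i₂ ≫ T.hom
    rw [← Over.w b, ← Category.assoc, hw, Category.assoc])
  let iT : Over.mk str ⟶ T := CategoryTheory.Over.homMk i₂ rfl
  let sq : ValSq q :=
    { A := A, K := U.left.residueField u, str := str, top := (yon S).map iU ≫ a, bot := (yon S).map iT,
      comm := by
        rw [Category.assoc, ← hb, ← Functor.map_comp, ← Functor.map_comp]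
        congr 1
        exact Over.OverMorphism.ext hw }
  obtain ⟨e, hl⟩ := he sq
  obtain ⟨l, hl₁, hl₂⟩ := (hasLift_iff e).1 hl
  have hloc := e.isLocalHom
  let z₀ : ↥e.ptA'.left := closedPoint e.A'
  let η : ↥e.ptK'.left := closedPoint e.K'
  refine ⟨Points.ofPt l z₀, ?_, ?_⟩
  · have h1 : Points.ofPt l ((extJ e).left η) = Points.ofPt a u := by
      rw [← ofPt_comp, hl₁, ofPt_comp]
      change Points.ofPt ((yon S).map iU ≫ a) _ = _
      rw [ofPt_comp]
      congr 1
      exact U.left.fromSpecResidueField_apply u _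
    have h2 : (extJ e).left η ⤳ z₀ := IsLocalRing.specializes_closedPoint (show PrimeSpectrum e.A' from _)
    exact h1 ▸ h2.map (Points.continuous_ofPt l)
  · rw [Points.map_ofPt, hl₂, ← Functor.map_comp]
    refine ((congrArg (Points.ofPt · z₀) (Category.comp_id _).symm).trans (ofPt_comp _ (𝟙 _) z₀)).trans ?_
    congr 1
    change (extA e ≫ iT).left z₀ = t'
    rw [Over.comp_left, Scheme.Hom.comp_apply]
    have : (extA e).left z₀ = closedPoint A := comap_closedPoint (S := e.A') e.φ
    rw [this]
    change (Spec.map σA ≫ T.left.fromSpecStalk t') (closedPoint A) = t'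
    rw [Scheme.Hom.comp_apply]
    have h3 : Spec.map σA (closedPoint A) = closedPoint (T.left.presheaf.stalk t') :=
      comap_closedPoint (S := A) (σ.hom.codRestrict A.toSubring hA)
    rw [h3, T.left.fromSpecStalk_closedPoint]

/-- The image of a closed set of points in an affine scheme under a morphism with the existence property is
closed. -/
theorem isClosed_image_affine {P : Sp S} (hP : IsAlgSpace P) {T : Over S} [IsAffine T.left]
    (q : P ⟶ (yon S).obj T) (hc : CompactSpace (Points P)) (he : ExistVC q) {C : Set (Points P)} (hC : IsClosed C) :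
    IsClosed {t : ↥T.left | ∃ c ∈ C, Points.map q c = Points.ofScheme T t} :=
  isClosed_image_of_lifts hP q hc (fun _ _ _ _ hb u t' h => exists_lift_specializes he hb u t' h) hC

theorem isUnivClosedMor_of_existVC {F G : Sp S} (hF : IsAlgSpace F) (hG : IsAlgSpace G) {f : F ⟶ G}
    (hqc : IsQuasiCompactMor f) (he : ExistVC f) : IsUnivClosedMor f := by
  intro Z P hZ g fst p sq C hC
  have hP : IsAlgSpace P := isAlgSpace_of_isPullback sq hF hZ hG
  have hqc' : IsQuasiCompactMor p := AlgSpPts.isQuasiCompactMor_of_isPullback sq hqc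
  have he' : ExistVC p := existVC_of_isPullback sq he
  obtain ⟨V, c, hc, hc'⟩ := hZ.atlas
  rw [← isOpen_compl_iff, isOpen_iff_chart hc hc', isOpen_iff_forall_mem_open]
  intro v hv
  obtain ⟨W, hW, hvW, -⟩ := exists_isAffineOpen_mem_and_subset (U := (⊤ : V.left.Opens)) (x := v) trivial
  let T : Over S := Over.mk (W.ι ≫ V.hom)
  let i : T ⟶ V := CategoryTheory.Over.homMk W.ι rfl
  let d : (yon S).obj T ⟶ Z := (yon S).map i ≫ c
  have : IsAffine T.left := hW
  have sqT := IsPullback.of_hasPullback p d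
  have hPT : IsAlgSpace (pullback p d) := isAlgSpace_of_isPullback sqT hP (IsAlgSpace.yon_obj T) hZ
  have hTc : IsQuasiCompactSp ((yon S).obj T) := (AlgSpPts.isQuasiCompactSp_iff (IsAlgSpace.yon_obj T)).2
    (Points.schemeHomeo T).compactSpace
  have hPc : CompactSpace (Points (pullback p d)) :=
    (AlgSpPts.isQuasiCompactSp_iff hPT).1 (hqc' (IsAlgSpace.yon_obj T) hTc d _ _ sqT)
  have hcl := isClosed_image_affine hPT (pullback.snd p d) hPc (existVC_of_isPullback sqT he')
    (hC.preimage (Points.continuous_map (pullback.fst p d)))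
  refine ⟨i.left '' {t | ¬ ∃ c' ∈ Points.map (pullback.fst p d) ⁻¹' C,
    Points.map (pullback.snd p d) c' = Points.ofScheme T t}, ?_, W.ι.isOpenEmbedding.isOpenMap _ hcl.isOpen_compl,
    ⟨⟨v, hvW⟩, ?_, rfl⟩⟩
  · rintro _ ⟨t, ht, rfl⟩ ⟨x, hx, hxt⟩
    obtain ⟨w, hw₁, hw₂⟩ := exists_point_of_isPullback sqT (x := x) (y := Points.ofScheme T t) (by
      rw [hxt]
      refine (ofPt_comp i c t).symm.trans ?_
      exact Points.ofPt_eq_map_ofScheme d t)
    exact ht ⟨w, show Points.map _ w ∈ C from hw₁ ▸ hx, hw₂⟩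
  · rintro ⟨w, hw, hwt⟩
    refine hv ⟨Points.map (pullback.fst p d) w, hw, ?_⟩
    rw [← Points.map_comp, pullback.condition, Points.map_comp, hwt, ← Points.ofPt_eq_map_ofScheme]
    exact ofPt_comp i c _

end Groth.Agent.AlgSpVal
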