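import Groth.Agent.AlgSpVal.PolyClosed
import Groth.Agent.AlgSpVal.UnivClosedVC
import Groth.Agent.AlgSpLib.LocP

/-!
# Universal closedness can be tested on polynomial rings over an affine chart of the target
-/

set_option backward.isDefEq.respectTransparency false
set_option backward.isDefEq.respectTransparency.types false

universe u

open CategoryTheory Limits Opposite AlgebraicGeometry AlgSp Groth.Agent.AlgSpLib

namespace Groth.Agent.AlgSpVal

variable {S : Scheme.{u}}

theorem isClosedMap_of_isPullback {F G H P P' : Sp S} {f : F ⟶ G} {g : H ⟶ G} {fst : P ⟶ F} {snd : P ⟶ H}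
    {fst' : P' ⟶ F} {snd' : P' ⟶ H} (sq : IsPullback fst snd f g) (sq' : IsPullback fst' snd' f g)
    (h : IsClosedMap (Points.map snd)) : IsClosedMap (Points.map snd') := by
  let e := sq'.isoIsPullback F H sq
  have he : e.hom ≫ snd = snd' := sq'.isoIsPullback_hom_snd F H sq
  intro C hC
  have hpre : IsClosed (Points.map e.inv ⁻¹' C) := hC.preimage (Points.continuous_map _)
  have : Points.map snd' '' C = Points.map snd '' (Points.map e.inv ⁻¹' C) := by
    ext z
    constructor
    · rintro ⟨x, hx, rfl⟩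
      refine ⟨Points.map e.hom x, ?_, by rw [← Points.map_comp, he]⟩
      rw [Set.mem_preimage, ← Points.map_comp, e.hom_inv_id, Points.map_id]
      exact hx
    · rintro ⟨x, hx, rfl⟩
      exact ⟨_, hx, by rw [← Points.map_comp, ← he, e.inv_hom_id_assoc]⟩
  rw [this]
  exact h _ hpre

theorem isQuasiCompactSp_yon {T : Over S} [IsAffine T.left] : IsQuasiCompactSp ((yon S).obj T) :=
  (AlgSpPts.isQuasiCompactSp_iff (IsAlgSpace.yon_obj T)).2 (Points.schemeHomeo T).compactSpace

/-- Universal closedness of a quasi-compact morphism is tested by the polynomial rings over the affine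
opens of a chart of the target. -/
theorem isUnivClosedMor_of_polynomial {F G : Sp S} (hF : IsAlgSpace F) (hG : IsAlgSpace G) {f : F ⟶ G}
    (hqc : IsQuasiCompactMor f) {V : Over S} {b : (yon S).obj V ⟶ G} (hb : RepWith @Etale b)
    (hb' : RepWith @Surjective b)
    (H : ∀ (A : CommRingCat.{u}) (str : Spec A ⟶ S) (i : Over.mk str ⟶ V), IsOpenImmersion i.left → ∀ n,
      IsClosedMap (Points.map (pullback.snd (pullback.snd f ((yon S).map i ≫ b))
        ((yon S).map (specToBase (str := str) (polyHom A n)))))) :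
    IsUnivClosedMor f := by
  intro Z P hZ g fst p sq C hC
  obtain ⟨U', a₀, h, ha₀, ha₀', hh⟩ := exists_chart_over hZ hG g b
  let c : (yon S).obj U' ⟶ Z := a₀ ≫ pullback.fst g b
  have hc : RepWith @Etale c := repWith_comp ha₀ (repWith_fst g hb)
  have hc' : RepWith @Surjective c := repWith_comp ha₀' (repWith_fst g hb')
  rw [← isOpen_compl_iff, isOpen_iff_chart hc hc', isOpen_iff_forall_mem_open]
  intro v hv
  obtain ⟨W₁, hW₁, hvW₁, -⟩ := exists_isAffineOpen_mem_and_subset (U := (⊤ : V.left.Opens)) (x := h.left v) trivial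
  obtain ⟨W, hW, hvW, hWle⟩ := exists_isAffineOpen_mem_and_subset (U := h.left ⁻¹ᵁ W₁) (x := v) hvW₁
  have : IsAffine W₁.toScheme := hW₁
  have : IsAffine W.toScheme := hW
  let A : CommRingCat.{u} := Γ(W₁.toScheme, ⊤)
  let str : Spec A ⟶ S := W₁.toScheme.isoSpec.inv ≫ W₁.ι ≫ V.hom
  let i : Over.mk str ⟶ V := CategoryTheory.Over.homMk (W₁.toScheme.isoSpec.inv ≫ W₁.ι) (Category.assoc _ _ _)
  let T : Over S := Over.mk (W.ι ≫ U'.hom)
  let j : T ⟶ U' := CategoryTheory.Over.homMk W.ι rfl
  let B : CommRingCat.{u} := Γ(W.toScheme, ⊤)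
  let k : W.toScheme ⟶ W₁.toScheme := IsOpenImmersion.lift W₁.ι (W.ι ≫ h.left) (by
    rw [Scheme.Opens.range_ι]
    rintro _ ⟨x, rfl⟩
    rw [Scheme.Hom.comp_apply]
    exact hWle x.2)
  obtain ⟨β, hβ⟩ : ∃ β : A ⟶ B, Spec.map β = W.toScheme.isoSpec.inv ≫ k ≫ W₁.toScheme.isoSpec.hom :=
    ⟨_, Spec.map_preimage _⟩
  let T' : Over S := Over.mk (Spec.map β ≫ str)
  let j' : T' ⟶ U' := CategoryTheory.Over.homMk (W.toScheme.isoSpec.inv ≫ W.ι) (by
    change (_ ≫ W.ι) ≫ U'.hom = Spec.map β ≫ str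
    rw [hβ, Category.assoc, Category.assoc, Category.assoc, Iso.hom_inv_id_assoc]
    congr 1
    rw [← Category.assoc k, IsOpenImmersion.lift_fac, Category.assoc, Over.w h])
  have hjh : j' ≫ h = specToBase β ≫ i := Over.OverMorphism.ext (by
    change (W.toScheme.isoSpec.inv ≫ W.ι) ≫ h.left = Spec.map β ≫ W₁.toScheme.isoSpec.inv ≫ W₁.ι
    rw [hβ, Category.assoc, Category.assoc, Category.assoc, Iso.hom_inv_id_assoc, IsOpenImmersion.lift_fac])
  let d : (yon S).obj T' ⟶ Z := (yon S).map j' ≫ c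
  have hd : d ≫ g = (yon S).map (specToBase β) ≫ (yon S).map i ≫ b := by
    rw [Category.assoc, Category.assoc, pullback.condition, ← Category.assoc a₀, hh, ← Functor.map_comp_assoc,
      hjh, Functor.map_comp, Category.assoc]
  -- the base change to `Spec A`
  let P₁ := pullback f ((yon S).map i ≫ b)
  let q₁ : P₁ ⟶ (yon S).obj (Over.mk str) := pullback.snd f ((yon S).map i ≫ b)
  have hP₁ : IsAlgSpace P₁ := isAlgSpace_pullback hF (IsAlgSpace.yon_obj _) hG f _
  have : IsAffine (Over.mk str).left := inferInstanceAs (IsAffine (Spec A))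
  have hP₁c : CompactSpace (Points P₁) := (AlgSpPts.isQuasiCompactSp_iff hP₁).1
    (hqc (IsAlgSpace.yon_obj _) isQuasiCompactSp_yon _ _ _ (IsPullback.of_hasPullback f _))
  have hi : IsOpenImmersion i.left := (inferInstance : IsOpenImmersion (W₁.toScheme.isoSpec.inv ≫ W₁.ι))
  have hcl := isClosedMap_of_polynomial hP₁ hP₁c q₁ (H A str i hi) β
  have sqA : IsPullback (pullback.fst q₁ ((yon S).map (specToBase (str := str) β)) ≫ pullback.fst f _)
      (pullback.snd q₁ ((yon S).map (specToBase (str := str) β))) f (d ≫ g) := by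
    rw [hd]
    exact (IsPullback.of_hasPullback q₁ _).paste_horiz (IsPullback.of_hasPullback f _)
  have sqB : IsPullback (pullback.fst p d ≫ fst) (pullback.snd p d) f (d ≫ g) :=
    (IsPullback.of_hasPullback p d).paste_horiz sq
  have hcl' := isClosedMap_of_isPullback sqA sqB hcl
  let D := (Points.schemeHomeo T') ⁻¹' (Points.map (pullback.snd p d) '' (Points.map (pullback.fst p d) ⁻¹' C))
  have hD : IsClosed D :=
    (hcl' _ (hC.preimage (Points.continuous_map _))).preimage (Points.schemeHomeo T').continuous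
  refine ⟨j'.left '' Dᶜ, ?_,
    (inferInstance : IsOpenImmersion (W.toScheme.isoSpec.inv ≫ W.ι)).base_open.isOpenMap _ hD.isOpen_compl,
    W.toScheme.isoSpec.hom ⟨v, hvW⟩, ?_, ?_⟩
  · rintro _ ⟨t, ht, rfl⟩ ⟨x, hx, hxt⟩
    obtain ⟨w, hw₁, hw₂⟩ := exists_point_of_isPullback (IsPullback.of_hasPullback p d) (x := x)
      (y := Points.ofScheme T' t) (by
        rw [hxt]
        exact (ofPt_comp j' c t).symm.trans (Points.ofPt_eq_map_ofScheme d t))
    exact ht ⟨w, show Points.map _ w ∈ C from hw₁ ▸ hx, hw₂⟩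
  · rintro ⟨w, hw, hwt⟩
    refine hv ⟨Points.map (pullback.fst p d) w, hw, ?_⟩
    rw [← Points.map_comp, pullback.condition, Points.map_comp, hwt]
    refine (Points.ofPt_eq_map_ofScheme d _).symm.trans ((ofPt_comp j' c _).trans ?_)
    congr 1
    change (W.toScheme.isoSpec.inv ≫ W.ι) (W.toScheme.isoSpec.hom ⟨v, hvW⟩) = v
    rw [← Scheme.Hom.comp_apply, Iso.hom_inv_id_assoc]
    rfl
  · change (W.toScheme.isoSpec.inv ≫ W.ι) (W.toScheme.isoSpec.hom ⟨v, hvW⟩) = v
    rw [← Scheme.Hom.comp_apply, Iso.hom_inv_id_assoc]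
    rfl

end Groth.Agent.AlgSpVal
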