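import Groth.Agent.S4450
import Groth.Agent.AlgSpVal.DvrSep
import Groth.Agent.AlgSpVal.ExistUC
import Groth.Agent.AlgSpVal.SepValSq
import Groth.Agent.AlgSpVal.UnivClosedPoly

/-!
# Properness through discrete valuation rings
-/

set_option backward.isDefEq.respectTransparency false
set_option backward.isDefEq.respectTransparency.types false

universe u

open CategoryTheory Limits Opposite AlgebraicGeometry AlgSp Groth.Agent.AlgSpLib IsLocalRing

namespace Groth.Agent.AlgSpVal

variable {S : Scheme.{u}} {F G : Sp S}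

/-- Specialisations in a locally Noetherian base lift when squares over discrete valuation rings do. -/
theorem exists_lift_specializes_dvr {P : Sp S} {T : Over S} [IsLocallyNoetherian T.left] {q : P ⟶ (yon S).obj T}
    (hft : LocP @LocallyOfFiniteType q) (hv : ∀ sq : ValSq q, IsDiscreteValuationRing sq.A → sq.HasLift)
    {U : Over S} {a : (yon S).obj U ⟶ P} (ha : RepWith @Etale a) {b : U ⟶ T} (hb : (yon S).map b = a ≫ q)
    (u : ↥U.left) (t' : ↥T.left) (hst : b.left u ⤳ t') :
    ∃ y, Points.ofPt a u ⤳ y ∧ Points.map q y = Points.ofScheme T t' := by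
  by_cases hne : t' = b.left u
  · refine ⟨_, specializes_rfl, ?_⟩
    rw [Points.map_ofPt, ← hb, hne]
    exact (congrArg (Points.ofPt · u) (Category.comp_id _).symm).trans (ofPt_comp b (𝟙 _) u)
  · have : LocallyOfFiniteType b.left := hft a (𝟙 _) b ha (repWith_id _ T) (by rw [Category.comp_id, hb])
    obtain ⟨A, i₂, hA, hcl, hgen⟩ := S4450.result b.left u t' hst hne
    let str : Spec (CommRingCat.of A) ⟶ S := i₂ ≫ T.hom
    let ι : CommRingCat.of A ⟶ U.left.residueField u := CommRingCat.ofHom (algebraMap A (U.left.residueField u))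
    have hw : U.left.fromSpecResidueField u ≫ b.left = Spec.map ι ≫ i₂ := hgen.symm
    let iU : Over.mk (Spec.map ι ≫ str) ⟶ U := CategoryTheory.Over.homMk (U.left.fromSpecResidueField u) (by
      change U.left.fromSpecResidueField u ≫ U.hom = Spec.map ι ≫ i₂ ≫ T.hom
      rw [← Over.w b, ← Category.assoc, hw, Category.assoc])
    let iT : Over.mk str ⟶ T := CategoryTheory.Over.homMk i₂ rfl
    let sq : ValSq q :=
      { A := A, K := U.left.residueField u, str := str, top := (yon S).map iU ≫ a, bot := (yon S).map iT,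
        comm := by
          rw [Category.assoc, ← hb, ← Functor.map_comp, ← Functor.map_comp]
          congr 1
          exact Over.OverMorphism.ext hw }
    obtain ⟨l, hl₁, hl₂⟩ := hv sq hA
    let z₀ : ↥sq.ptA.left := closedPoint A
    let η : ↥sq.ptK.left := closedPoint (U.left.residueField u)
    refine ⟨Points.ofPt l z₀, ?_, ?_⟩
    · have h1 : Points.ofPt l (sq.j.left η) = Points.ofPt a u := by
        rw [← ofPt_comp, hl₁]
        change Points.ofPt ((yon S).map iU ≫ a) _ = _
        rw [ofPt_comp]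
        congr 1
        exact U.left.fromSpecResidueField_apply u _
      exact h1 ▸ (IsLocalRing.specializes_closedPoint (show PrimeSpectrum A from _)).map (Points.continuous_ofPt l)
    · rw [Points.map_ofPt, hl₂]
      refine ((congrArg (Points.ofPt · z₀) (Category.comp_id _).symm).trans (ofPt_comp iT (𝟙 _) z₀)).trans ?_
      congr 1

/-- The existence of lifts over discrete valuation rings passes to base changes. -/
theorem hasLift_dvr_of_isPullback {F' G' : Sp S} {f : F ⟶ G} {g : G' ⟶ G} {fst : F' ⟶ F} {f' : F' ⟶ G'}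
    (hsq : IsPullback fst f' f g) (hf : ∀ sq : ValSq f, IsDiscreteValuationRing sq.A → sq.HasLift)
    (sq : ValSq f') (hA : IsDiscreteValuationRing sq.A) : sq.HasLift := by
  obtain ⟨l, h1, h2⟩ := hf (pushSq hsq sq) hA
  refine ⟨hsq.lift l sq.bot (by exact h2), hsq.hom_ext ?_ ?_, hsq.lift_snd _ _ _⟩
  · rw [Category.assoc, hsq.lift_fst]; exact h1
  · rw [Category.assoc, hsq.lift_snd]; exact sq.comm.symm

theorem isUnivClosedMor_of_dvr (hF : IsAlgSpace F) (hG : IsAlgSpace G) {f : F ⟶ G} (hft : IsFiniteTypeMor f)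
    (hN : IsLocNoethSp G) (hv : ∀ sq : ValSq f, IsDiscreteValuationRing sq.A → sq.HasLift) :
    IsUnivClosedMor f := by
  obtain ⟨V, b, hb, hb', hV⟩ := hN
  refine isUnivClosedMor_of_polynomial hF hG hft.2 hb hb' fun A str i hi n C hC => ?_
  have : IsLocallyNoetherian (Spec A) := isLocallyNoetherian_of_isOpenImmersion i.left
  have : IsNoetherianRing A := by
    have : IsNoetherianRing Γ(Spec A, ⊤) :=
      IsLocallyNoetherian.component_noetherian (X := Spec A) ⟨⊤, isAffineOpen_top _⟩
    exact isNoetherianRing_of_ringEquiv Γ(Spec A, ⊤) (Scheme.ΓSpecIso A).commRingCatIsoToRingEquiv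
  let q₁ := pullback.snd f ((yon S).map i ≫ b)
  have hP₁ : IsAlgSpace (pullback f ((yon S).map i ≫ b)) := isAlgSpace_pullback hF (IsAlgSpace.yon_obj _) hG f _
  let T : Over S := Over.mk (Spec.map (polyHom A n) ≫ str)
  let g : (yon S).obj T ⟶ (yon S).obj (Over.mk str) := (yon S).map (specToBase (str := str) (polyHom A n))
  have : IsLocallyNoetherian T.left :=
    inferInstanceAs (IsLocallyNoetherian (Spec (CommRingCat.of (MvPolynomial (ULift.{u} (Fin n)) A))))
  have : IsAffine T.left := inferInstanceAs (IsAffine (Spec (CommRingCat.of (MvPolynomial (ULift.{u} (Fin n)) A))))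
  have hP₂ : IsAlgSpace (pullback q₁ g) := isAlgSpace_pullback hP₁ (IsAlgSpace.yon_obj T) (IsAlgSpace.yon_obj _) q₁ g
  let q₂ := pullback.snd q₁ g
  have sq₂ : IsPullback (pullback.fst q₁ g ≫ pullback.fst f _) q₂ f (g ≫ (yon S).map i ≫ b) :=
    (IsPullback.of_hasPullback q₁ g).paste_horiz (IsPullback.of_hasPullback f _)
  have hc : CompactSpace (Points (pullback q₁ g)) := (AlgSpPts.isQuasiCompactSp_iff hP₂).1
    (hft.2 (IsAlgSpace.yon_obj T) isQuasiCompactSp_yon _ _ _ sq₂)
  have hlft : LocP @LocallyOfFiniteType q₂ := locP_of_isPullback sq₂ hF hG (IsAlgSpace.yon_obj T) hft.1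
  have hcl := isClosed_image_of_lifts hP₂ q₂ hc
    (fun U a b' ha hb' u t' h => exists_lift_specializes_dvr hlft (hasLift_dvr_of_isPullback sq₂ hv) ha hb' u t' h) hC
  have : Points.map q₂ '' C = Points.schemeHomeo T '' {t | ∃ c ∈ C, Points.map q₂ c = Points.ofScheme T t} := by
    ext x
    obtain ⟨t, rfl⟩ := (Points.schemeHomeo T).surjective x
    constructor
    · rintro ⟨c, hc, hct⟩
      exact ⟨t, ⟨c, hc, hct⟩, rfl⟩
    · rintro ⟨t', ⟨c, hc, hct⟩, ht'⟩
      exact ⟨c, hc, hct.trans ht'⟩
  exact this ▸ (Points.schemeHomeo T).isClosedMap _ hcl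

theorem isProperMor_iff_dvr (hF : IsAlgSpace F) (hG : IsAlgSpace G) {f : F ⟶ G} (hqs : IsQuasiSeparatedMor f)
    (hft : IsFiniteTypeMor f) (hN : IsLocNoethSp G) :
    IsProperMor f ↔ ∀ sq : ValSq f, IsDiscreteValuationRing sq.A → sq.HasLift ∧ sq.HasUniq := by
  refine ⟨fun h sq _ => ⟨?_, uniqVC_of_isSeparatedMor h.1 sq⟩, fun h => ⟨?_, hft, ?_⟩⟩
  · exact (existVC_iff_strict_of_isSeparatedMor hF hG h.1).1 (existVC_of_univClosed hF hG hqs h.2.2) sq
  · exact isSeparatedMor_of_dvr_uniq hF hG hqs hft.1 hN fun sq hA => (h sq hA).2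
  · exact isUnivClosedMor_of_dvr hF hG hft hN fun sq hA => (h sq hA).1

end Groth.Agent.AlgSpVal
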