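import Mathlib.AlgebraicGeometry.ValuativeCriterion
import Mathlib.AlgebraicGeometry.Morphisms.UniversallyOpen
import Mathlib.AlgebraicGeometry.Morphisms.Etale
import Mathlib.RingTheory.Etale.Field
import Groth.Agent.AlgSpVal.ExistUC

/-!
# Valuation rings through a specialisation, and finite separable extensions in the existence part
-/

set_option backward.isDefEq.respectTransparency false
set_option backward.isDefEq.respectTransparency.types false

universe u

open CategoryTheory Limits Opposite AlgebraicGeometry AlgSp Groth.Agent.AlgSpLib IsLocalRing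

namespace Groth.Agent.AlgSpVal

/-- A field valued point and a specialisation of its image extend to a valuation ring. -/
theorem exists_valuationRing_through {U : Scheme.{u}} {K : Type u} [Field K]
    (k : Spec (CommRingCat.of K) ⟶ U) (u : ↥U) (hu : k (closedPoint K) ⤳ u) :
    ∃ (A : ValuationSubring K) (i : Spec (CommRingCat.of A) ⟶ U),
      i (closedPoint A) = u ∧ Spec.map (CommRingCat.ofHom (algebraMap A K)) ≫ i = k := by
  let σ : U.presheaf.stalk u ⟶ CommRingCat.of K :=
    U.presheaf.stalkSpecializes hu ≫ Scheme.stalkClosedPointTo k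
  obtain ⟨A, hA, hA_local⟩ := exists_factor_valuationRing σ.hom
  let σA : U.presheaf.stalk u ⟶ .of A := CommRingCat.ofHom (σ.hom.codRestrict _ hA)
  have hσ : σA ≫ CommRingCat.ofHom (algebraMap A K) = σ := rfl
  refine ⟨A, Spec.map σA ≫ U.fromSpecStalk u, ?_, ?_⟩
  · rw [Scheme.Hom.comp_apply]
    have h3 : Spec.map σA (closedPoint A) = closedPoint (U.presheaf.stalk u) :=
      comap_closedPoint (S := A) (σ.hom.codRestrict A.toSubring hA)
    rw [h3, U.fromSpecStalk_closedPoint]
  · rw [← Spec.map_comp_assoc, hσ, Spec.map_comp, Category.assoc,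
      Scheme.SpecMap_stalkSpecializes_fromSpecStalk, Scheme.Spec_stalkClosedPointTo_fromSpecStalk]

variable {S : Scheme.{u}} {F G : Sp S}

/-- A chart point over the closed point, specialised to from a point over the generic point, gives a lift after
extending the fraction field to the field of the chosen point. -/
theorem exists_domExt_of_field_point {f : F ⟶ G} (sq : ValSq f) {U : Over S} {a : (yon S).obj U ⟶ F}
    {c : U ⟶ sq.ptA} (hc : a ≫ f = (yon S).map c ≫ sq.bot) {K' : Type u} [Field K'] (ψ : sq.K →+* K')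
    (k : Over.mk (Spec.map (CommRingCat.ofHom ψ) ≫ sq.ptK.hom) ⟶ U) (u : ↥U.left)
    (hu : k.left (closedPoint K') ⤳ u) (hcu : c.left u = closedPoint sq.A)
    (hk : (yon S).map k ≫ a = (yon S).map (CategoryTheory.Over.homMk (Spec.map (CommRingCat.ofHom ψ)) rfl :
      Over.mk (Spec.map (CommRingCat.ofHom ψ) ≫ sq.ptK.hom) ⟶ sq.ptK) ≫ sq.top)
    (hkc : k.left ≫ c.left = Spec.map (CommRingCat.ofHom ψ) ≫ sq.j.left)
    {Q : ∀ (K' : Type u) [Field K'], (sq.K →+* K') → Prop} (hQ : Q K' ψ) :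
    ∃ e : sq.DomExt, Q e.K' e.ψ ∧ e.HasLift := by
  obtain ⟨A', i₂, hi₂, hι⟩ := exists_valuationRing_through k.left u hu
  let ι : CommRingCat.of A' ⟶ CommRingCat.of K' := CommRingCat.ofHom (algebraMap A' K')
  obtain ⟨φ, hφ⟩ : ∃ φ : CommRingCat.of sq.A ⟶ CommRingCat.of A', Spec.map φ = i₂ ≫ c.left :=
    ⟨_, Spec.map_preimage _⟩
  have hcomm : φ ≫ ι = CommRingCat.ofHom (algebraMap sq.A sq.K) ≫ CommRingCat.ofHom ψ := Spec.map_injective (by
    rw [Spec.map_comp, Spec.map_comp, hφ, ← Category.assoc, hι]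
    exact hkc)
  have hloc : IsLocalHom φ.hom := by
    refine ((local_hom_TFAE φ.hom).out 0 4).2 ?_
    have h : Spec.map φ (closedPoint A') = closedPoint sq.A := by
      rw [hφ, Scheme.Hom.comp_apply, hi₂]
      exact hcu
    exact congrArg PrimeSpectrum.asIdeal h
  let e : sq.DomExt :=
    { A' := A', K' := K', φ := φ.hom, ψ := ψ, comm := congrArg CommRingCat.Hom.hom hcomm, isLocalHom := hloc }
  let iT : e.ptA' ⟶ U := CategoryTheory.Over.homMk i₂ (by
    change i₂ ≫ U.hom = Spec.map φ ≫ sq.str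
    rw [hφ, Category.assoc, ← Over.w c]
    rfl)
  have hstr : (𝟙 (Spec (CommRingCat.of K'))) ≫ Spec.map (CommRingCat.ofHom ψ) ≫ sq.ptK.hom = e.ptK'.hom := by
    rw [Category.id_comp]
    change Spec.map _ ≫ Spec.map (CommRingCat.ofHom (algebraMap sq.A sq.K)) ≫ sq.str =
      Spec.map ι ≫ Spec.map φ ≫ sq.str
    rw [← Spec.map_comp_assoc, ← hcomm, Spec.map_comp_assoc]
  let kK : e.ptK' ⟶ Over.mk (Spec.map (CommRingCat.ofHom ψ) ≫ sq.ptK.hom) :=
    CategoryTheory.Over.homMk (𝟙 (Spec (CommRingCat.of K'))) hstr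
  have h1 : extJ e ≫ iT = kK ≫ k := Over.OverMorphism.ext (by
    change Spec.map ι ≫ i₂ = 𝟙 _ ≫ k.left
    rw [Category.id_comp, hι])
  have h2 : kK ≫ (CategoryTheory.Over.homMk (Spec.map (CommRingCat.ofHom ψ)) rfl :
      Over.mk (Spec.map (CommRingCat.ofHom ψ) ≫ sq.ptK.hom) ⟶ sq.ptK) = extK e :=
    Over.OverMorphism.ext (Category.id_comp _)
  have h3 : iT ≫ c = extA e := Over.OverMorphism.ext (by
    change i₂ ≫ c.left = Spec.map (CommRingCat.ofHom φ.hom)
    exact hφ.symm)
  refine ⟨e, hQ, (hasLift_iff e).2 ⟨(yon S).map iT ≫ a, ?_, ?_⟩⟩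
  · rw [← Functor.map_comp_assoc, h1, Functor.map_comp, Category.assoc, hk, ← Functor.map_comp_assoc, h2]
  · rw [Category.assoc, hc, ← Functor.map_comp_assoc, h3]

/-- A point of a scheme etale over a field has a finite separable point through it. -/
theorem exists_separable_point {W : Scheme.{u}} {K : Type u} [Field K] (w : W ⟶ Spec (CommRingCat.of K))
    [Etale w] (v : ↥W) :
    ∃ (K' : Type u) (_ : Field K') (ψ : K →+* K') (k : Spec (CommRingCat.of K') ⟶ W),
      (letI := ψ.toAlgebra; Module.Finite K K' ∧ Algebra.IsSeparable K K') ∧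
      k (closedPoint K') = v ∧ k ≫ w = Spec.map (CommRingCat.ofHom ψ) := by
  obtain ⟨W₀, hW₀, hvW, -⟩ := exists_isAffineOpen_mem_and_subset (U := (⊤ : W.Opens)) (x := v) trivial
  obtain ⟨γ, hγ⟩ : ∃ γ : CommRingCat.of K ⟶ Γ(W, W₀), Spec.map γ = hW₀.fromSpec ≫ w := ⟨_, Spec.map_preimage _⟩
  have hγe : γ.hom.Etale := by
    rw [← HasRingHomProperty.Spec_iff (P := @Etale), hγ]
    infer_instance
  let _ : Algebra K Γ(W, W₀) := γ.hom.toAlgebra
  have : Algebra.Etale K Γ(W, W₀) := hγe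
  have := Algebra.FormallyUnramified.finite_of_free K Γ(W, W₀)
  have : IsArtinianRing Γ(W, W₀) := isArtinian_of_tower K inferInstance
  let p := (hW₀.primeIdealOf ⟨v, hvW⟩).asIdeal
  have : p.IsPrime := (hW₀.primeIdealOf ⟨v, hvW⟩).isPrime
  let _ : Field (Γ(W, W₀) ⧸ p) := Ideal.Quotient.field p
  let ψ : K →+* Γ(W, W₀) ⧸ p := (Ideal.Quotient.mk p).comp γ.hom
  refine ⟨Γ(W, W₀) ⧸ p, inferInstance, ψ,
    Spec.map (CommRingCat.ofHom (Ideal.Quotient.mk p)) ≫ hW₀.fromSpec, ?_, ?_, ?_⟩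
  · exact ⟨(inferInstance : Module.Finite K (Γ(W, W₀) ⧸ p)),
      (inferInstance : Algebra.IsSeparable K (Γ(W, W₀) ⧸ p))⟩
  · rw [Scheme.Hom.comp_apply]
    have : Spec.map (CommRingCat.ofHom (Ideal.Quotient.mk p)) (closedPoint (Γ(W, W₀) ⧸ p)) =
        hW₀.primeIdealOf ⟨v, hvW⟩ := PrimeSpectrum.ext (by
      change Ideal.comap (Ideal.Quotient.mk p) (maximalIdeal (Γ(W, W₀) ⧸ p)) = p
      rw [maximalIdeal_eq_bot, ← RingHom.ker_eq_comap_bot, Ideal.mk_ker])
    rw [this]
    exact hW₀.fromSpec_primeIdealOf ⟨v, hvW⟩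
  · rw [Category.assoc, ← hγ, ← Spec.map_comp]
    rfl

/-- The existence part only needs finite separable extensions. -/
theorem exists_separable_lift (hF : IsAlgSpace F) (hG : IsAlgSpace G) {f : F ⟶ G} (sq : ValSq f)
    (h : sq.HasLiftExt) :
    ∃ e : sq.DomExt, (letI := e.ψ.toAlgebra; Module.Finite sq.K e.K' ∧ Algebra.IsSeparable sq.K e.K') ∧
      e.HasLift := by
  obtain ⟨e₀, he₀⟩ := h
  obtain ⟨l, hl₁, hl₂⟩ := (hasLift_iff e₀).1 he₀
  have := e₀.isLocalHom
  let Z := pullback f sq.bot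
  have hZ : IsAlgSpace Z := isAlgSpace_pullback hF (IsAlgSpace.yon_obj _) hG f sq.bot
  let l₀ : (yon S).obj e₀.ptA' ⟶ Z := pullback.lift l ((yon S).map (extA e₀)) hl₂
  let t : (yon S).obj sq.ptK ⟶ Z := pullback.lift sq.top ((yon S).map sq.j) sq.comm
  obtain ⟨U, a, u, -, ha, hu⟩ := AlgSpDec.exists_affine_chart_at hZ
    (Points.ofPt l₀ (closedPoint e₀.A' : ↥e₀.ptA'.left))
  let W' := ha.rep.pullback l₀
  have sqW' : IsPullback ((yon S).map (ha.rep.fst' l₀)) ((yon S).map (ha.rep.snd l₀)) a l₀ := ha.rep.isPullback' l₀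
  obtain ⟨w, hw₁, hw₂⟩ := exists_ofPt_of_eq sqW' hu
  have : Etale (ha.rep.snd l₀).left := ha.property_snd l₀
  let η : ↥e₀.ptA'.left := (extJ e₀).left (closedPoint e₀.K' : ↥e₀.ptK'.left)
  have hη : η ⤳ (ha.rep.snd l₀).left w := by
    rw [hw₂]
    exact IsLocalRing.specializes_closedPoint (show PrimeSpectrum e₀.A' from η)
  obtain ⟨w', hw', hwη⟩ := Flat.generalizingMap (f := (ha.rep.snd l₀).left) hη
  have hu' : Points.ofPt a ((ha.rep.fst' l₀).left w') = Points.ofPt t (closedPoint sq.K : ↥sq.ptK.left) := by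
    rw [← ofPt_comp, sqW'.w, ofPt_comp, hwη, ← ofPt_comp]
    have : (yon S).map (extJ e₀) ≫ l₀ = (yon S).map (extK e₀) ≫ t := by
      apply pullback.hom_ext
      · simpa [l₀, t] using hl₁
      · simp only [l₀, t, Category.assoc, pullback.lift_snd, ← Functor.map_comp, extJ_extA]
    rw [this, ofPt_comp]
    congr 1
    exact Subsingleton.elim (α := PrimeSpectrum sq.K) _ _
  have sqW : IsPullback ((yon S).map (ha.rep.fst' t)) ((yon S).map (ha.rep.snd t)) a t := ha.rep.isPullback' t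
  obtain ⟨v, hv, -⟩ := exists_ofPt_of_eq sqW hu'
  have : Etale (ha.rep.snd t).left := ha.property_snd t
  obtain ⟨K', _, ψ, k, hQ, hkv, hkw⟩ := exists_separable_point (ha.rep.snd t).left v
  let T := Over.mk (Spec.map (CommRingCat.ofHom ψ) ≫ sq.ptK.hom)
  let kW : T ⟶ ha.rep.pullback t := CategoryTheory.Over.homMk k (by
    rw [← Over.w (ha.rep.snd t), ← Category.assoc, hkw]
    rfl)
  obtain ⟨c, hc⟩ := (yon S).map_surjective (a ≫ pullback.snd f sq.bot)
  have hwc : ha.rep.fst' t ≫ c = ha.rep.snd t ≫ sq.j := (yon S).map_injective (by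
    rw [Functor.map_comp, Functor.map_comp, hc, ← Category.assoc, sqW.w, Category.assoc, pullback.lift_snd])
  refine exists_domExt_of_field_point sq (a := a ≫ pullback.fst f sq.bot) (c := c)
    (by rw [Category.assoc, pullback.condition, hc, Category.assoc]) ψ (kW ≫ ha.rep.fst' t) u ?_ ?_ ?_ ?_
    (Q := fun K' _ ψ => letI := ψ.toAlgebra; Module.Finite sq.K K' ∧ Algebra.IsSeparable sq.K K') hQ
  · have e1 : (kW ≫ ha.rep.fst' t).left (closedPoint K') = (ha.rep.fst' l₀).left w' := by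
      rw [Over.comp_left, Scheme.Hom.comp_apply]
      change (ha.rep.fst' t).left (k _) = _
      rw [hkv, hv]
    rw [e1, ← hw₁]
    exact hw'.map (ha.rep.fst' l₀).left.continuous
  · have h1 : Points.map (pullback.snd f sq.bot) (Points.ofPt a u) =
        Points.ofScheme sq.ptA ((extA e₀).left (closedPoint e₀.A' : ↥e₀.ptA'.left)) := by
      rw [hu, Points.map_ofPt, pullback.lift_snd]
      exact (congrArg (Points.ofPt · _) (Category.comp_id _).symm).trans (ofPt_comp (extA e₀) (𝟙 _) _)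
    rw [Points.map_ofPt, ← hc] at h1
    have h2 : Points.ofScheme sq.ptA (c.left u) = Points.ofScheme sq.ptA ((extA e₀).left (closedPoint e₀.A' : ↥e₀.ptA'.left)) :=
      ((ofPt_comp c (𝟙 _) u).symm.trans (congrArg (Points.ofPt · u) (Category.comp_id _))).trans h1
    have h3 := congrArg (Points.toScheme sq.ptA) h2
    rw [Points.toScheme_ofScheme, Points.toScheme_ofScheme] at h3
    exact h3.trans (comap_closedPoint (S := e₀.A') e₀.φ)
  · rw [Functor.map_comp, Category.assoc, ← Category.assoc ((yon S).map (ha.rep.fst' t)), sqW.w, Category.assoc,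
      pullback.lift_fst, ← Category.assoc, ← Functor.map_comp]
    congr 2
    exact Over.OverMorphism.ext hkw
  · rw [Over.comp_left, Category.assoc, ← Over.comp_left, hwc, Over.comp_left, ← Category.assoc]
    congr 1

end Groth.Agent.AlgSpVal
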