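import Groth.Agent.S4450
import Groth.Agent.KrullAkiExt.Basic
import Groth.Agent.AlgSpVal.DvrProper
import Groth.Agent.AlgSpVal.ExistDecent
import Groth.Agent.AlgSpVal.ValThrough

/-!
# Universal closedness through squares over discrete valuation rings, up to extensions
-/

set_option backward.isDefEq.respectTransparency false
set_option backward.isDefEq.respectTransparency.types false

universe u

open CategoryTheory Limits Opposite AlgebraicGeometry AlgSp Groth.Agent.AlgSpLib IsLocalRing

namespace Groth.Agent.AlgSpVal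

variable {S : Scheme.{u}} {F G : Sp S}

/-- A point to which the image of a generic point under an extended lift specialises. -/
theorem exists_specializes_of_domExt {P : Sp S} {T : Over S} {q : P ⟶ (yon S).obj T} (sq : ValSq q)
    (iT : sq.ptA ⟶ T) (hbot : sq.bot = (yon S).map iT) (h : sq.HasLiftExt) :
    ∃ y, Points.ofPt sq.top (closedPoint sq.K : ↥sq.ptK.left) ⤳ y ∧
      Points.map q y = Points.ofScheme T (iT.left (closedPoint sq.A : ↥sq.ptA.left)) := by
  obtain ⟨e, hl⟩ := h
  obtain ⟨l, hl₁, hl₂⟩ := (hasLift_iff e).1 hl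
  have hloc := e.isLocalHom
  let z₀ : ↥e.ptA'.left := closedPoint e.A'
  let η : ↥e.ptK'.left := closedPoint e.K'
  refine ⟨Points.ofPt l z₀, ?_, ?_⟩
  · have h1 : Points.ofPt l ((extJ e).left η) = Points.ofPt sq.top (closedPoint sq.K : ↥sq.ptK.left) := by
      rw [← ofPt_comp, hl₁, ofPt_comp]
      congr 1
      exact Subsingleton.elim (α := PrimeSpectrum sq.K) _ _
    have h2 : (extJ e).left η ⤳ z₀ := IsLocalRing.specializes_closedPoint (show PrimeSpectrum e.A' from _)
    exact h1 ▸ h2.map (Points.continuous_ofPt l)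
  · rw [Points.map_ofPt, hl₂, hbot, ← Functor.map_comp]
    refine ((congrArg (Points.ofPt · z₀) (Category.comp_id _).symm).trans (ofPt_comp _ (𝟙 _) z₀)).trans ?_
    congr 1
    change (extA e ≫ iT).left z₀ = _
    rw [Over.comp_left, Scheme.Hom.comp_apply]
    have : (extA e).left z₀ = (closedPoint sq.A : ↥sq.ptA.left) := comap_closedPoint (S := e.A') e.φ
    rw [this]

theorem exists_lift_specializes_dvrExt {P : Sp S} {T : Over S} [IsLocallyNoetherian T.left]
    {q : P ⟶ (yon S).obj T} (hft : LocP @LocallyOfFiniteType q)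
    (hv : ∀ sq : ValSq q, IsDiscreteValuationRing sq.A → sq.HasLiftExt)
    {U : Over S} {a : (yon S).obj U ⟶ P} (ha : RepWith @Etale a) {b : U ⟶ T} (hb : (yon S).map b = a ≫ q)
    (u : ↥U.left) (t' : ↥T.left) (hst : b.left u ⤳ t') :
    ∃ y, Points.ofPt a u ⤳ y ∧ Points.map q y = Points.ofScheme T t' := by
  by_cases hne : t' = b.left u
  · refine ⟨_, specializes_rfl, ?_⟩
    rw [Points.map_ofPt, ← hb, hne]
    exact (congrArg (Points.ofPt · u) (Category.comp_id _).symm).trans (ofPt_comp b (𝟙 _) u)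
  · have : LocallyOfFiniteType b.left := hft a (𝟙 _) b ha (repWith_id _ T) (by rw [Category.comp_id, hb])
    obtain ⟨A, i₂, hA, hcl, hgen⟩ := S4450.result b.left u t' hst hne
    let str : Spec (CommRingCat.of A) ⟶ S := i₂ ≫ T.hom
    let ι : CommRingCat.of A ⟶ U.left.residueField u := CommRingCat.ofHom (algebraMap A (U.left.residueField u))
    have hw : U.left.fromSpecResidueField u ≫ b.left = Spec.map ι ≫ i₂ := hgen.symm
    let iU : Over.mk (Spec.map ι ≫ str) ⟶ U := CategoryTheory.Over.homMk (U.left.fromSpecResidueField u) (by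
      change U.left.fromSpecResidueField u ≫ U.hom = Spec.map ι ≫ i₂ ≫ T.hom
      rw [← Over.w b, ← Category.assoc, hw, Category.assoc])
    let iT : Over.mk str ⟶ T := CategoryTheory.Over.homMk i₂ rfl
    let sq : ValSq q :=
      { A := A, K := U.left.residueField u, str := str, top := (yon S).map iU ≫ a, bot := (yon S).map iT,
        comm := by
          rw [Category.assoc, ← hb, ← Functor.map_comp, ← Functor.map_comp]
          congr 1
          exact Over.OverMorphism.ext hw }
    obtain ⟨y, hy, hy'⟩ := exists_specializes_of_domExt sq iT rfl (hv sq hA)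
    refine ⟨y, ?_, hy'.trans ?_⟩
    · have h1 : Points.ofPt sq.top (closedPoint sq.K : ↥sq.ptK.left) = Points.ofPt a u := by
        change Points.ofPt ((yon S).map iU ≫ a) _ = _
        rw [ofPt_comp]
        congr 1
        exact U.left.fromSpecResidueField_apply u _
      exact h1 ▸ hy
    · exact congrArg (Points.ofScheme T) hcl

/-- The existence of extended lifts over discrete valuation rings passes to base changes. -/
theorem hasLiftExt_dvr_of_isPullback {F' G' : Sp S} {f : F ⟶ G} {g : G' ⟶ G} {fst : F' ⟶ F} {f' : F' ⟶ G'}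
    (hsq : IsPullback fst f' f g) (hf : ∀ sq : ValSq f, IsDiscreteValuationRing sq.A → sq.HasLiftExt)
    (sq : ValSq f') (hA : IsDiscreteValuationRing sq.A) : sq.HasLiftExt := by
  obtain ⟨e₀, he₀⟩ := hf (pushSq hsq sq) hA
  obtain ⟨l, hl, hl'⟩ := (hasLift_iff e₀).1 he₀
  let e : sq.DomExt :=
    { A' := e₀.A', K' := e₀.K', φ := e₀.φ, ψ := e₀.ψ, comm := e₀.comm, isLocalHom := e₀.isLocalHom }
  refine ⟨e, (hasLift_iff e).2 ⟨hsq.lift l ((yon S).map (extA e) ≫ sq.bot) ?_, ?_, hsq.lift_snd _ _ _⟩⟩
  · rw [Category.assoc]; exact hl'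
  · apply hsq.hom_ext
    · rw [Category.assoc, hsq.lift_fst, Category.assoc]
      exact hl
    · rw [Category.assoc, hsq.lift_snd, ← Functor.map_comp_assoc, extJ_extA, Functor.map_comp,
        Category.assoc, Category.assoc, sq.comm]

theorem isUnivClosedMor_of_dvrExt (hF : IsAlgSpace F) (hG : IsAlgSpace G) {f : F ⟶ G} (hft : IsFiniteTypeMor f)
    (hN : IsLocNoethSp G) (hv : ∀ sq : ValSq f, IsDiscreteValuationRing sq.A → sq.HasLiftExt) :
    IsUnivClosedMor f := by
  obtain ⟨V, b, hb, hb', hV⟩ := hN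
  refine isUnivClosedMor_of_polynomial hF hG hft.2 hb hb' fun A str i hi n C hC => ?_
  have : IsLocallyNoetherian (Spec A) := isLocallyNoetherian_of_isOpenImmersion i.left
  have : IsNoetherianRing A := by
    have : IsNoetherianRing Γ(Spec A, ⊤) :=
      IsLocallyNoetherian.component_noetherian (X := Spec A) ⟨⊤, isAffineOpen_top _⟩
    exact isNoetherianRing_of_ringEquiv Γ(Spec A, ⊤) (Scheme.ΓSpecIso A).commRingCatIsoToRingEquiv
  let q₁ := pullback.snd f ((yon S).map i ≫ b)
  have hP₁ : IsAlgSpace (pullback f ((yon S).map i ≫ b)) := isAlgSpace_pullback hF (IsAlgSpace.yon_obj _) hG f _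
  let T : Over S := Over.mk (Spec.map (polyHom A n) ≫ str)
  let g : (yon S).obj T ⟶ (yon S).obj (Over.mk str) := (yon S).map (specToBase (str := str) (polyHom A n))
  have : IsLocallyNoetherian T.left :=
    inferInstanceAs (IsLocallyNoetherian (Spec (CommRingCat.of (MvPolynomial (ULift.{u} (Fin n)) A))))
  have : IsAffine T.left := inferInstanceAs (IsAffine (Spec (CommRingCat.of (MvPolynomial (ULift.{u} (Fin n)) A))))
  have hP₂ : IsAlgSpace (pullback q₁ g) := isAlgSpace_pullback hP₁ (IsAlgSpace.yon_obj T) (IsAlgSpace.yon_obj _) q₁ g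
  let q₂ := pullback.snd q₁ g
  have sq₂ : IsPullback (pullback.fst q₁ g ≫ pullback.fst f _) q₂ f (g ≫ (yon S).map i ≫ b) :=
    (IsPullback.of_hasPullback q₁ g).paste_horiz (IsPullback.of_hasPullback f _)
  have hc : CompactSpace (Points (pullback q₁ g)) := (AlgSpPts.isQuasiCompactSp_iff hP₂).1
    (hft.2 (IsAlgSpace.yon_obj T) isQuasiCompactSp_yon _ _ _ sq₂)
  have hlft : LocP @LocallyOfFiniteType q₂ := locP_of_isPullback sq₂ hF hG (IsAlgSpace.yon_obj T) hft.1
  have hcl := isClosed_image_of_lifts hP₂ q₂ hc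
    (fun U a b' ha hb' u t' h =>
      exists_lift_specializes_dvrExt hlft (hasLiftExt_dvr_of_isPullback sq₂ hv) ha hb' u t' h) hC
  have : Points.map q₂ '' C = Points.schemeHomeo T '' {t | ∃ c ∈ C, Points.map q₂ c = Points.ofScheme T t} := by
    ext x
    obtain ⟨t, rfl⟩ := (Points.schemeHomeo T).surjective x
    constructor
    · rintro ⟨c, hc, hct⟩
      exact ⟨t, ⟨c, hc, hct⟩, rfl⟩
    · rintro ⟨t', ⟨c, hc, hct⟩, ht'⟩
      exact ⟨c, hc, hct.trans ht'⟩
  exact this ▸ (Points.schemeHomeo T).isClosedMap _ hcl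

/-- A valuation ring of a finite extension dominating a discrete valuation ring is discrete. -/
theorem isDiscreteValuationRing_of_dominates {A K A' K' : Type u} [CommRing A] [IsDomain A]
    [IsDiscreteValuationRing A] [Field K] [Algebra A K] [IsFractionRing A K] [CommRing A'] [IsDomain A']
    [ValuationRing A'] [Field K'] [Algebra A' K'] [IsFractionRing A' K'] (φ : A →+* A') (ψ : K →+* K')
    (hc : (algebraMap A' K').comp φ = ψ.comp (algebraMap A K)) [hloc : IsLocalHom φ]
    (hfin : letI := ψ.toAlgebra; Module.Finite K K') : IsDiscreteValuationRing A' := by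
  let _ : Algebra K K' := ψ.toAlgebra
  let _ : Algebra A K' := (ψ.comp (algebraMap A K)).toAlgebra
  let _ : Algebra A A' := φ.toAlgebra
  have : IsScalarTower A K K' := IsScalarTower.of_algebraMap_eq' rfl
  have : IsScalarTower A A' K' := IsScalarTower.of_algebraMap_eq' hc.symm
  have : FiniteDimensional K K' := hfin
  have hN : IsNoetherianRing A' := KrullAkiExt.isNoetherianRing_of_injective (R := A) (K := K) K' A'
    (IsFractionRing.injective A' K')
  have : IsPrincipalIdealRing A' := IsPrincipalIdealRing.of_isNoetherianRing_of_isBezout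
  refine { not_a_field' := IsLocalRing.isField_iff_maximalIdeal_eq.not.1 fun hf => ?_ }
  obtain ⟨π, hπ⟩ := IsDiscreteValuationRing.exists_irreducible A
  have h1 : ¬ IsUnit (φ π) := fun h => hπ.not_isUnit (hloc.map_nonunit π h)
  have h2 : φ π = 0 := by
    by_contra hne
    obtain ⟨b, hb⟩ := hf.mul_inv_cancel hne
    exact h1 (IsUnit.of_mul_eq_one b hb)
  have h3 := congrArg (fun g : A →+* K' => g π) hc
  simp only [RingHom.comp_apply, h2, map_zero] at h3
  exact hπ.ne_zero (IsFractionRing.injective A K (by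
    rw [map_zero]
    exact ψ.injective (h3.symm.trans (map_zero ψ).symm)))

theorem exists_dvr_lift (hF : IsAlgSpace F) (hG : IsAlgSpace G) {f : F ⟶ G}
    (hdm : IsDecentMor f) (hc : IsUnivClosedMor f) (sq : ValSq f) (hA : IsDiscreteValuationRing sq.A) :
    ∃ e : sq.DomExt, IsDiscreteValuationRing e.A' ∧
      (letI := e.ψ.toAlgebra; Module.Finite sq.K e.K' ∧ Algebra.IsSeparable sq.K e.K') ∧ e.HasLift := by
  obtain ⟨e, hQ, hl⟩ := exists_separable_lift hF hG sq (existVC_of_univClosed_decent hF hG hdm hc sq)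
  have := e.isLocalHom
  exact ⟨e, isDiscreteValuationRing_of_dominates e.φ e.ψ e.comm hQ.1, hQ, hl⟩

end Groth.Agent.AlgSpVal
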