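import Mathlib.RingTheory.Etale.Descent
import Mathlib.RingTheory.Flat.TorsionFree
import Mathlib.RingTheory.Flat.FaithfullyFlat.Algebra
import Mathlib.RingTheory.Localization.BaseChange
import Mathlib.RingTheory.Valuation.ValuationRing

/-!
# Etale models over a valuation ring

An étale algebra over a dominating valuation ring whose generic fibre comes from an algebra `L` over the
smaller fraction field, and whose generators come from the smaller valuation ring, is a base change.
-/

universe u

open TensorProduct

namespace Groth.Agent.AlgSpVal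

theorem flat_of_injective {A M : Type u} [CommRing A] [IsDomain A] [ValuationRing A] [CommRing M] [IsDomain M]
    [Algebra A M] (h : Function.Injective (algebraMap A M)) : Module.Flat A M := by
  have : Module.IsTorsionFree A M := by
    have : FaithfulSMul A M := (faithfulSMul_iff_algebraMap_injective A M).2 h
    infer_instance
  rw [Module.Flat.flat_iff_torsion_eq_bot_of_isBezout, ← Submodule.isTorsionFree_iff_torsion_eq_bot]
  infer_instance

variable {A A' K K' C B' L : Type u} [CommRing A] [IsDomain A] [ValuationRing A] [Field K] [Algebra A K]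
  [IsFractionRing A K] [CommRing A'] [IsDomain A'] [IsLocalRing A'] [Field K'] [Algebra A' K'] [IsFractionRing A' K']
  [Algebra A A'] [IsLocalHom (algebraMap A A')] [Algebra K K'] [Algebra A K'] [IsScalarTower A K K']
  [IsScalarTower A A' K'] [CommRing C] [Algebra A C] [CommRing L] [Algebra A L] [Algebra K L] [IsScalarTower A K L]
  [CommRing B'] [Algebra A' B']

theorem injective_algebraMap_of_dominates (A A' K K' : Type u) [CommRing A] [CommRing A'] [Field K] [Algebra A K]
    [IsFractionRing A K] [Field K'] [Algebra A' K'] [Algebra A A'] [Algebra K K'] [Algebra A K']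
    [IsScalarTower A K K'] [IsScalarTower A A' K'] : Function.Injective (algebraMap A A') := fun a b h => by
  have := congrArg (algebraMap A' K') h
  rw [← IsScalarTower.algebraMap_apply, ← IsScalarTower.algebraMap_apply, IsScalarTower.algebraMap_apply A K K',
    IsScalarTower.algebraMap_apply A K K'] at this
  exact IsFractionRing.injective A K ((algebraMap K K').injective this)

theorem faithfullyFlat_of_dominates (A A' K K' : Type u) [CommRing A] [IsDomain A] [ValuationRing A] [Field K]
    [Algebra A K] [IsFractionRing A K] [CommRing A'] [IsDomain A'] [IsLocalRing A'] [Field K'] [Algebra A' K']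
    [Algebra A A'] [IsLocalHom (algebraMap A A')] [Algebra K K'] [Algebra A K']
    [IsScalarTower A K K'] [IsScalarTower A A' K'] : Module.FaithfullyFlat A A' := by
  have := flat_of_injective (injective_algebraMap_of_dominates A A' K K')
  exact Module.FaithfullyFlat.of_flat_of_isLocalHom

/-- The comparison map of the base change of the range. -/
noncomputable def rangeComparison (K' : Type u) [Field K'] [Algebra A' K'] [Algebra K K'] (ρ : C →ₐ[A] L)
    [Algebra A K'] [IsScalarTower A K K'] [IsScalarTower A A' K'] : A' ⊗[A] ρ.range →ₐ[A'] K' ⊗[K] L :=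
  Algebra.TensorProduct.lift (Algebra.ofId A' _)
    (((Algebra.TensorProduct.includeRight (R := K) (A := K') (B := L)).restrictScalars A).comp ρ.range.val)
    fun _ _ => mul_comm _ _

theorem rangeComparison_tmul (ρ : C →ₐ[A] L) (a : A') (b : ρ.range) :
    rangeComparison (K := K) K' ρ (a ⊗ₜ b) = algebraMap A' K' a ⊗ₜ[K] (b : L) := by
  erw [Algebra.TensorProduct.lift_tmul]
  change (algebraMap A' K' a ⊗ₜ[K] (1 : L)) * ((1 : K') ⊗ₜ[K] (b : L)) = _
  rw [Algebra.TensorProduct.tmul_mul_tmul, mul_one, one_mul]

theorem injective_rangeComparison (ρ : C →ₐ[A] L) :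
    Function.Injective (rangeComparison (A' := A') (K := K) K' ρ) := by
  have := (faithfullyFlat_of_dominates A A' K K').toFlat
  have : Module.Flat A K := IsLocalization.flat K (nonZeroDivisors A)
  have : Module.Flat A L := Module.Flat.trans A K L
  have := IsLocalization.tensorProduct_compatibleSMul (nonZeroDivisors A) K K' L
  have h1 := Module.Flat.lTensor_preserves_injective_linearMap (M := A') ρ.range.val.toLinearMap Subtype.val_injective
  have h2 := Module.Flat.rTensor_preserves_injective_linearMap (M := L) (IsScalarTower.toAlgHom A A' K').toLinearMap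
    (IsFractionRing.injective A' K')
  let e : K' ⊗[K] L ≃ₗ[A] K' ⊗[A] L := ((IsLocalization.moduleTensorEquiv (nonZeroDivisors A) K K' L)).restrictScalars A |>.symm.symm
  have key : ∀ z, e (rangeComparison (A' := A') (K := K) K' ρ z) =
      (IsScalarTower.toAlgHom A A' K').toLinearMap.rTensor L (ρ.range.val.toLinearMap.lTensor A' z) := by
    intro z
    induction z using TensorProduct.induction_on with
    | zero => simp
    | add z w hz hw => simp [hz, hw]
    | tmul a b =>
      rw [rangeComparison_tmul]
      simp [e, IsLocalization.moduleTensorEquiv]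
      rfl
  exact fun z w h => h1 (h2 ((key z).symm.trans ((congrArg e h).trans (key w))))

/-- The model is étale over the smaller valuation ring, and has a point over the closed point. -/
theorem etale_range [Algebra.Etale A' B'] (ρ : C →ₐ[A] L) (π : A' ⊗[A] C →ₐ[A'] B') (hπ : Function.Surjective π)
    (ι : B' →ₐ[A'] K' ⊗[K] L) (hι : Function.Injective ι) (h : ∀ c, ι (π (1 ⊗ₜ c)) = 1 ⊗ₜ ρ c)
    (q : Ideal B') [q.IsPrime] (hq : q.comap (algebraMap A' B') = IsLocalRing.maximalIdeal A') :
    Algebra.Etale A ρ.range ∧
      ∃ r : Ideal ρ.range, r.IsPrime ∧ r.comap (algebraMap A ρ.range) = IsLocalRing.maximalIdeal A := by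
  have := faithfullyFlat_of_dominates A A' K K'
  let p : A' ⊗[A] C →ₐ[A'] A' ⊗[A] ρ.range := Algebra.TensorProduct.map (AlgHom.id A' A') ρ.rangeRestrict
  have hp : Function.Surjective p := by
    intro z
    induction z using TensorProduct.induction_on with
    | zero => exact ⟨0, map_zero _⟩
    | add z w hz hw => obtain ⟨x, rfl⟩ := hz; obtain ⟨y, rfl⟩ := hw; exact ⟨x + y, map_add _ _ _⟩
    | tmul a b => obtain ⟨c, rfl⟩ := ρ.rangeRestrict_surjective b; exact ⟨a ⊗ₜ c, by simp [p]⟩
  have hcomm : (rangeComparison (A' := A') (K := K) K' ρ).comp p = ι.comp π := by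
    apply Algebra.TensorProduct.ext
    · ext
    · ext c
      change rangeComparison (A' := A') (K := K) K' ρ (p (1 ⊗ₜ c)) = ι (π (1 ⊗ₜ c))
      rw [h]
      simp [p, rangeComparison_tmul]
  have hcomm' : ∀ z, rangeComparison (A' := A') (K := K) K' ρ (p z) = ι (π z) := DFunLike.congr_fun hcomm
  have hinj := injective_rangeComparison (A' := A') (K := K) (K' := K') ρ
  have hle : RingHom.ker p.toRingHom ≤ RingHom.ker π.toRingHom := fun z hz => hι (by
    change ι (π z) = ι 0
    rw [← hcomm' z, show p z = 0 from hz, map_zero, map_zero])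
  let f : A' ⊗[A] ρ.range →ₐ[A'] B' := AlgHom.liftOfSurjective p hp π hle
  have hf : ∀ z, f (p z) = π z := fun z => AlgHom.liftOfSurjective_apply p hp π hle z
  have hbij : Function.Bijective f := by
    refine ⟨fun x y hxy => ?_, fun b => ?_⟩
    · obtain ⟨x, rfl⟩ := hp x
      obtain ⟨y, rfl⟩ := hp y
      rw [hf, hf] at hxy
      exact hinj ((hcomm' x).trans ((congrArg ι hxy).trans (hcomm' y).symm))
    · obtain ⟨z, rfl⟩ := hπ b
      exact ⟨p z, hf z⟩
  have : Algebra.Etale A' (A' ⊗[A] ρ.range) := Algebra.Etale.of_equiv (AlgEquiv.ofBijective f hbij).symm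
  refine ⟨Algebra.Etale.of_etale_tensorProduct_of_faithfullyFlat A', ?_⟩
  let g : ρ.range →ₐ[A] A' ⊗[A] ρ.range := Algebra.TensorProduct.includeRight
  refine ⟨q.comap (f.toRingHom.comp g.toRingHom), Ideal.IsPrime.comap _, ?_⟩
  ext a
  rw [Ideal.mem_comap, Ideal.mem_comap]
  have : (f.toRingHom.comp g.toRingHom) (algebraMap A ρ.range a) = algebraMap A' B' (algebraMap A A' a) := by
    change f (g (algebraMap A ρ.range a)) = _
    rw [g.commutes, IsScalarTower.algebraMap_apply A A' (A' ⊗[A] ρ.range), f.commutes]
  rw [this, ← Ideal.mem_comap, hq]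
  exact map_mem_nonunits_iff (algebraMap A A') a

end Groth.Agent.AlgSpVal
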