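import Mathlib.RingTheory.TensorProduct.Finite
import Mathlib.RingTheory.MvPolynomial.Basic
import Mathlib.Topology.Maps.Basic
import Groth.Agent.AlgSpVal.SpecPullback
import Groth.Agent.AlgSpPts.Misc
import Groth.Agent.AlgSpPts.Univ

/-!
# Closedness of all affine base changes from closedness of polynomial base changes
-/

set_option backward.isDefEq.respectTransparency false
set_option backward.isDefEq.respectTransparency.types false

universe u

open CategoryTheory Limits Opposite AlgebraicGeometry AlgSp Groth.Agent.AlgSpLib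
open scoped TensorProduct

namespace Groth.Agent.AlgSpVal

section Algebra

variable {A B R : Type u} [CommRing A] [CommRing B] [Algebra A B] [CommRing R] [Algebra A R]

theorem exists_tensor_of_mem_map (p : Ideal B) {z : R ⊗[A] B}
    (hz : z ∈ p.map (Algebra.TensorProduct.includeRight : B →ₐ[A] R ⊗[A] B)) :
    ∃ (n : ℕ) (r : Fin n → R) (b : Fin n → B), (∀ i, b i ∈ p) ∧ z = ∑ i, r i ⊗ₜ[A] b i := by
  classical
  suffices z ∈ LinearMap.range ((p.restrictScalars A).subtype.lTensor R) by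
    obtain ⟨y, rfl⟩ := this
    obtain ⟨s, rfl⟩ := TensorProduct.exists_finset y
    refine ⟨s.card, fun i => (s.equivFin.symm i).1.1, fun i => ((s.equivFin.symm i).1.2 : B),
      fun i => (s.equivFin.symm i).1.2.2, ?_⟩
    rw [map_sum, ← Finset.sum_coe_sort s, ← s.equivFin.symm.sum_comp]
    rfl
  rw [Ideal.map] at hz
  induction hz using Submodule.span_induction with
  | mem x hx =>
    obtain ⟨b, hb, rfl⟩ := hx
    exact ⟨1 ⊗ₜ ⟨b, hb⟩, rfl⟩
  | zero => exact zero_mem _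
  | add x y _ _ hx hy => exact add_mem hx hy
  | smul c x hmem hx =>
    clear hmem
    obtain ⟨y, rfl⟩ := hx
    induction y using TensorProduct.induction_on with
    | zero => simp
    | add x y hx hy => rw [map_add, smul_add]; exact add_mem hx hy
    | tmul r b =>
      induction c using TensorProduct.induction_on with
      | zero => simp
      | add x y hx hy => rw [add_smul]; exact add_mem hx hy
      | tmul r' b' =>
        refine ⟨(r' * r) ⊗ₜ ⟨b' * b, p.mul_mem_left _ b.2⟩, ?_⟩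
        simp [Algebra.TensorProduct.tmul_mul_tmul]

/-- A point outside the image of a closed set is outside the image after descending the closed set to a
polynomial ring. -/
theorem exists_polynomial_descent (J : Ideal (R ⊗[A] B)) (p : Ideal B) [p.IsPrime]
    (h : ∀ Q : Ideal (R ⊗[A] B), Q.IsPrime → J ≤ Q →
      Q.comap (Algebra.TensorProduct.includeRight : B →ₐ[A] R ⊗[A] B) ≠ p) :
    ∃ (n : ℕ) (φ : MvPolynomial (ULift.{u} (Fin n)) A →ₐ[A] B),
      ∀ Q : Ideal (R ⊗[A] MvPolynomial (ULift.{u} (Fin n)) A), Q.IsPrime →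
        J.comap (Algebra.TensorProduct.map (AlgHom.id A R) φ) ≤ Q →
        Q.comap (Algebra.TensorProduct.includeRight :
          MvPolynomial (ULift.{u} (Fin n)) A →ₐ[A] R ⊗[A] MvPolynomial (ULift.{u} (Fin n)) A) ≠ p.comap φ := by
  let i₂ : B →ₐ[A] R ⊗[A] B := Algebra.TensorProduct.includeRight
  obtain ⟨g, hgp, hg⟩ : ∃ g, g ∉ p ∧ i₂ g ∈ J ⊔ p.map i₂ := by
    by_contra hne
    push Not at hne
    obtain ⟨Q, hQ, hQl, hQd⟩ := Ideal.exists_le_prime_disjoint (J ⊔ p.map i₂) (p.primeCompl.map i₂)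
      (Set.disjoint_left.2 fun x hx ⟨b, hb, hbx⟩ => hne b hb (hbx ▸ hx))
    refine h Q hQ (le_sup_left.trans hQl) (le_antisymm (fun b hb => ?_)
      (Ideal.map_le_iff_le_comap.1 (le_sup_right.trans hQl)))
    by_contra hbp
    exact Set.disjoint_left.1 hQd hb ⟨b, hbp, rfl⟩
  obtain ⟨y, hy, z, hz, hyz⟩ := Submodule.mem_sup.1 hg
  obtain ⟨n, r, b, hb, rfl⟩ := exists_tensor_of_mem_map p hz
  let v : ULift.{u} (Fin (n + 1)) → B := fun i => (Fin.cons g b : Fin (n + 1) → B) i.down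
  let φ : MvPolynomial (ULift.{u} (Fin (n + 1))) A →ₐ[A] B := MvPolynomial.aeval v
  refine ⟨n + 1, φ, fun Q hQ hJQ hQp => ?_⟩
  let X₀ : MvPolynomial (ULift.{u} (Fin (n + 1))) A := MvPolynomial.X ⟨0⟩
  let X₁ : Fin n → MvPolynomial (ULift.{u} (Fin (n + 1))) A := fun i => MvPolynomial.X ⟨i.succ⟩
  let e : R ⊗[A] MvPolynomial (ULift.{u} (Fin (n + 1))) A := 1 ⊗ₜ X₀ - ∑ i, r i ⊗ₜ X₁ i
  have he : e ∈ Q := hJQ (by
    have : Algebra.TensorProduct.map (AlgHom.id A R) φ e = y := by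
      simp only [e, map_sub, map_sum, Algebra.TensorProduct.map_tmul, AlgHom.id_apply, φ, X₀, X₁,
        MvPolynomial.aeval_X, v, Fin.cons_zero, Fin.cons_succ]
      rw [show (1 : R) ⊗ₜ[A] g = i₂ g from rfl, ← hyz, add_sub_cancel_right]
    rw [Ideal.mem_comap, this]
    exact hy)
  have hX₁ : ∀ i, X₁ i ∈ p.comap φ := fun i => by simp [X₁, φ, v, hb i]
  have hX₀ : X₀ ∉ p.comap φ := by simp [X₀, φ, v, hgp]
  have hsum : ∑ i, r i ⊗ₜ[A] X₁ i ∈ Q := Q.sum_mem fun i _ => by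
    have h1 : (1 : R) ⊗ₜ[A] X₁ i ∈ Q := (hQp ▸ hX₁ i :)
    have := Q.mul_mem_left (r i ⊗ₜ[A] 1) h1
    rwa [Algebra.TensorProduct.tmul_mul_tmul, mul_one, one_mul] at this
  have : (1 : R) ⊗ₜ[A] X₀ ∈ Q := by simpa [e] using Q.add_mem he hsum
  exact hX₀ (hQp ▸ this)

end Algebra

section Geometry

variable {S : Scheme.{u}} {A : CommRingCat.{u}} {str : Spec A ⟶ S}

/-- `A` to `A[x₁, …, xₙ]`. -/
noncomputable abbrev polyHom (A : CommRingCat.{u}) (n : ℕ) :
    A ⟶ CommRingCat.of (MvPolynomial (ULift.{u} (Fin n)) A) :=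
  CommRingCat.ofHom (algebraMap A (MvPolynomial (ULift.{u} (Fin n)) A))

/-- The base change of an affine chart. -/
theorem exists_chart_baseChange {P : Sp S} {p : P ⟶ (yon S).obj (Over.mk str)} {R B D : CommRingCat.{u}}
    (γ : A ⟶ R) (β : A ⟶ B) (l : R ⟶ D) (r : B ⟶ D) (hpo : IsPushout γ β l r)
    (a : (yon S).obj (Over.mk (Spec.map γ ≫ str)) ⟶ P) (hap : a ≫ p = (yon S).map (specToBase γ)) :
    ∃ aB : (yon S).obj (Over.mk (Spec.map (β ≫ r) ≫ str)) ⟶ pullback p ((yon S).map (specToBase (str := str) β)),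
      IsPullback ((yon S).map (specHom (str := str) γ l (β ≫ r) hpo.w)) aB a (pullback.fst p _) ∧
      aB ≫ pullback.snd p _ = (yon S).map (specHom (str := str) β r (β ≫ r) rfl) := by
  let T : Over S := Over.mk (Spec.map (β ≫ r) ≫ str)
  let t₁ : T ⟶ Over.mk (Spec.map γ ≫ str) := specHom γ l _ hpo.w
  let t₂ : T ⟶ Over.mk (Spec.map β ≫ str) := specHom β r _ rfl
  have hw : t₁ ≫ specToBase γ = t₂ ≫ specToBase β :=
    Over.OverMorphism.ext (isPullback_SpecMap_of_isPushout _ _ _ _ hpo).w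
  have sq : IsPullback t₁ t₂ (specToBase γ) (specToBase β) :=
    IsPullback.of_map (Over.forget S) hw (isPullback_SpecMap_of_isPushout _ _ _ _ hpo)
  have sqY := sq.map (yon S)
  rw [← hap] at sqY
  let aB : (yon S).obj T ⟶ pullback p ((yon S).map (specToBase (str := str) β)) :=
    pullback.lift ((yon S).map t₁ ≫ a) ((yon S).map t₂) (by rw [Category.assoc]; exact sqY.w)
  refine ⟨aB, ?_, pullback.lift_snd _ _ _⟩
  refine (IsPullback.of_right ?_ ?_ (IsPullback.of_hasPullback p _).flip).flip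
  · rw [pullback.lift_snd]
    exact sqY.flip
  · exact pullback.lift_fst _ _ _

/-- Two base changes of a chart form a cartesian square. -/
theorem isPullback_chart {P : Sp S} {p : P ⟶ (yon S).obj (Over.mk str)} {R B B₀ D D₀ : CommRingCat.{u}}
    {γ : A ⟶ R} {β : A ⟶ B} {β₀ : A ⟶ B₀} {l : R ⟶ D} {r : B ⟶ D} {l₀ : R ⟶ D₀} {r₀ : B₀ ⟶ D₀}
    {hw : γ ≫ l = β ≫ r} {hw₀ : γ ≫ l₀ = β₀ ≫ r₀}
    {a : (yon S).obj (Over.mk (Spec.map γ ≫ str)) ⟶ P}
    {aB : (yon S).obj (Over.mk (Spec.map (β ≫ r) ≫ str)) ⟶ pullback p ((yon S).map (specToBase (str := str) β))}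
    {a₀ : (yon S).obj (Over.mk (Spec.map (β₀ ≫ r₀) ≫ str)) ⟶ pullback p ((yon S).map (specToBase (str := str) β₀))}
    (sqB : IsPullback ((yon S).map (specHom (str := str) γ l _ hw)) aB a (pullback.fst p _))
    (hBs : aB ≫ pullback.snd p _ = (yon S).map (specHom (str := str) β r _ rfl))
    (sq₀ : IsPullback ((yon S).map (specHom (str := str) γ l₀ _ hw₀)) a₀ a (pullback.fst p _))
    (h₀s : a₀ ≫ pullback.snd p _ = (yon S).map (specHom (str := str) β₀ r₀ _ rfl))
    (φ : B₀ ⟶ B) (hφ : β₀ ≫ φ = β) (Φ : D₀ ⟶ D) (hl : l₀ ≫ Φ = l) (hr : r₀ ≫ Φ = φ ≫ r)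
    (π : pullback p ((yon S).map (specToBase (str := str) β)) ⟶ pullback p ((yon S).map (specToBase (str := str) β₀)))
    (hπ₁ : π ≫ pullback.fst p _ = pullback.fst p _)
    (hπ₂ : π ≫ pullback.snd p _ = pullback.snd p _ ≫ (yon S).map (specHom (str := str) β₀ φ β hφ)) :
    IsPullback ((yon S).map (specHom (str := str) (β₀ ≫ r₀) Φ (β ≫ r)
      (by rw [Category.assoc, hr, ← Category.assoc, hφ]))) aB a₀ π := by
  have h1 : (yon S).map (specHom (str := str) (β₀ ≫ r₀) Φ (β ≫ r) (by rw [Category.assoc, hr, ← Category.assoc, hφ])) ≫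
      (yon S).map (specHom (str := str) γ l₀ (β₀ ≫ r₀) hw₀) = (yon S).map (specHom (str := str) γ l (β ≫ r) hw) := by
    rw [← Functor.map_comp, specHom_comp]
    congr 1
    exact specHom_congr _ _ _ _ hl
  refine IsPullback.of_right ?_ ?_ sq₀
  · rw [hπ₁, h1]
    exact sqB
  · apply pullback.hom_ext
    · rw [Category.assoc ((yon S).map _) a₀, Category.assoc aB π, hπ₁, ← sq₀.w, ← sqB.w, ← Category.assoc, h1]
    · rw [Category.assoc ((yon S).map _) a₀, Category.assoc aB π, hπ₂, ← Category.assoc aB, hBs, h₀s, ← Functor.map_comp,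
        ← Functor.map_comp, specHom_comp, specHom_comp]
      congr 1
      exact specHom_congr _ _ _ _ hr

theorem map_ofPt_spec {P : Sp S} {T T' : Over S} {a : (yon S).obj T ⟶ P} {q : P ⟶ (yon S).obj T'} {k : T ⟶ T'}
    (h : a ≫ q = (yon S).map k) (w : ↥T.left) : Points.map q (Points.ofPt a w) = Points.ofScheme T' (k.left w) := by
  rw [Points.map_ofPt, h]
  exact (congrArg (Points.ofPt · w) (Category.comp_id _).symm).trans (ofPt_comp _ (𝟙 _) w)

/-- A point outside the image of a closed set has a neighbourhood outside it, given a descent of the closed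
set to a base change with closed projection. -/
theorem exists_nhd_of_descent {Tβ T₀ W W₀ : Over S} {Pβ P₀ : Sp S} {q : Pβ ⟶ (yon S).obj Tβ}
    {q₀ : P₀ ⟶ (yon S).obj T₀} (hq₀ : IsClosedMap (Points.map q₀)) {π : Pβ ⟶ P₀} {f₀ : Tβ ⟶ T₀}
    (hπ : π ≫ q₀ = q ≫ (yon S).map f₀) {aB : (yon S).obj W ⟶ Pβ} {a₀ : (yon S).obj W₀ ⟶ P₀}
    (ha₀ : RepWith @Etale a₀) (ha₀' : RepWith @Surjective a₀) {ψ : W ⟶ W₀}
    (sq : IsPullback ((yon S).map ψ) aB a₀ π) {k₀ : W₀ ⟶ T₀} (hk₀ : a₀ ≫ q₀ = (yon S).map k₀)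
    {C : Set (Points Pβ)} {Z₀ : Set ↥W₀.left} (hZ₀ : IsClosed Z₀)
    (hsub : ∀ v, Points.ofPt aB v ∈ C → ψ.left v ∈ Z₀) (t : ↥Tβ.left)
    (hmiss : ∀ w ∈ Z₀, k₀.left w ≠ f₀.left t) :
    ∃ O : Set ↥Tβ.left, IsOpen O ∧ t ∈ O ∧ ∀ t' ∈ O, ∀ c ∈ C, Points.map q c ≠ Points.ofScheme Tβ t' := by
  let C₀ := closure (Points.map π '' C)
  have hsub' : Points.ofPt a₀ ⁻¹' C₀ ⊆ Z₀ := by
    rw [(isOpenMap_ofPt ha₀).preimage_closure_eq_closure_preimage (Points.continuous_ofPt a₀)]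
    refine closure_minimal ?_ hZ₀
    rintro v ⟨c, hc, hcv⟩
    obtain ⟨z, hz₁, hz₂⟩ := exists_point_of_isPullback sq (x := Points.ofScheme _ v) (y := c) (by
      rw [← Points.ofPt_eq_map_ofScheme]; exact hcv.symm)
    obtain ⟨v', rfl⟩ := (Points.schemeHomeo _).surjective z
    rw [Points.map_yon_map_apply] at hz₁
    obtain rfl := (Points.schemeHomeo _).injective hz₁
    refine hsub v' ?_
    rw [Points.ofPt_eq_map_ofScheme]
    exact hz₂.symm ▸ hc
  refine ⟨f₀.left ⁻¹' ((Points.schemeHomeo T₀) ⁻¹' (Points.map q₀ '' C₀))ᶜ,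
    ((hq₀ _ isClosed_closure).preimage (Points.schemeHomeo T₀).continuous).isOpen_compl.preimage f₀.left.continuous,
    ?_, ?_⟩
  · rintro ⟨c, hc, hct⟩
    obtain ⟨w, rfl⟩ := surjective_ofPt ha₀' c
    rw [map_ofPt_spec hk₀] at hct
    exact hmiss w (hsub' hc) ((Points.schemeHomeo T₀).injective hct)
  · intro t' ht' c hc hct
    refine ht' ⟨Points.map π c, subset_closure ⟨c, hc, rfl⟩, ?_⟩
    rw [← Points.map_comp, hπ, Points.map_comp, hct]
    exact Points.map_yon_map_apply f₀ t'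

/-- A quasi-compact space over an affine scheme has an affine chart. -/
theorem exists_spec_chart {P : Sp S} (hP : IsAlgSpace P) (hc : CompactSpace (Points P))
    (p : P ⟶ (yon S).obj (Over.mk str)) :
    ∃ (R : CommRingCat.{u}) (γ : A ⟶ R) (a : (yon S).obj (Over.mk (Spec.map γ ≫ str)) ⟶ P),
      RepWith @Etale a ∧ RepWith @Surjective a ∧ a ≫ p = (yon S).map (specToBase γ) := by
  obtain ⟨U₀, a₀, ha₀, ha₀', hU₀⟩ := (AlgSpPts.isQuasiCompactSp_iff hP).2 hc
  have : CompactSpace ↥U₀.left := hU₀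
  let 𝒰 := U₀.left.affineCover.finiteSubcover
  let Uc : Scheme.{u} := ∐ 𝒰.X
  let g : Uc ⟶ U₀.left := Sigma.desc 𝒰.f
  have : IsAffine Uc := inferInstance
  have hge : Etale g := by
    refine IsZariskiLocalAtSource.of_openCover (sigmaOpenCover 𝒰.X) fun i => ?_
    change Etale (Sigma.ι 𝒰.X i ≫ Sigma.desc 𝒰.f)
    rw [Sigma.ι_desc]
    infer_instance
  have hgs : Surjective g := ⟨fun x => ⟨Sigma.ι 𝒰.X (𝒰.idx x) (𝒰.covers x).choose, by
    rw [← Scheme.Hom.comp_apply, Sigma.ι_desc]; exact (𝒰.covers x).choose_spec⟩⟩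
  let h : Spec Γ(Uc, ⊤) ⟶ U₀.left := Uc.isoSpec.inv ≫ g
  let U₁ : Over S := Over.mk (h ≫ U₀.hom)
  let i₁ : U₁ ⟶ U₀ := CategoryTheory.Over.homMk h rfl
  obtain ⟨au, hau⟩ := (yon S).map_surjective (((yon S).map i₁ ≫ a₀) ≫ p)
  obtain ⟨γ, hγ⟩ : ∃ γ : A ⟶ Γ(Uc, ⊤), Spec.map γ = au.left := ⟨_, Spec.map_preimage _⟩
  let U : Over S := Over.mk (Spec.map γ ≫ str)
  let i₂ : U ⟶ U₁ := CategoryTheory.Over.homMk (𝟙 (Spec Γ(Uc, ⊤))) (by
    change 𝟙 _ ≫ U₁.hom = Spec.map γ ≫ str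
    rw [Category.id_comp, hγ]
    exact (Over.w au).symm)
  have hie : Etale (i₂ ≫ i₁).left := (inferInstance : Etale (𝟙 _ ≫ Uc.isoSpec.inv ≫ g))
  have his : Surjective (i₂ ≫ i₁).left := (inferInstance : Surjective (𝟙 _ ≫ Uc.isoSpec.inv ≫ g))
  refine ⟨_, γ, (yon S).map (i₂ ≫ i₁) ≫ a₀, repWith_comp ((repWith_yon_map_iff _ _).2 hie) ha₀,
    repWith_comp ((repWith_yon_map_iff _ _).2 his) ha₀', ?_⟩
  rw [show (yon S).map (i₂ ≫ i₁) ≫ a₀ = (yon S).map i₂ ≫ (yon S).map i₁ ≫ a₀ by rw [← Functor.map_comp_assoc],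
    Category.assoc, ← hau, ← Functor.map_comp]
  congr 1
  exact Over.OverMorphism.ext ((Category.id_comp _).trans hγ.symm)

/-- Closedness of the base change to every affine scheme follows from closedness of the base changes to
polynomial rings. -/
theorem isClosedMap_of_polynomial {P : Sp S} (hP : IsAlgSpace P) (hc : CompactSpace (Points P))
    (p : P ⟶ (yon S).obj (Over.mk str))
    (h : ∀ n, IsClosedMap (Points.map (pullback.snd p ((yon S).map (specToBase (str := str) (polyHom A n))))))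
    {B : CommRingCat.{u}} (β : A ⟶ B) :
    IsClosedMap (Points.map (pullback.snd p ((yon S).map (specToBase (str := str) β)))) := by
  intro C hC
  obtain ⟨R, γ, a, ha, ha', hap⟩ := exists_spec_chart hP hc p
  let _ : Algebra A R := γ.hom.toAlgebra
  let _ : Algebra A B := β.hom.toAlgebra
  let l : R ⟶ CommRingCat.of (R ⊗[A] B) := CommRingCat.ofHom Algebra.TensorProduct.includeLeftRingHom
  let r : B ⟶ CommRingCat.of (R ⊗[A] B) :=
    CommRingCat.ofHom (Algebra.TensorProduct.includeRight (R := A) (A := R) (B := B)).toRingHom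
  have hpo : IsPushout γ β l r := CommRingCat.isPushout_tensorProduct A R B
  obtain ⟨aB, sqB, hBs⟩ := exists_chart_baseChange γ β l r hpo a hap
  let q := pullback.snd p ((yon S).map (specToBase (str := str) β))
  let Tβ : Over S := Over.mk (Spec.map β ≫ str)
  have hD : Points.map q '' C = (Points.schemeHomeo Tβ) '' {t | ∃ c ∈ C, Points.map q c = Points.ofScheme Tβ t} := by
    ext x
    obtain ⟨t, rfl⟩ := (Points.schemeHomeo Tβ).surjective x
    constructor
    · rintro ⟨c, hc, hct⟩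
      exact ⟨t, ⟨c, hc, hct⟩, rfl⟩
    · rintro ⟨t', ⟨c, hc, hct⟩, ht'⟩
      exact ⟨c, hc, hct.trans ht'⟩
  rw [hD]
  refine (Points.schemeHomeo Tβ).isClosedMap _ ?_
  rw [← isOpen_compl_iff, isOpen_iff_forall_mem_open]
  intro t ht
  let Cw : Set (PrimeSpectrum (R ⊗[A] B)) := Points.ofPt aB ⁻¹' C
  have hUB : IsClosed Cw := hC.preimage (Points.continuous_ofPt aB)
  let J : Ideal (R ⊗[A] B) := PrimeSpectrum.vanishingIdeal Cw
  have hJ : PrimeSpectrum.zeroLocus (J : Set (R ⊗[A] B)) = Cw := by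
    rw [PrimeSpectrum.zeroLocus_vanishingIdeal_eq_closure]; exact hUB.closure_eq
  obtain ⟨n, φ, hφ⟩ := exists_polynomial_descent J (show PrimeSpectrum B from t).asIdeal fun Q hQ hJQ hQt => by
    have hw : (⟨Q, hQ⟩ : PrimeSpectrum (R ⊗[A] B)) ∈ Cw := hJ ▸ (show (J : Set (R ⊗[A] B)) ⊆ Q from hJQ)
    exact ht ⟨_, hw, (map_ofPt_spec hBs _).trans (congrArg _ (PrimeSpectrum.ext hQt))⟩
  let B₀ : CommRingCat.{u} := CommRingCat.of (MvPolynomial (ULift.{u} (Fin n)) A)
  let l₀ : R ⟶ CommRingCat.of (R ⊗[A] B₀) := CommRingCat.ofHom Algebra.TensorProduct.includeLeftRingHom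
  let r₀ : B₀ ⟶ CommRingCat.of (R ⊗[A] B₀) :=
    CommRingCat.ofHom (Algebra.TensorProduct.includeRight (R := A) (A := R) (B := B₀)).toRingHom
  have hpo₀ : IsPushout γ (polyHom A n) l₀ r₀ := CommRingCat.isPushout_tensorProduct A R B₀
  obtain ⟨a₀, sq₀, h₀s⟩ := exists_chart_baseChange γ (polyHom A n) l₀ r₀ hpo₀ a hap
  let φc : B₀ ⟶ B := CommRingCat.ofHom φ.toRingHom
  have hφc : polyHom A n ≫ φc = β := CommRingCat.hom_ext (RingHom.ext φ.commutes)
  let Φ : CommRingCat.of (R ⊗[A] B₀) ⟶ CommRingCat.of (R ⊗[A] B) :=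
    CommRingCat.ofHom (Algebra.TensorProduct.map (AlgHom.id A R) φ).toRingHom
  have hl : l₀ ≫ Φ = l := by
    ext x
    change Algebra.TensorProduct.map (AlgHom.id A R) φ (x ⊗ₜ 1) = x ⊗ₜ 1
    simp
  have hr : r₀ ≫ Φ = φc ≫ r := by
    refine CommRingCat.hom_ext (RingHom.ext fun x => ?_)
    change Algebra.TensorProduct.map (AlgHom.id A R) φ (1 ⊗ₜ x) = 1 ⊗ₜ φ x
    simp
  let π := pullback.lift (pullback.fst p ((yon S).map (specToBase (str := str) β)))
    (q ≫ (yon S).map (specHom (str := str) (polyHom A n) φc β hφc))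
    (by rw [pullback.condition, Category.assoc, ← Functor.map_comp, specHom_toBase]) (f := p)
    (g := (yon S).map (specToBase (str := str) (polyHom A n)))
  have sqπ := isPullback_chart sqB hBs sq₀ h₀s φc hφc Φ hl hr π (pullback.lift_fst _ _ _) (pullback.lift_snd _ _ _)
  obtain ⟨O, hO, htO, hO'⟩ := exists_nhd_of_descent (h n) (pullback.lift_snd _ _ _)
    (repWith_of_isPullback sq₀ ha) (repWith_of_isPullback sq₀ ha') sqπ h₀s
    (Z₀ := (PrimeSpectrum.zeroLocus (J.comap Φ.hom : Set (R ⊗[A] B₀)) : Set (PrimeSpectrum (R ⊗[A] B₀))))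
    (PrimeSpectrum.isClosed_zeroLocus _) (fun v hv x hx => hJ.ge (show (v : PrimeSpectrum (R ⊗[A] B)) ∈ Cw from hv) hx) t
    (fun w hw hwt => hφ (show PrimeSpectrum (R ⊗[A] B₀) from w).asIdeal (show PrimeSpectrum (R ⊗[A] B₀) from w).isPrime
      hw (congrArg PrimeSpectrum.asIdeal hwt))
  exact ⟨O, fun t' ht' ⟨c, hc, hct⟩ => hO' t' ht' c hc hct, hO, htO⟩

end Geometry

end Groth.Agent.AlgSpVal
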