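import Groth.Agent.AlgSpVal.RefinedVC
import Groth.Agent.AlgSpVal.UnivClosedPoly
import Groth.Agent.AlgSpPts.SepDescent

/-!
# The refined valuative criterion
-/

set_option backward.isDefEq.respectTransparency false
set_option backward.isDefEq.respectTransparency.types false

universe u

open CategoryTheory Limits Opposite AlgebraicGeometry AlgSp Groth.Agent.AlgSpLib

namespace Groth.Agent.AlgSpVal

variable {S : Scheme.{u}} {F G H : Sp S}

/-- A base change of a dense image along an open map is dense. -/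
theorem denseRange_of_isPullback {H' F' : Sp S} {h : H ⟶ F} {g : F' ⟶ F} {fst : H' ⟶ H} {h' : H' ⟶ F'}
    (sq : IsPullback fst h' h g) (hg : IsOpenMap (Points.map g)) (hd : DenseRange (Points.map h)) :
    DenseRange (Points.map h') := by
  refine Dense.mono ?_ (hd.preimage hg)
  rintro y ⟨x, hx⟩
  obtain ⟨z, -, hz⟩ := exists_point_of_isPullback sq hx
  exact ⟨z, hz⟩

theorem isUnivClosedMor_of_dense (hH : IsAlgSpace H) (hF : IsAlgSpace F) (hG : IsAlgSpace G) {f : F ⟶ G}
    {h : H ⟶ F} (hf : IsQuasiCompactMor f) (hqc : IsQuasiCompactMor h) (hd : DenseRange (Points.map h))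
    (hv : ∀ sq : ValSq f, (∃ t : (yon S).obj sq.ptK ⟶ H, t ≫ h = sq.top) → sq.HasUniq ∧ sq.HasLiftExt) :
    IsUnivClosedMor f := by
  obtain ⟨V, b, hb, hb'⟩ := hG.atlas
  refine isUnivClosedMor_of_polynomial hF hG hf hb hb' fun A str i hi n C hC => ?_
  let g := (yon S).map i ≫ b
  have hg : RepWith @Etale g := repWith_comp ((repWith_yon_map_iff _ _).2 (inferInstance : Etale i.left)) hb
  let f₁ := pullback.snd f g
  have sq₁ := IsPullback.of_hasPullback f g
  have hP₁ : IsAlgSpace (pullback f g) := isAlgSpace_pullback hF (IsAlgSpace.yon_obj _) hG f g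
  let h₁ := pullback.snd h (pullback.fst f g)
  have sqh := IsPullback.of_hasPullback h (pullback.fst f g)
  have hfst : RepWith @Etale (pullback.fst f g) := repWith_fst f hg
  have hd₁ : DenseRange (Points.map h₁) := denseRange_of_isPullback sqh
    (AlgSpPts.isOpenMap_map (repWith_mono (P := @Etale) (Q := @UniversallyOpen)
      (fun _ _ e (_ : Etale e) => inferInstanceAs (UniversallyOpen e)) _ hfst)) hd
  have hv₁ : ∀ sq : ValSq f₁, (∃ t : (yon S).obj sq.ptK ⟶ _, t ≫ h₁ = sq.top) → sq.HasUniq ∧ sq.HasLiftExt := by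
    rintro sq ⟨t, ht⟩
    obtain ⟨hu, e₀, he₀⟩ := hv (pushSq sq₁ sq) ⟨t ≫ pullback.fst h _, by
      rw [Category.assoc, pullback.condition, ← Category.assoc]
      exact congrArg (· ≫ _) ht⟩
    refine ⟨fun l l' h1 h2 h1' h2' => sq₁.hom_ext ?_ (h2.trans h2'.symm), ?_⟩
    · refine hu (l ≫ pullback.fst f g) (l' ≫ pullback.fst f g) ((Category.assoc _ _ _).symm.trans (congrArg (· ≫ _) h1)) ?_
        ((Category.assoc _ _ _).symm.trans (congrArg (· ≫ _) h1')) ?_
      · rw [Category.assoc, sq₁.w, ← Category.assoc]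
        exact congrArg (· ≫ g) h2
      · rw [Category.assoc, sq₁.w, ← Category.assoc]
        exact congrArg (· ≫ g) h2'
    · obtain ⟨l, hl, hl'⟩ := (hasLift_iff e₀).1 he₀
      let e : sq.DomExt :=
        { A' := e₀.A', K' := e₀.K', φ := e₀.φ, ψ := e₀.ψ, comm := e₀.comm, isLocalHom := e₀.isLocalHom }
      refine ⟨e, (hasLift_iff e).2 ⟨sq₁.lift l ((yon S).map (extA e) ≫ sq.bot) ?_, ?_, sq₁.lift_snd _ _ _⟩⟩
      · rw [Category.assoc]; exact hl'
      · apply sq₁.hom_ext
        · rw [Category.assoc, sq₁.lift_fst, Category.assoc]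
          exact hl
        · rw [Category.assoc, sq₁.lift_snd, ← Functor.map_comp_assoc, extJ_extA, Functor.map_comp,
            Category.assoc, Category.assoc]
          exact congrArg _ sq.comm.symm
  have hex : ExistVC f₁ := existVC_of_dense hP₁ (isAlgSpace_pullback hH hP₁ hF h _)
    (AlgSpPts.isQuasiCompactMor_of_isPullback sqh hqc) hd₁ hv₁
  let T : Over S := Over.mk (Spec.map (polyHom A n) ≫ str)
  let d : (yon S).obj T ⟶ (yon S).obj (Over.mk str) := (yon S).map (specToBase (str := str) (polyHom A n))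
  have : IsAffine T.left := inferInstanceAs (IsAffine (Spec (CommRingCat.of (MvPolynomial (ULift.{u} (Fin n)) A))))
  have sq₂ := IsPullback.of_hasPullback f₁ d
  have hP₂ : IsAlgSpace (pullback f₁ d) := isAlgSpace_pullback hP₁ (IsAlgSpace.yon_obj T) (IsAlgSpace.yon_obj _) f₁ d
  have hc : CompactSpace (Points (pullback f₁ d)) := (AlgSpPts.isQuasiCompactSp_iff hP₂).1
    (hf (IsAlgSpace.yon_obj T) isQuasiCompactSp_yon _ _ _ (sq₂.paste_horiz sq₁))
  have hcl := isClosed_image_affine hP₂ (pullback.snd f₁ d) hc (existVC_of_isPullback sq₂ hex) hC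
  have : Points.map (pullback.snd f₁ d) '' C =
      Points.schemeHomeo T '' {t | ∃ c ∈ C, Points.map (pullback.snd f₁ d) c = Points.ofScheme T t} := by
    ext x
    obtain ⟨t, rfl⟩ := (Points.schemeHomeo T).surjective x
    constructor
    · rintro ⟨c, hc, hct⟩
      exact ⟨t, ⟨c, hc, hct⟩, rfl⟩
    · rintro ⟨t', ⟨c, hc, hct⟩, ht'⟩
      exact ⟨c, hc, hct.trans ht'⟩
  exact this ▸ (Points.schemeHomeo T).isClosedMap _ hcl

theorem isSeparatedMor_of_dense (hH : IsAlgSpace H) (hF : IsAlgSpace F) (hG : IsAlgSpace G) {f : F ⟶ G}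
    {h : H ⟶ F} (hqs : IsQuasiSeparatedMor f) (hqc : IsQuasiCompactMor h) (hd : DenseRange (Points.map h))
    (hv : ∀ sq : ValSq f, (∃ t : (yon S).obj sq.ptK ⟶ H, t ≫ h = sq.top) → sq.HasUniq) :
    IsSeparatedMor f := by
  obtain ⟨hr, hl, -, -, -⟩ := AlgSpPts.diagonal_package hF hG f
  refine AlgSpPts.repWith_isClosedImmersion_of_univClosed hr hl
    (isUnivClosedMor_of_dense hH hF (isAlgSpace_pullback hF hF hG f f)
      (AlgSpPts.isQuasiCompactMor_of_repWith hqs) hqc hd ?_)
  rintro sq ⟨t, ht⟩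
  refine ⟨fun l l' _ h2 _ h2' => (cancel_mono (pullback.diagonal f)).1 (h2.trans h2'.symm), ?_⟩
  let l := sq.bot ≫ pullback.fst f f
  let l' := sq.bot ≫ pullback.snd f f
  have h1 : (yon S).map sq.j ≫ l = sq.top := by
    rw [← Category.assoc]
    refine (congrArg (· ≫ pullback.fst f f) sq.comm.symm).trans ?_
    rw [Category.assoc, pullback.diagonal_fst, Category.comp_id]
  have h1' : (yon S).map sq.j ≫ l' = sq.top := by
    rw [← Category.assoc]
    refine (congrArg (· ≫ pullback.snd f f) sq.comm.symm).trans ?_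
    rw [Category.assoc, pullback.diagonal_snd, Category.comp_id]
  let sqf : ValSq f :=
    { A := sq.A, K := sq.K, str := sq.str, top := sq.top, bot := l ≫ f,
      comm := (congrArg (· ≫ f) h1).symm.trans (Category.assoc _ _ _) }
  have hll : l = l' := hv sqf ⟨t, ht⟩ l l' h1 rfl h1' (by
    change l' ≫ f = l ≫ f
    simp only [l, l', Category.assoc, pullback.condition])
  refine hasLiftExt_of_hasLift ⟨l, h1, ?_⟩
  apply pullback.hom_ext
  · rw [Category.assoc, pullback.diagonal_fst, Category.comp_id]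
  · rw [Category.assoc, pullback.diagonal_snd, Category.comp_id]
    exact hll

end Groth.Agent.AlgSpVal
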