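import Mathlib.RingTheory.Valuation.LocalSubring
import Mathlib.RingTheory.Ideal.MinimalPrime.Basic
import Mathlib.RingTheory.Localization.AtPrime.Basic
import Mathlib.RingTheory.TensorProduct.Basic
import Mathlib.LinearAlgebra.TensorProduct.Basis
import Groth.Agent.AlgSpVal.EtaleModel

/-!
# Composite valuations, their extensions, and amalgamation of valued fields
-/

set_option autoImplicit false
set_option backward.isDefEq.respectTransparency false
set_option backward.isDefEq.respectTransparency.types false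

universe u

open IsLocalRing
open scoped TensorProduct

namespace Groth.Agent.AlgSpVal

variable {K L : Type u} [Field K] [Field L]

theorem isLocalHom_codRestrict {R : Type u} [CommRing R] [IsLocalRing R] {A : ValuationSubring K} (f : R →+* A)
    (h : ∀ r ∈ maximalIdeal R, f r ∈ maximalIdeal A) : IsLocalHom f :=
  ⟨fun r hr => by
    by_contra hn
    exact (mem_maximalIdeal _).1 (h r ((mem_maximalIdeal _).2 hn)) hr⟩

theorem isUnit_iff_inv_mem (A : ValuationSubring K) (x : A) (hx : (x : K) ≠ 0) :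
    IsUnit x ↔ (x : K)⁻¹ ∈ A := by
  constructor
  · rintro ⟨v, rfl⟩
    have h : (v : K) * ((v⁻¹ : Aˣ) : A) = 1 := congrArg Subtype.val v.mul_inv
    rw [inv_eq_of_mul_eq_one_right h]
    exact SetLike.coe_mem _
  · intro h
    exact IsUnit.of_mul_eq_one (⟨(x : K)⁻¹, h⟩ : A) (Subtype.ext (mul_inv_cancel₀ hx))

/-- A valuation subring of the source of a field map to one of the target which pulls back to it. -/
def comapHom (φ : K →+* L) (B : ValuationSubring L) (A : ValuationSubring K) (h : B.comap φ = A) : A →+* B :=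
  (φ.comp A.subtype).codRestrict B.toSubring fun x => h.symm.le x.2

theorem isLocalHom_comapHom (φ : K →+* L) (B : ValuationSubring L) (A : ValuationSubring K) (h : B.comap φ = A) :
    IsLocalHom (comapHom φ B A h) := ⟨fun x hx => by
  rcases eq_or_ne (x : K) 0 with h0 | h0
  · rw [show x = 0 from Subtype.ext h0, map_zero] at hx
    exact absurd hx not_isUnit_zero
  · have : φ x ∈ B := h.symm.le x.2
    have h1 := (isUnit_iff_inv_mem B (comapHom φ B A h x) ((map_ne_zero φ).2 h0)).1 hx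
    refine (isUnit_iff_inv_mem A x h0).2 (h.le ?_)
    change φ (x : K)⁻¹ ∈ B
    rw [map_inv₀]
    exact h1⟩

/-- An element of the maximal ideal of an overring lies in the valuation ring. -/
theorem mem_of_mem_maximalIdeal {A Q : ValuationSubring K} (h : A ≤ Q) (x : Q) (hx : x ∈ maximalIdeal Q) :
    (x : K) ∈ A := by
  rcases eq_or_ne (x : K) 0 with h0 | h0
  · rw [h0]; exact A.zero_mem
  · refine (A.mem_or_inv_mem x).resolve_right fun hi => ?_
    exact (mem_maximalIdeal _).1 hx ((isUnit_iff_inv_mem Q x h0).2 (h hi))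

/-- The valuation ring of the residue field of an overring. -/
noncomputable def residual (A Q : ValuationSubring K) (h : A ≤ Q) : ValuationSubring (ResidueField Q) where
  toSubring := ((residue Q).comp (A.inclusion Q h)).range
  mem_or_inv_mem' := fun y => by
    obtain ⟨x, rfl⟩ := residue_surjective y
    rcases eq_or_ne (residue Q x) 0 with h0 | h0
    · exact Or.inl (by rw [h0]; exact ((residue Q).comp (A.inclusion Q h)).range.zero_mem)
    · rcases A.mem_or_inv_mem (x : K) with hx | hx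
      · exact Or.inl ⟨⟨x, hx⟩, rfl⟩
      · refine Or.inr ⟨⟨_, hx⟩, eq_inv_of_mul_eq_one_left ?_⟩
        have hx0 : (x : K) ≠ 0 := fun hx' => h0 (by rw [show x = 0 from Subtype.ext hx', map_zero])
        change residue Q ⟨(x : K)⁻¹, h hx⟩ * residue Q x = 1
        rw [← map_mul, ← map_one (residue Q)]
        exact congrArg _ (Subtype.ext (inv_mul_cancel₀ hx0))

theorem mem_residual_iff {A Q : ValuationSubring K} (h : A ≤ Q) (x : Q) :
    residue Q x ∈ residual A Q h ↔ (x : K) ∈ A := by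
  refine ⟨fun ⟨a, ha⟩ => ?_, fun hx => ⟨⟨x, hx⟩, rfl⟩⟩
  have : x - A.inclusion Q h a ∈ maximalIdeal Q := by
    rw [← residue_eq_zero_iff, map_sub, ← ha]
    exact sub_self _
  have h2 := A.add_mem _ _ (mem_of_mem_maximalIdeal h _ this) a.2
  have h3 : ((x - A.inclusion Q h a : Q) : K) + (a : K) = x := sub_add_cancel _ _
  exact h3 ▸ h2

/-- The composite of a valuation ring with a valuation ring of its residue field. -/
noncomputable def compose (V : ValuationSubring K) (A : ValuationSubring (ResidueField V)) : ValuationSubring K where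
  toSubring := (A.toSubring.comap (residue V)).map V.subtype
  mem_or_inv_mem' := fun x => by
    rcases eq_or_ne x 0 with rfl | h0
    · exact Or.inl ⟨0, ((A.toSubring.comap (residue V))).zero_mem, rfl⟩
    rcases V.mem_or_inv_mem x with hx | hx
    · by_cases hu : IsUnit (⟨x, hx⟩ : V)
      · have hx' : x⁻¹ ∈ V := (isUnit_iff_inv_mem V ⟨x, hx⟩ h0).1 hu
        have he : residue V ⟨x⁻¹, hx'⟩ = (residue V ⟨x, hx⟩)⁻¹ := eq_inv_of_mul_eq_one_left (by
          rw [← map_mul, ← map_one (residue V)]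
          exact congrArg _ (Subtype.ext (inv_mul_cancel₀ h0)))
        rcases A.mem_or_inv_mem (residue V ⟨x, hx⟩) with hA | hA
        · exact Or.inl ⟨⟨x, hx⟩, hA, rfl⟩
        · exact Or.inr ⟨⟨x⁻¹, hx'⟩, show residue V ⟨x⁻¹, hx'⟩ ∈ A from he.symm ▸ hA, rfl⟩
      · refine Or.inl ⟨⟨x, hx⟩, show residue V ⟨x, hx⟩ ∈ A from ?_, rfl⟩
        rw [(residue_eq_zero_iff _).2 ((mem_maximalIdeal _).2 hu)]
        exact A.zero_mem
    · by_cases hu : IsUnit (⟨x⁻¹, hx⟩ : V)
      · have hx' : x ∈ V := by simpa using (isUnit_iff_inv_mem V ⟨x⁻¹, hx⟩ (inv_ne_zero h0)).1 hu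
        have he : residue V ⟨x⁻¹, hx⟩ = (residue V ⟨x, hx'⟩)⁻¹ := eq_inv_of_mul_eq_one_left (by
          rw [← map_mul, ← map_one (residue V)]
          exact congrArg _ (Subtype.ext (inv_mul_cancel₀ h0)))
        rcases A.mem_or_inv_mem (residue V ⟨x, hx'⟩) with hA | hA
        · exact Or.inl ⟨⟨x, hx'⟩, hA, rfl⟩
        · exact Or.inr ⟨⟨x⁻¹, hx⟩, show residue V ⟨x⁻¹, hx⟩ ∈ A from he.symm ▸ hA, rfl⟩
      · refine Or.inr ⟨⟨x⁻¹, hx⟩, show residue V ⟨x⁻¹, hx⟩ ∈ A from ?_, rfl⟩
        rw [(residue_eq_zero_iff _).2 ((mem_maximalIdeal _).2 hu)]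
        exact A.zero_mem

theorem compose_le (V : ValuationSubring K) (A : ValuationSubring (ResidueField V)) : compose V A ≤ V := by
  rintro _ ⟨x, -, rfl⟩
  exact x.2

theorem mem_compose_iff {V : ValuationSubring K} {A : ValuationSubring (ResidueField V)} (x : V) :
    (x : K) ∈ compose V A ↔ residue V x ∈ A :=
  ⟨fun ⟨y, hy, hyx⟩ => Subtype.ext hyx ▸ hy, fun hx => ⟨x, hx, rfl⟩⟩

/-- An overring of a valuation ring extends to every extension of the valuation ring. -/
theorem exists_overring_comap (φ : K →+* L) (B : ValuationSubring L) (V : ValuationSubring K)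
    (h : B.comap φ ≤ V) : ∃ Q : ValuationSubring L, B ≤ Q ∧ Q.comap φ = V := by
  let R : Subring L :=
    { carrier := {y | ∃ v ∈ V, ∃ b ∈ B, y = φ v * b}
      one_mem' := ⟨1, V.one_mem, 1, B.one_mem, by simp⟩
      zero_mem' := ⟨0, V.zero_mem, 0, B.zero_mem, by simp⟩
      neg_mem' := by
        rintro _ ⟨v, hv, b, hb, rfl⟩
        exact ⟨v, hv, -b, B.neg_mem _ hb, by ring⟩
      mul_mem' := by
        rintro _ _ ⟨v, hv, b, hb, rfl⟩ ⟨w, hw, c, hc, rfl⟩
        exact ⟨v * w, V.mul_mem _ _ hv hw, b * c, B.mul_mem _ _ hb hc, by rw [map_mul]; ring⟩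
      add_mem' := by
        suffices key : ∀ v w : K, v ∈ V → w ∈ V → ∀ b c : L, b ∈ B → c ∈ B → w ≠ 0 → v / w ∈ B.comap φ →
            ∃ z ∈ V, ∃ d ∈ B, φ v * b + φ w * c = φ z * d by
          rintro _ _ ⟨v, hv, b, hb, rfl⟩ ⟨w, hw, c, hc, rfl⟩
          rcases eq_or_ne v 0 with rfl | hv0
          · exact ⟨w, hw, c, hc, by simp⟩
          rcases eq_or_ne w 0 with rfl | hw0
          · exact ⟨v, hv, b, hb, by simp⟩
          rcases (B.comap φ).mem_or_inv_mem (v / w) with h' | h'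
          · exact key v w hv hw b c hb hc hw0 h'
          · rw [add_comm]
            exact key w v hw hv c b hc hb hv0 (by rwa [inv_div] at h')
        intro v w _ hw b c hb hc hw0 hvw
        refine ⟨w, hw, φ (v / w) * b + c, B.add_mem _ _ (B.mul_mem _ _ hvw hb) hc, ?_⟩
        rw [map_div₀]
        field_simp [(map_ne_zero φ).2 hw0] }
  have hBR : B.toSubring ≤ R := fun b hb => ⟨1, V.one_mem, b, hb, by simp⟩
  refine ⟨ValuationSubring.ofLE B R hBR, hBR, ?_⟩
  ext x
  refine ⟨fun hx => ?_, fun hx => ⟨x, hx, 1, B.one_mem, by simp⟩⟩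
  obtain ⟨v, hv, b, hb, hxb⟩ := hx
  rcases eq_or_ne v 0 with rfl | hv0
  · rw [map_zero, zero_mul, map_eq_zero] at hxb
    exact hxb ▸ V.zero_mem
  · have : x / v ∈ V := h (show φ (x / v) ∈ B by
      rw [map_div₀, hxb, mul_div_cancel_left₀ _ ((map_ne_zero φ).2 hv0)]
      exact hb)
    simpa [hv0] using V.mul_mem _ _ this hv

theorem exists_amalgam_aux {k K₁ K₂ T : Type u} [Field k] [Field K₁] [Field K₂] [CommRing T] {ι₁ : k →+* K₁}
    {ι₂ : k →+* K₂} {A₁ : ValuationSubring K₁} {A₂ : ValuationSubring K₂} (h : A₁.comap ι₁ = A₂.comap ι₂)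
    (i₁ : A₁ →+* T) (i₂ : A₂ →+* T) (q : Ideal T) [q.IsPrime] (hq₁ : ∀ a ∈ maximalIdeal A₁, i₁ a ∈ q)
    (hq₂ : ∀ a ∈ maximalIdeal A₂, i₂ a ∈ q) (hz₁ : ∀ a, a ≠ 0 → i₁ a ∈ nonZeroDivisors T)
    (hz₂ : ∀ a, a ≠ 0 → i₂ a ∈ nonZeroDivisors T)
    (hc : ∀ a : A₁.comap ι₁, i₁ (comapHom ι₁ A₁ _ rfl a) = i₂ (comapHom ι₂ A₂ _ h.symm a)) :
    ∃ (Ω : Type u) (_ : Field Ω) (α : K₁ →+* Ω) (β : K₂ →+* Ω) (A : ValuationSubring Ω),
      α.comp ι₁ = β.comp ι₂ ∧ A.comap α = A₁ ∧ A.comap β = A₂ := by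
  let A₀ := A₁.comap ι₁
  obtain ⟨p, hp, hpq⟩ := Ideal.exists_minimalPrimes_le (I := (⊥ : Ideal T)) (J := q) bot_le
  have : p.IsPrime := hp.1.1
  have hdis := Ideal.disjoint_nonZeroDivisors_of_mem_minimalPrimes hp
  have hp₁ : Function.Injective ((Ideal.Quotient.mk p).comp i₁) := by
    rw [injective_iff_map_eq_zero]
    intro a ha
    by_contra h0
    exact Set.disjoint_left.1 hdis (Ideal.Quotient.eq_zero_iff_mem.1 ha) (hz₁ a h0)
  have hp₂ : Function.Injective ((Ideal.Quotient.mk p).comp i₂) := by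
    rw [injective_iff_map_eq_zero]
    intro a ha
    by_contra h0
    exact Set.disjoint_left.1 hdis (Ideal.Quotient.eq_zero_iff_mem.1 ha) (hz₂ a h0)
  let Ω := FractionRing (T ⧸ p)
  let ε := (algebraMap (T ⧸ p) Ω).comp (Ideal.Quotient.mk p)
  have hε₁ : Function.Injective (ε.comp i₁) := (IsFractionRing.injective (T ⧸ p) Ω).comp hp₁
  have hε₂ : Function.Injective (ε.comp i₂) := (IsFractionRing.injective (T ⧸ p) Ω).comp hp₂
  let α : K₁ →+* Ω := IsFractionRing.lift hε₁
  let β : K₂ →+* Ω := IsFractionRing.lift hε₂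
  have hα : ∀ a : A₁, α a = ε (i₁ a) := fun a => IsFractionRing.lift_algebraMap hε₁ a
  have hβ : ∀ a : A₂, β a = ε (i₂ a) := fun a => IsFractionRing.lift_algebraMap hε₂ a
  -- the valuation ring
  have hunit : ∀ y : q.primeCompl, IsUnit (ε y) := fun y => isUnit_iff_ne_zero.2 fun h0 =>
    y.2 (hpq (Ideal.Quotient.eq_zero_iff_mem.1 (IsFractionRing.injective (T ⧸ p) Ω (h0.trans (map_zero _).symm))))
  let l : Localization.AtPrime q →+* Ω := IsLocalization.lift hunit
  obtain ⟨A, hA, hAl⟩ := exists_factor_valuationRing l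
  have hTA : ∀ t : T, ε t ∈ A := fun t => by
    rw [← IsLocalization.lift_eq (S := Localization.AtPrime q) hunit t]; exact hA _
  have hqA : ∀ t ∈ q, ε t ≠ 0 → (ε t)⁻¹ ∉ A := fun t ht h0 hinv => by
    have h1 : IsUnit (l.codRestrict A.toSubring hA (algebraMap T (Localization.AtPrime q) t)) :=
      (isUnit_iff_inv_mem A _ (by rw [← IsLocalization.lift_eq (S := Localization.AtPrime q) hunit t] at h0; exact h0)).2
        (by rw [← IsLocalization.lift_eq (S := Localization.AtPrime q) hunit t] at hinv; exact hinv)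
    exact (IsLocalization.AtPrime.isUnit_to_map_iff (Localization.AtPrime q) q t).1 (hAl.map_nonunit _ h1) ht
  refine ⟨Ω, inferInstance, α, β, A, ?_, ?_, ?_⟩
  · refine IsLocalization.ringHom_ext (nonZeroDivisors A₀) (RingHom.ext fun a => ?_)
    change α (ι₁ a) = β (ι₂ a)
    rw [show ι₁ a = ((comapHom ι₁ A₁ _ rfl a : A₁) : K₁) from rfl,
      show ι₂ a = ((comapHom ι₂ A₂ _ h.symm a : A₂) : K₂) from rfl, hα, hβ, hc]
  · ext x
    refine ⟨fun hx => ?_, fun hx => ?_⟩
    · by_contra hn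
      have hx0 : x ≠ 0 := fun h0 => hn (h0 ▸ A₁.zero_mem)
      have hi := (A₁.mem_or_inv_mem x).resolve_left hn
      have hm : (⟨_, hi⟩ : A₁) ∈ maximalIdeal A₁ := (mem_maximalIdeal _).2 fun hu =>
        hn (by simpa using (isUnit_iff_inv_mem A₁ ⟨_, hi⟩ (inv_ne_zero hx0)).1 hu)
      refine hqA _ (hq₁ _ hm) (by rw [← hα]; simp [hx0]) ?_
      rw [← hα]
      change (α x⁻¹)⁻¹ ∈ A
      rw [map_inv₀, inv_inv]
      exact hx
    · exact show α x ∈ A from hα ⟨x, hx⟩ ▸ hTA _
  · ext x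
    refine ⟨fun hx => ?_, fun hx => ?_⟩
    · by_contra hn
      have hx0 : x ≠ 0 := fun h0 => hn (h0 ▸ A₂.zero_mem)
      have hi := (A₂.mem_or_inv_mem x).resolve_left hn
      have hm : (⟨_, hi⟩ : A₂) ∈ maximalIdeal A₂ := (mem_maximalIdeal _).2 fun hu =>
        hn (by simpa using (isUnit_iff_inv_mem A₂ ⟨_, hi⟩ (inv_ne_zero hx0)).1 hu)
      refine hqA _ (hq₂ _ hm) (by rw [← hβ]; simp [hx0]) ?_
      rw [← hβ]
      change (β x⁻¹)⁻¹ ∈ A
      rw [map_inv₀, inv_inv]
      exact hx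
    · exact show β x ∈ A from hβ ⟨x, hx⟩ ▸ hTA _

theorem exists_amalgam {k K₁ K₂ : Type u} [Field k] [Field K₁] [Field K₂] (ι₁ : k →+* K₁) (ι₂ : k →+* K₂)
    (A₁ : ValuationSubring K₁) (A₂ : ValuationSubring K₂) (h : A₁.comap ι₁ = A₂.comap ι₂) :
    ∃ (Ω : Type u) (_ : Field Ω) (α : K₁ →+* Ω) (β : K₂ →+* Ω) (A : ValuationSubring Ω),
      α.comp ι₁ = β.comp ι₂ ∧ A.comap α = A₁ ∧ A.comap β = A₂ := by
  let A₀ := A₁.comap ι₁
  let j₁ : A₀ →+* A₁ := comapHom ι₁ A₁ A₀ rfl
  let j₂ : A₀ →+* A₂ := comapHom ι₂ A₂ A₀ h.symm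
  let _ : Algebra A₀ A₁ := j₁.toAlgebra
  let _ : Algebra A₀ A₂ := j₂.toAlgebra
  have : IsLocalHom (algebraMap A₀ A₁) := isLocalHom_comapHom ι₁ A₁ A₀ rfl
  have : IsLocalHom (algebraMap A₀ A₂) := isLocalHom_comapHom ι₂ A₂ A₀ h.symm
  have hj₁ : Function.Injective (algebraMap A₀ A₁) := fun a b hab =>
    Subtype.ext (ι₁.injective (congrArg Subtype.val hab))
  have hj₂ : Function.Injective (algebraMap A₀ A₂) := fun a b hab =>
    Subtype.ext (ι₂.injective (congrArg Subtype.val hab))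
  have := flat_of_injective hj₁
  have := flat_of_injective hj₂
  let T := A₁ ⊗[A₀] A₂
  let i₁ : A₁ →+* T := Algebra.TensorProduct.includeLeftRingHom
  let i₂ : A₂ →+* T := (Algebra.TensorProduct.includeRight (R := A₀) (A := A₁) (B := A₂)).toRingHom
  -- a prime over both closed points
  let κ₀ := ResidueField A₀
  let R := ResidueField A₁ ⊗[κ₀] ResidueField A₂
  have hR : Nontrivial R := inferInstance
  let π : T →+* R :=
    (Algebra.TensorProduct.lift (R := A₀) (S := A₀)
      (((Algebra.TensorProduct.includeLeft (R := κ₀) (S := κ₀) (A := ResidueField A₁) (B := ResidueField A₂)).restrictScalars A₀).comp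
        (IsScalarTower.toAlgHom A₀ A₁ (ResidueField A₁)))
      (((Algebra.TensorProduct.includeRight (R := κ₀) (A := ResidueField A₁) (B := ResidueField A₂)).restrictScalars A₀).comp
        (IsScalarTower.toAlgHom A₀ A₂ (ResidueField A₂))) fun _ _ => Commute.all _ _).toRingHom
  have hπ₁ : ∀ a, π (i₁ a) = residue A₁ a ⊗ₜ[κ₀] 1 := fun a => by
    change Algebra.TensorProduct.lift _ _ _ (a ⊗ₜ[A₀] (1 : A₂)) = _
    simp
    first | rfl | exact mul_one _ | exact one_mul _
  have hπ₂ : ∀ a, π (i₂ a) = 1 ⊗ₜ[κ₀] residue A₂ a := fun a => by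
    change Algebra.TensorProduct.lift _ _ _ ((1 : A₁) ⊗ₜ[A₀] a) = _
    simp
    first | rfl | exact mul_one _ | exact one_mul _
  obtain ⟨m, hm⟩ := Ideal.exists_maximal R
  let q : Ideal T := m.comap π
  have hq₁ : ∀ a ∈ maximalIdeal A₁, i₁ a ∈ q := fun a ha => by
    rw [Ideal.mem_comap, hπ₁, (residue_eq_zero_iff _).2 ha, TensorProduct.zero_tmul]
    exact m.zero_mem
  have hq₂ : ∀ a ∈ maximalIdeal A₂, i₂ a ∈ q := fun a ha => by
    rw [Ideal.mem_comap, hπ₂, (residue_eq_zero_iff _).2 ha, TensorProduct.tmul_zero]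
    exact m.zero_mem
  have : q.IsPrime := inferInstance
  refine exists_amalgam_aux h i₁ i₂ q hq₁ hq₂ (fun a h0 => ?_) (fun a h0 => ?_) fun a => ?_
  · refine mem_nonZeroDivisors_iff_right.2 ?_
    intro z hz
    have hinj : Function.Injective (LinearMap.rTensor A₂ (LinearMap.mulLeft A₀ a)) :=
      Module.Flat.rTensor_preserves_injective_linearMap _ (mul_right_injective₀ h0)
    have hkey : ∀ z, LinearMap.rTensor A₂ (LinearMap.mulLeft A₀ a) z = i₁ a * z := by
      intro z
      induction z using TensorProduct.induction_on with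
      | zero => simp
      | add x y hx hy => rw [map_add, mul_add, hx, hy]
      | tmul x y =>
        change (a * x) ⊗ₜ[A₀] y = (a ⊗ₜ[A₀] (1 : A₂)) * (x ⊗ₜ[A₀] y)
        rw [Algebra.TensorProduct.tmul_mul_tmul, one_mul]
    exact hinj (by rw [hkey, map_zero]; rwa [mul_comm])
  · refine mem_nonZeroDivisors_iff_right.2 ?_
    intro z hz
    have hinj : Function.Injective (LinearMap.lTensor A₁ (LinearMap.mulLeft A₀ a)) :=
      Module.Flat.lTensor_preserves_injective_linearMap _ (mul_right_injective₀ h0)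
    have hkey : ∀ z, LinearMap.lTensor A₁ (LinearMap.mulLeft A₀ a) z = i₂ a * z := by
      intro z
      induction z using TensorProduct.induction_on with
      | zero => simp
      | add x y hx hy => rw [map_add, mul_add, hx, hy]
      | tmul x y =>
        change x ⊗ₜ[A₀] (a * y) = ((1 : A₁) ⊗ₜ[A₀] a) * (x ⊗ₜ[A₀] y)
        rw [Algebra.TensorProduct.tmul_mul_tmul, one_mul]
    exact hinj (by rw [hkey, map_zero]; rwa [mul_comm])
  · exact ((Algebra.TensorProduct.includeLeft (R := A₀) (S := A₀) (A := A₁) (B := A₂)).commutes a).trans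
      ((Algebra.TensorProduct.includeRight (R := A₀) (A := A₁) (B := A₂)).commutes a).symm

/-- A valuation ring extends along a field extension. -/
theorem exists_comap_eq (φ : K →+* L) (A : ValuationSubring K) : ∃ B : ValuationSubring L, B.comap φ = A := by
  obtain ⟨B, hB, hl⟩ := exists_factor_valuationRing (φ.comp A.subtype)
  refine ⟨B, ValuationSubring.ext _ _ fun x => ⟨fun hx => ?_, fun hx => hB ⟨x, hx⟩⟩⟩
  by_contra hn
  have hx0 : x ≠ 0 := fun h0 => hn (h0 ▸ A.zero_mem)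
  have hi := (A.mem_or_inv_mem x).resolve_left hn
  have hu : IsUnit (⟨x⁻¹, hi⟩ : A) := hl.map_nonunit _ ((isUnit_iff_inv_mem B _ (by
    change φ x⁻¹ ≠ 0
    simp [hx0])).2 (by
    change (φ x⁻¹)⁻¹ ∈ B
    rw [map_inv₀, inv_inv]
    exact hx))
  exact hn (by simpa using (isUnit_iff_inv_mem A ⟨x⁻¹, hi⟩ (inv_ne_zero hx0)).1 hu)

/-- The valuation data of a specialisation followed by a valuation. -/
theorem exists_composite_data {R C K₁ K₂ : Type u} [CommRing R] [CommRing C] [Field K₁] [Field K₂]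
    (c₁ : C →+* K₁) (c₂ : C →+* K₂) (hle : RingHom.ker c₂ ≤ RingHom.ker c₁) (r : R →+* C)
    (A₁ : ValuationSubring K₁) (hr : ∀ x, c₁ (r x) ∈ A₁) :
    ∃ V' : ValuationSubring K₂, (∀ x, c₂ (r x) ∈ V') ∧
      ∀ (K'' : Type u) [Field K''] (ψ : K₂ →+* K'') (B : ValuationSubring K''), B.comap ψ = V' →
        ∃ (Q : ValuationSubring K'') (hBQ : B ≤ Q) (hC : ∀ c, ψ (c₂ c) ∈ Q) (Ω : Type u) (_ : Field Ω)
          (α : Q →+* Ω) (β : K₁ →+* Ω) (A₃ : ValuationSubring Ω),
          (∀ c, α ⟨ψ (c₂ c), hC c⟩ = β (c₁ c)) ∧ (∀ b : B, α (B.inclusion Q hBQ b) ∈ A₃) ∧ A₃.comap β = A₁ := by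
  let w := RingHom.ker c₁
  have : w.IsPrime := RingHom.ker_isPrime c₁
  have hunit : ∀ y : w.primeCompl, IsUnit (c₂ y) := fun y => isUnit_iff_ne_zero.2 fun h0 => y.2 (hle h0)
  obtain ⟨V, hV, hVl⟩ := exists_factor_valuationRing (IsLocalization.lift (S := Localization.AtPrime w) hunit)
  have hCV : ∀ c, c₂ c ∈ V := fun c => by
    rw [← IsLocalization.lift_eq (S := Localization.AtPrime w) hunit c]; exact hV _
  let cV : C →+* V := c₂.codRestrict V.toSubring hCV
  have hwV : ∀ c ∈ w, residue V (cV c) = 0 := fun c hc => (residue_eq_zero_iff _).2 ((mem_maximalIdeal _).2 fun hu => by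
    have e : (IsLocalization.lift (S := Localization.AtPrime w) hunit).codRestrict V.toSubring hV
        (algebraMap C (Localization.AtPrime w) c) = cV c :=
      Subtype.ext (IsLocalization.lift_eq (S := Localization.AtPrime w) hunit c)
    exact (IsLocalization.AtPrime.isUnit_to_map_iff (Localization.AtPrime w) w c).1
      (hVl.map_nonunit _ (e.symm ▸ hu)) hc)
  let e₁ : C ⧸ w →+* K₁ := Ideal.Quotient.lift w c₁ fun c hc => hc
  let e₂ : C ⧸ w →+* ResidueField V := Ideal.Quotient.lift w ((residue V).comp cV) hwV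
  have he₁ : Function.Injective e₁ := RingHom.lift_injective_of_ker_le_ideal _ _ le_rfl
  have he₂ : Function.Injective e₂ := RingHom.lift_injective_of_ker_le_ideal _ _ fun c hc => by
    by_contra hcw
    have hu : IsUnit (cV c) := by
      have h1 := ((IsLocalization.AtPrime.isUnit_to_map_iff (Localization.AtPrime w) w c).2 hcw).map
        ((IsLocalization.lift (S := Localization.AtPrime w) hunit).codRestrict V.toSubring hV)
      have e : (IsLocalization.lift (S := Localization.AtPrime w) hunit).codRestrict V.toSubring hV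
          (algebraMap C (Localization.AtPrime w) c) = cV c :=
        Subtype.ext (IsLocalization.lift_eq (S := Localization.AtPrime w) hunit c)
      exact e ▸ h1
    exact (mem_maximalIdeal _).1 ((residue_eq_zero_iff _).1 hc) hu
  let k₀ := FractionRing (C ⧸ w)
  let ι₁ : k₀ →+* K₁ := IsFractionRing.lift he₁
  let ι₂ : k₀ →+* ResidueField V := IsFractionRing.lift he₂
  have hι₁ : ∀ c, ι₁ (algebraMap _ k₀ (Ideal.Quotient.mk w c)) = c₁ c := fun c =>
    IsFractionRing.lift_algebraMap he₁ _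
  have hι₂ : ∀ c, ι₂ (algebraMap _ k₀ (Ideal.Quotient.mk w c)) = residue V (cV c) := fun c =>
    IsFractionRing.lift_algebraMap he₂ _
  obtain ⟨A', hA'⟩ := exists_comap_eq ι₂ (A₁.comap ι₁)
  refine ⟨compose V A', fun x => ?_, fun K'' _ ψ B hB => ?_⟩
  · refine (mem_compose_iff (cV (r x))).2 ?_
    rw [← hι₂]
    exact hA'.ge (show ι₁ _ ∈ A₁ by rw [hι₁]; exact hr x)
  obtain ⟨Q, hBQ, hQ⟩ := exists_overring_comap ψ B V (hB.le.trans (compose_le V A'))
  let j : V →+* Q := comapHom ψ Q V hQ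
  have : IsLocalHom j := isLocalHom_comapHom ψ Q V hQ
  let ι₃ : ResidueField V →+* ResidueField Q := ResidueField.map j
  have h3 : (residual B Q hBQ).comap ι₃ = A' := ValuationSubring.ext _ _ fun y => by
    obtain ⟨x, rfl⟩ := residue_surjective y
    change residue Q (j x) ∈ residual B Q hBQ ↔ _
    rw [mem_residual_iff, ← mem_compose_iff, ← hB]
    rfl
  obtain ⟨Ω, hΩ, α, β, A₃, hαβ, hα, hβ⟩ := exists_amalgam (ι₃.comp ι₂) ι₁ (residual B Q hBQ) A₁
    (by rw [← ValuationSubring.comap_comap, h3, hA'])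
  refine ⟨Q, hBQ, fun c => hQ.ge (hCV c), Ω, hΩ, α.comp (residue Q), β, A₃, fun c => ?_, fun b => ?_, hβ⟩
  · rw [← hι₁]
    change α (residue Q (j (cV c))) = _
    rw [← ResidueField.map_residue j, ← hι₂]
    exact RingHom.congr_fun hαβ _
  · exact hα.ge ⟨b, rfl⟩

end Groth.Agent.AlgSpVal
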