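import Groth.Agent.AlgSpVal.ValThrough
import Groth.Agent.AlgSpVal.ValExtend
import Groth.Agent.AlgSpVal.PolyClosed

/-!
# Squares through a dense subspace
-/

set_option backward.isDefEq.respectTransparency false
set_option backward.isDefEq.respectTransparency.types false

universe u

open CategoryTheory Limits Opposite AlgebraicGeometry AlgSp Groth.Agent.AlgSpLib IsLocalRing

namespace Groth.Agent.AlgSpVal

variable {S : Scheme.{u}} {R : CommRingCat.{u}} {str : Spec R ⟶ S}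

theorem spec_comp_str {B D : CommRingCat.{u}} (ρ : R ⟶ B) (δ : B ⟶ D) (ε : R ⟶ D) (h : ρ ≫ δ = ε) :
    Spec.map δ ≫ Spec.map ρ ≫ str = Spec.map ε ≫ str := by
  rw [← Spec.map_comp_assoc, h]

/-- An affine chart at a point of a space over an affine scheme. -/
theorem exists_spec_chart_at {F : Sp S} (hF : IsAlgSpace F) (f : F ⟶ (yon S).obj (Over.mk str)) (x : Points F) :
    ∃ (C : CommRingCat.{u}) (γ : R ⟶ C) (a : (yon S).obj (Over.mk (Spec.map γ ≫ str)) ⟶ F) (w : ↥(Spec C)),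
      RepWith @Etale a ∧ a ≫ f = (yon S).map (specToBase γ) ∧ Points.ofPt a w = x := by
  obtain ⟨U, a₀, u, hU, ha₀, hu⟩ := AlgSpDec.exists_affine_chart_at hF x
  obtain ⟨au, hau⟩ := (yon S).map_surjective (a₀ ≫ f)
  obtain ⟨γ, hγ⟩ : ∃ γ : R ⟶ Γ(U.left, ⊤), Spec.map γ = U.left.isoSpec.inv ≫ au.left := ⟨_, Spec.map_preimage _⟩
  let i : Over.mk (Spec.map γ ≫ str) ⟶ U := CategoryTheory.Over.homMk U.left.isoSpec.inv (by
    change U.left.isoSpec.inv ≫ U.hom = Spec.map γ ≫ str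
    rw [hγ, Category.assoc, ← Over.w au]
    rfl)
  have : Etale i.left := inferInstanceAs (Etale U.left.isoSpec.inv)
  refine ⟨_, γ, (yon S).map i ≫ a₀, U.left.isoSpec.hom u, repWith_comp ((repWith_yon_map_iff _ _).2 this) ha₀, ?_, ?_⟩
  · rw [Category.assoc, ← hau, ← Functor.map_comp]
    congr 1
    exact Over.OverMorphism.ext hγ.symm
  · rw [ofPt_comp]
    refine Eq.trans (congrArg (Points.ofPt a₀) ?_) hu
    change U.left.isoSpec.inv (U.left.isoSpec.hom u) = u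
    rw [← Scheme.Hom.comp_apply, Iso.hom_inv_id]
    rfl

/-- A point of a chart is a specialisation of a point coming from a quasi-compact space with dense image. -/
theorem exists_generization_of_dense {F H : Sp S} {h : H ⟶ F} (hqc : IsQuasiCompactMor h)
    (hd : DenseRange (Points.map h)) {C : CommRingCat.{u}} {γ : R ⟶ C} {a : (yon S).obj (Over.mk (Spec.map γ ≫ str)) ⟶ F}
    (hH : IsAlgSpace H) (hF : IsAlgSpace F) (ha : RepWith @Etale a) (w : PrimeSpectrum C) :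
    ∃ (K₂ : Type u) (_ : Field K₂) (c₂ : C →+* K₂) (t : (yon S).obj (Over.mk (Spec.map (γ ≫ CommRingCat.ofHom c₂) ≫ str)) ⟶ H),
      RingHom.ker c₂ ≤ w.asIdeal ∧
        t ≫ h = (yon S).map (specHom γ (CommRingCat.ofHom c₂) _ rfl) ≫ a := by
  let q := pullback.snd h a
  have sq := IsPullback.of_hasPullback h a
  have hP : IsAlgSpace (pullback h a) := isAlgSpace_pullback hH (IsAlgSpace.yon_obj _) hF h a
  have : IsAffine (Over.mk (Spec.map γ ≫ str)).left := inferInstanceAs (IsAffine (Spec C))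
  have hWc : IsQuasiCompactSp ((yon S).obj (Over.mk (Spec.map γ ≫ str))) :=
    (AlgSpPts.isQuasiCompactSp_iff (IsAlgSpace.yon_obj _)).2
      (Points.schemeHomeo (Over.mk (Spec.map γ ≫ str))).compactSpace
  obtain ⟨D, g, a₀, -, ha₀, hag⟩ := exists_spec_chart hP
    ((AlgSpPts.isQuasiCompactSp_iff hP).1 (hqc (IsAlgSpace.yon_obj _) hWc a _ _ sq)) q
  have hdense : w ∈ closure (Set.range (PrimeSpectrum.comap g.hom)) := by
    rw [mem_closure_iff]
    intro O hO hwO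
    obtain ⟨_, ⟨o, ho, rfl⟩, x, hx⟩ := mem_closure_iff.1 (hd (Points.ofPt a w)) _
      (isOpenMap_ofPt ha O hO) ⟨w, hwO, rfl⟩
    rw [Points.ofPt_eq_map_ofScheme] at hx
    obtain ⟨z, -, hz⟩ := exists_point_of_isPullback sq hx
    obtain ⟨u, rfl⟩ := surjective_ofPt ha₀ z
    rw [map_ofPt_spec hag] at hz
    exact ⟨o, ho, u, (Points.schemeHomeo _).injective hz⟩
  rw [PrimeSpectrum.closure_range_comap, PrimeSpectrum.mem_zeroLocus, SetLike.coe_subset_coe] at hdense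
  obtain ⟨p, hp, hpw⟩ := Ideal.exists_minimalPrimes_le hdense
  obtain ⟨p₀, hp₀, -, hpp⟩ := Ideal.exists_comap_eq_of_mem_minimalPrimes g.hom (I := ⊥) p
    (by rwa [← RingHom.ker_eq_comap_bot])
  let c₀ : D →+* FractionRing (D ⧸ p₀) := (algebraMap (D ⧸ p₀) (FractionRing (D ⧸ p₀))).comp (Ideal.Quotient.mk p₀)
  let iU : Over.mk (Spec.map (γ ≫ CommRingCat.ofHom (c₀.comp g.hom)) ≫ str) ⟶
      Over.mk (Spec.map g ≫ Spec.map γ ≫ str) := CategoryTheory.Over.homMk (Spec.map (CommRingCat.ofHom c₀)) (by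
    change Spec.map _ ≫ Spec.map g ≫ Spec.map γ ≫ str = Spec.map _ ≫ str
    rw [← Spec.map_comp_assoc, ← Spec.map_comp_assoc]
    rfl)
  refine ⟨_, inferInstance, c₀.comp g.hom, (yon S).map iU ≫ a₀ ≫ pullback.fst h a, fun c hc => hpw ?_, ?_⟩
  · rw [← hpp]
    exact Ideal.mem_comap.2 (Ideal.Quotient.eq_zero_iff_mem.1 (IsFractionRing.injective (D ⧸ p₀) (FractionRing (D ⧸ p₀))
      ((show c₀ (g.hom c) = 0 from hc).trans (map_zero _).symm)))
  · rw [Category.assoc, Category.assoc, pullback.condition, ← Category.assoc a₀, hag, ← Functor.map_comp_assoc]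
    congr 2
    exact Over.OverMorphism.ext (Spec.map_comp g (CommRingCat.ofHom c₀)).symm

/-- Over an affine base, lifts for squares through a dense quasi-compact subspace give all lifts. -/
theorem existVC_of_dense {F H : Sp S} (hF : IsAlgSpace F) (hH : IsAlgSpace H) {f : F ⟶ (yon S).obj (Over.mk str)}
    {h : H ⟶ F} (hqc : IsQuasiCompactMor h) (hd : DenseRange (Points.map h))
    (hv : ∀ sq : ValSq f, (∃ t : (yon S).obj sq.ptK ⟶ H, t ≫ h = sq.top) → sq.HasUniq ∧ sq.HasLiftExt) :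
    ExistVC f := by
  rintro ⟨A, K, str₀, top, bot, comm⟩
  obtain ⟨b, rfl⟩ := (yon S).map_surjective bot
  obtain ⟨ρ, hρ⟩ : ∃ ρ : R ⟶ CommRingCat.of A, Spec.map ρ = b.left := ⟨_, Spec.map_preimage _⟩
  obtain rfl : Spec.map ρ ≫ str = str₀ := (congrArg (· ≫ str) hρ).trans (Over.w b)
  obtain rfl : specToBase ρ = b := Over.OverMorphism.ext hρ
  let ι : CommRingCat.of A ⟶ CommRingCat.of K := CommRingCat.ofHom (algebraMap A K)
  let ptK : Over S := Over.mk (Spec.map ι ≫ Spec.map ρ ≫ str)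
  -- a chart at the point, and a point of the chart over it
  obtain ⟨C, γ, a, w, ha, haf, haw⟩ := exists_spec_chart_at hF f (Points.ofPt top (closedPoint K : ↥ptK.left))
  obtain ⟨v, hv₁, -⟩ := exists_ofPt_of_eq (ha.rep.isPullback' top) haw
  have : Etale (ha.rep.snd top).left := ha.property_snd top
  obtain ⟨K₁, _, ψ, k, -, hkv, hkw⟩ := exists_separable_point (ha.rep.snd top).left v
  obtain ⟨c₁, hc₁⟩ : ∃ c₁ : C ⟶ CommRingCat.of K₁, Spec.map c₁ = k ≫ (ha.rep.fst' top).left :=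
    ⟨_, Spec.map_preimage _⟩
  have hc₁w : RingHom.ker c₁.hom = (show PrimeSpectrum C from w).asIdeal := by
    have : Spec.map c₁ (closedPoint K₁) = w := by
      rw [hc₁, Scheme.Hom.comp_apply, hkv]
      exact hv₁
    rw [RingHom.ker_eq_comap_bot, ← maximalIdeal_eq_bot]
    exact congrArg PrimeSpectrum.asIdeal this
  let ψK : CommRingCat.of K ⟶ CommRingCat.of K₁ := CommRingCat.ofHom ψ
  let mK : Over.mk (Spec.map (ρ ≫ ι ≫ ψK) ≫ str) ⟶ ptK := CategoryTheory.Over.homMk (Spec.map ψK) (by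
    change Spec.map ψK ≫ Spec.map ι ≫ Spec.map ρ ≫ str = _
    simp only [← Spec.map_comp_assoc, Category.assoc]
    rfl)
  let kW : Over.mk (Spec.map (ρ ≫ ι ≫ ψK) ≫ str) ⟶ ha.rep.pullback top := CategoryTheory.Over.homMk k (by
    change k ≫ _ = Spec.map (ρ ≫ ι ≫ ψK) ≫ str
    rw [← Over.w (ha.rep.snd top), ← Category.assoc, hkw]
    change Spec.map ψK ≫ Spec.map ι ≫ Spec.map ρ ≫ str = _
    simp only [← Spec.map_comp_assoc, Category.assoc])
  have hkm : kW ≫ ha.rep.snd top = mK := Over.OverMorphism.ext hkw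
  have hsqa : (yon S).map (kW ≫ ha.rep.fst' top) ≫ a = (yon S).map mK ≫ top := by
    rw [Functor.map_comp, Category.assoc, (ha.rep.isPullback' top).w, ← Functor.map_comp_assoc, hkm]
  have hρ₁ : γ ≫ c₁ = ρ ≫ ι ≫ ψK := by
    have e := congrArg (· ≫ f) hsqa
    simp only [Category.assoc, haf, comm, ← Functor.map_comp] at e
    have e' := congrArg Over.Hom.left ((yon S).map_injective e)
    refine Spec.map_injective ?_
    rw [Spec.map_comp, Spec.map_comp, Spec.map_comp, hc₁, Category.assoc, Category.assoc]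
    exact e'
  -- the valuation rings
  let Avs : ValuationSubring K := ⟨(algebraMap A K).range, ValuationRing.isInteger_or_isInteger A⟩
  obtain ⟨A₁, hA₁⟩ := exists_comap_eq ψ Avs
  obtain ⟨K₂, _, c₂, t₂, hker, ht₂⟩ := exists_generization_of_dense hqc hd hH hF ha (show PrimeSpectrum C from w)
  obtain ⟨V', hV', hdata⟩ := exists_composite_data c₁.hom c₂ (hker.trans hc₁w.ge) γ.hom A₁ fun r => by
    have := RingHom.congr_fun (congrArg CommRingCat.Hom.hom hρ₁) r
    rw [show c₁.hom (γ.hom r) = ψ (algebraMap A K (ρ.hom r)) from this]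
    exact hA₁.ge ⟨_, rfl⟩
  -- the square through the dense subspace
  let ρ₂ : R ⟶ CommRingCat.of V' := CommRingCat.ofHom ((c₂.comp γ.hom).codRestrict V'.toSubring hV')
  let ι₂ : CommRingCat.of V' ⟶ CommRingCat.of K₂ := CommRingCat.ofHom (algebraMap V' K₂)
  have hρ₂ : ρ₂ ≫ ι₂ = γ ≫ CommRingCat.ofHom c₂ := rfl
  let m₂ : Over.mk (Spec.map ι₂ ≫ Spec.map ρ₂ ≫ str) ⟶ Over.mk (Spec.map (γ ≫ CommRingCat.ofHom c₂) ≫ str) :=
    CategoryTheory.Over.homMk (𝟙 (Spec (CommRingCat.of K₂))) (by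
      change 𝟙 _ ≫ Spec.map _ ≫ str = Spec.map ι₂ ≫ Spec.map ρ₂ ≫ str
      rw [Category.id_comp, spec_comp_str ρ₂ ι₂ _ hρ₂])
  let sq₂ : ValSq f :=
    { A := V', K := K₂, str := Spec.map ρ₂ ≫ str, top := (yon S).map m₂ ≫ t₂ ≫ h,
      bot := (yon S).map (specToBase ρ₂),
      comm := by
        rw [ht₂, Category.assoc, Category.assoc, haf, ← Functor.map_comp, ← Functor.map_comp, ← Functor.map_comp]
        congr 1
        refine Over.OverMorphism.ext ?_
        change 𝟙 _ ≫ Spec.map (CommRingCat.ofHom c₂) ≫ Spec.map γ = Spec.map ι₂ ≫ Spec.map ρ₂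
        rw [Category.id_comp, ← Spec.map_comp, ← Spec.map_comp, hρ₂] }
  obtain ⟨e, he⟩ := (hv sq₂ ⟨(yon S).map m₂ ≫ t₂, Category.assoc _ _ _⟩).2
  obtain ⟨l, hl₁, hl₂⟩ := (hasLift_iff e).1 he
  have := e.isLocalHom
  -- the overring
  let B : ValuationSubring e.K' := ⟨(algebraMap e.A' e.K').range, ValuationRing.isInteger_or_isInteger e.A'⟩
  have hcomm : ∀ x : V', algebraMap e.A' e.K' (e.φ x) = e.ψ (x : K₂) := RingHom.congr_fun e.comm
  have hB : B.comap e.ψ = V' := ValuationSubring.ext _ _ fun x => by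
    refine ⟨fun ⟨y, hy⟩ => ?_, fun hx => ⟨e.φ ⟨x, hx⟩, hcomm ⟨x, hx⟩⟩⟩
    by_contra hn
    have hx0 : x ≠ 0 := fun h0 => hn (h0 ▸ V'.zero_mem)
    have hi := (V'.mem_or_inv_mem x).resolve_left hn
    have h1 : e.φ ⟨x⁻¹, hi⟩ * y = 1 := IsFractionRing.injective e.A' e.K' (by
      rw [map_mul, hcomm, hy, map_one]
      change e.ψ x⁻¹ * e.ψ x = 1
      rw [← map_mul, inv_mul_cancel₀ hx0, map_one])
    have h2 := (isUnit_iff_inv_mem V' ⟨x⁻¹, hi⟩ (inv_ne_zero hx0)).1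
      (e.isLocalHom.map_nonunit _ (IsUnit.of_mul_eq_one y h1))
    exact hn (by simpa using h2)
  obtain ⟨Q, hBQ, hC, Ω, _, α, β, A₃, hkey, hμ, hA₃⟩ := hdata e.K' e.ψ B hB
  let χ : e.A' →+* Q := (algebraMap e.A' e.K').codRestrict Q.toSubring fun y => hBQ ⟨y, rfl⟩
  have hμ' : ∀ y, α (χ y) ∈ A₃ := fun y => hμ ⟨algebraMap e.A' e.K' y, y, rfl⟩
  let cQ : C ⟶ CommRingCat.of Q := CommRingCat.ofHom ((e.ψ.comp c₂).codRestrict Q.toSubring hC)
  let φ₂ : CommRingCat.of V' ⟶ CommRingCat.of e.A' := CommRingCat.ofHom e.φ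
  let χc : CommRingCat.of e.A' ⟶ CommRingCat.of Q := CommRingCat.ofHom χ
  let αc : CommRingCat.of Q ⟶ CommRingCat.of Ω := CommRingCat.ofHom α
  let βc : CommRingCat.of K₁ ⟶ CommRingCat.of Ω := CommRingCat.ofHom β
  let ρQ : R ⟶ CommRingCat.of Q := γ ≫ cQ
  have hχ : ρ₂ ≫ φ₂ ≫ χc = ρQ := CommRingCat.hom_ext (RingHom.ext fun r => Subtype.ext (hcomm _))
  have hkey' : cQ ≫ αc = c₁ ≫ βc := CommRingCat.hom_ext (RingHom.ext hkey)
  let ιQ : CommRingCat.of Q ⟶ CommRingCat.of e.K' := CommRingCat.ofHom (algebraMap Q e.K')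
  let mQ : Over.mk (Spec.map ιQ ≫ Spec.map ρQ ≫ str) ⟶ Over.mk (Spec.map (γ ≫ CommRingCat.ofHom c₂) ≫ str) :=
    CategoryTheory.Over.homMk (Spec.map (CommRingCat.ofHom e.ψ)) (by
      change Spec.map _ ≫ Spec.map _ ≫ str = Spec.map ιQ ≫ Spec.map ρQ ≫ str
      rw [← Spec.map_comp_assoc, ← Spec.map_comp_assoc]
      rfl)
  let sqQ : ValSq f :=
    { A := Q, K := e.K', str := Spec.map ρQ ≫ str, top := (yon S).map mQ ≫ t₂ ≫ h,
      bot := (yon S).map (specToBase ρQ),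
      comm := by
        rw [ht₂, Category.assoc, Category.assoc, haf, ← Functor.map_comp, ← Functor.map_comp, ← Functor.map_comp]
        congr 1
        refine Over.OverMorphism.ext ?_
        change Spec.map _ ≫ Spec.map _ ≫ Spec.map γ = Spec.map ιQ ≫ Spec.map ρQ
        rw [← Spec.map_comp, ← Spec.map_comp, ← Spec.map_comp]
        rfl }
  let la : sqQ.ptA ⟶ e.ptA' := CategoryTheory.Over.homMk (Spec.map χc) (by
    change Spec.map χc ≫ Spec.map φ₂ ≫ Spec.map ρ₂ ≫ str = Spec.map ρQ ≫ str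
    rw [← Spec.map_comp_assoc, ← Spec.map_comp_assoc, hχ])
  let laK : sqQ.ptK ⟶ e.ptK' := CategoryTheory.Over.homMk (𝟙 (Spec (CommRingCat.of e.K'))) (by
    change 𝟙 _ ≫ Spec.map _ ≫ Spec.map φ₂ ≫ Spec.map ρ₂ ≫ str = Spec.map ιQ ≫ Spec.map ρQ ≫ str
    rw [Category.id_comp, ← hχ, Spec.map_comp, Spec.map_comp, Category.assoc, Category.assoc, ← Spec.map_comp_assoc χc]
    rfl)
  have hlab : (yon S).map la ≫ l = (yon S).map (specHom γ cQ ρQ rfl) ≫ a := by
    refine (hv sqQ ⟨(yon S).map mQ ≫ t₂, Category.assoc _ _ _⟩).1 _ _ ?_ ?_ ?_ ?_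
    · have h1 : sqQ.j ≫ la = laK ≫ extJ e := Over.OverMorphism.ext (by
        change Spec.map ιQ ≫ Spec.map χc = 𝟙 _ ≫ Spec.map _
        rw [Category.id_comp, ← Spec.map_comp]
        rfl)
      have h2 : laK ≫ extK e ≫ m₂ = mQ := Over.OverMorphism.ext (by
        change 𝟙 _ ≫ Spec.map _ ≫ 𝟙 _ = Spec.map _
        rw [Category.id_comp, Category.comp_id])
      rw [← Functor.map_comp_assoc, h1, Functor.map_comp, Category.assoc, hl₁]
      change (yon S).map laK ≫ (yon S).map (extK e) ≫ (yon S).map m₂ ≫ t₂ ≫ h = _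
      rw [← Functor.map_comp_assoc, ← Functor.map_comp_assoc, Category.assoc, h2]
    · rw [Category.assoc, hl₂]
      change (yon S).map la ≫ (yon S).map (extA e) ≫ (yon S).map (specToBase ρ₂) = (yon S).map (specToBase ρQ)
      rw [← Functor.map_comp, ← Functor.map_comp]
      congr 1
      refine Over.OverMorphism.ext ?_
      change Spec.map χc ≫ Spec.map φ₂ ≫ Spec.map ρ₂ = Spec.map ρQ
      rw [← Spec.map_comp, ← Spec.map_comp, Category.assoc, hχ]
    · rw [← Functor.map_comp_assoc]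
      change _ = (yon S).map mQ ≫ t₂ ≫ h
      rw [ht₂, ← Functor.map_comp_assoc]
      congr 2
      refine Over.OverMorphism.ext ?_
      change Spec.map ιQ ≫ Spec.map cQ = Spec.map _ ≫ Spec.map _
      rw [← Spec.map_comp, ← Spec.map_comp]
      rfl
    · rw [Category.assoc, haf, ← Functor.map_comp, specHom_toBase]
  -- the extension of the original square
  let ψ₃ : K →+* Ω := β.comp ψ
  have hψ₃ : ∀ x : A, ψ₃ (algebraMap A K x) ∈ A₃ := fun x => hA₃.ge (hA₁.ge ⟨x, rfl⟩)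
  let φ₃ : A →+* A₃ := (ψ₃.comp (algebraMap A K)).codRestrict A₃.toSubring hψ₃
  have hloc : IsLocalHom φ₃ := ⟨fun x hx => by
    rcases eq_or_ne x 0 with rfl | hx0
    · rw [map_zero] at hx
      exact absurd hx not_isUnit_zero
    · have h0 : ψ₃ (algebraMap A K x) ≠ 0 :=
        (map_ne_zero ψ₃).2 ((map_ne_zero_iff _ (IsFractionRing.injective A K)).2 hx0)
      have h1 := (isUnit_iff_inv_mem A₃ (φ₃ x) h0).1 hx
      obtain ⟨y, hy⟩ : (algebraMap A K x)⁻¹ ∈ Avs := hA₁.le (hA₃.le (by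
        change β (ψ _) ∈ A₃
        rw [map_inv₀, map_inv₀]
        exact h1))
      exact IsUnit.of_mul_eq_one y (IsFractionRing.injective A K (by
        rw [map_mul, hy, map_one, mul_inv_cancel₀ ((map_ne_zero_iff _ (IsFractionRing.injective A K)).2 hx0)]))⟩
  let e₃ : ValSq.DomExt (f := f) ⟨A, K, Spec.map ρ ≫ str, top, (yon S).map (specToBase ρ), comm⟩ :=
    { A' := A₃, K' := Ω, φ := φ₃, ψ := ψ₃, comm := rfl, isLocalHom := hloc }
  let μ : CommRingCat.of e.A' ⟶ CommRingCat.of A₃ := CommRingCat.ofHom ((α.comp χ).codRestrict A₃.toSubring hμ')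
  let ι₃ : CommRingCat.of A₃ ⟶ CommRingCat.of Ω := CommRingCat.ofHom (algebraMap A₃ Ω)
  let φ₃c : CommRingCat.of A ⟶ CommRingCat.of A₃ := CommRingCat.ofHom φ₃
  have hμι : μ ≫ ι₃ = χc ≫ αc := rfl
  have hφι : φ₃c ≫ ι₃ = ι ≫ ψK ≫ βc := rfl
  have hR : ρ ≫ φ₃c = ρ₂ ≫ φ₂ ≫ μ := by
    have : Mono ι₃ := ConcreteCategory.mono_of_injective _ A₃.subtype_injective
    rw [← cancel_mono ι₃, Category.assoc, Category.assoc, Category.assoc, hμι, hφι, ← Category.assoc φ₂ χc,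
      ← Category.assoc ρ₂, hχ, Category.assoc γ cQ, hkey', ← Category.assoc γ, hρ₁, Category.assoc, Category.assoc]
  let m₃ : e₃.ptA' ⟶ e.ptA' := CategoryTheory.Over.homMk (Spec.map μ) (by
    change Spec.map μ ≫ Spec.map φ₂ ≫ Spec.map ρ₂ ≫ str = Spec.map φ₃c ≫ Spec.map ρ ≫ str
    simp only [← Spec.map_comp_assoc, Category.assoc, hR])
  let nQ : e₃.ptK' ⟶ sqQ.ptA := CategoryTheory.Over.homMk (Spec.map αc) (by
    change Spec.map αc ≫ Spec.map ρQ ≫ str = Spec.map ι₃ ≫ Spec.map φ₃c ≫ Spec.map ρ ≫ str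
    simp only [← Spec.map_comp_assoc, ← hχ, Category.assoc]
    rw [← Category.assoc ρ φ₃c, hR, Category.assoc, Category.assoc, hμι])
  let nK : e₃.ptK' ⟶ Over.mk (Spec.map (ρ ≫ ι ≫ ψK) ≫ str) := CategoryTheory.Over.homMk (Spec.map βc) (by
    change Spec.map βc ≫ Spec.map _ ≫ str = Spec.map ι₃ ≫ Spec.map φ₃c ≫ Spec.map ρ ≫ str
    simp only [← Spec.map_comp_assoc, Category.assoc, hφι])
  refine ⟨e₃, (hasLift_iff e₃).2 ⟨(yon S).map m₃ ≫ l, ?_, ?_⟩⟩
  · have h1 : extJ e₃ ≫ m₃ = nQ ≫ la := Over.OverMorphism.ext (by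
      change Spec.map ι₃ ≫ Spec.map μ = Spec.map αc ≫ Spec.map χc
      rw [← Spec.map_comp, ← Spec.map_comp, hμι])
    have h2 : nQ ≫ specHom γ cQ ρQ rfl = nK ≫ kW ≫ ha.rep.fst' top := Over.OverMorphism.ext (by
      change Spec.map αc ≫ Spec.map cQ = Spec.map βc ≫ k ≫ (ha.rep.fst' top).left
      rw [← hc₁, ← Spec.map_comp, ← Spec.map_comp, hkey'])
    have h3 : nK ≫ mK = extK e₃ := Over.OverMorphism.ext (by
      change Spec.map βc ≫ Spec.map ψK = Spec.map (CommRingCat.ofHom ψ₃)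
      rw [← Spec.map_comp]
      rfl)
    rw [← Functor.map_comp_assoc, h1, Functor.map_comp, Category.assoc, hlab, ← Functor.map_comp_assoc, h2,
      Functor.map_comp, Category.assoc, hsqa, ← Functor.map_comp_assoc, h3]
  · rw [Category.assoc, hl₂]
    change (yon S).map m₃ ≫ (yon S).map (extA e) ≫ (yon S).map (specToBase ρ₂) =
      (yon S).map (extA e₃) ≫ (yon S).map (specToBase ρ)
    rw [← Functor.map_comp, ← Functor.map_comp, ← Functor.map_comp]
    congr 1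
    refine Over.OverMorphism.ext ?_
    change Spec.map μ ≫ Spec.map φ₂ ≫ Spec.map ρ₂ = Spec.map φ₃c ≫ Spec.map ρ
    rw [← Spec.map_comp, ← Spec.map_comp, ← Spec.map_comp, Category.assoc, hR]

end Groth.Agent.AlgSpVal
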