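import Mathlib.RingTheory.Ideal.GoingDown
import Mathlib.RingTheory.Etale.Basic
import Mathlib.AlgebraicGeometry.Morphisms.Etale
import Mathlib.RingTheory.Nilpotent.Lemmas
import Groth.Agent.AlgSpVal.Basic
import Groth.Agent.AlgSpVal.EtaleModel
import Groth.Agent.AlgSpVal.SpecPullback
import Groth.Agent.AlgSpDec.MonoRep
import Groth.Agent.AlgSpDec.OneFlat
import Groth.Agent.AlgSpPts.SepDescent

/-!
# For separated spaces lifts descend along dominating extensions of valuation rings
-/

set_option backward.isDefEq.respectTransparency false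
set_option backward.isDefEq.respectTransparency.types false

universe u

open CategoryTheory Limits Opposite AlgebraicGeometry AlgSp Groth.Agent.AlgSpLib
open scoped TensorProduct

namespace Groth.Agent.AlgSpVal

variable {S : Scheme.{u}}

theorem etale_of_specMap {A B : CommRingCat.{u}} (f : A ⟶ B) [Etale (Spec.map f)] : f.hom.Etale := by
  have h := (HasRingHomProperty.Spec_iff (P := @Etale) (φ := f)).1 ‹_›
  exact h

section

variable {A A' K K' : Type u} [CommRing A] [IsDomain A] [ValuationRing A] [Field K] [Algebra A K]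
  [IsFractionRing A K] [CommRing A'] [IsDomain A'] [IsLocalRing A'] [Field K'] [Algebra A' K'] [IsFractionRing A' K']
  [Algebra A A'] [IsLocalHom (algebraMap A A')] [Algebra K K'] [Algebra A K'] [IsScalarTower A K K']
  [IsScalarTower A A' K']

theorem exists_lift_of_dominating {str : Spec (CommRingCat.of A) ⟶ S} {Z : Sp S} (hZ : IsAlgSpace Z)
    {p : Z ⟶ (yon S).obj (Over.mk str)} (hp : IsSeparatedMor p)
    (t : (yon S).obj (Over.mk (Spec.map (CommRingCat.ofHom (algebraMap A K)) ≫ str)) ⟶ Z)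
    (m : (yon S).obj (Over.mk (Spec.map (CommRingCat.ofHom (algebraMap A A')) ≫ str)) ⟶ Z)
    (ht : t ≫ p = (yon S).map (specToBase (CommRingCat.ofHom (algebraMap A K))))
    (hm : m ≫ p = (yon S).map (specToBase (CommRingCat.ofHom (algebraMap A A'))))
    (hres : (yon S).map (specHom (CommRingCat.ofHom (algebraMap A A')) (CommRingCat.ofHom (algebraMap A' K'))
        (CommRingCat.ofHom (algebraMap A K'))
        (CommRingCat.hom_ext (IsScalarTower.algebraMap_eq A A' K').symm)) ≫ m =
      (yon S).map (specHom (CommRingCat.ofHom (algebraMap A K)) (CommRingCat.ofHom (algebraMap K K'))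
        (CommRingCat.ofHom (algebraMap A K'))
        (CommRingCat.hom_ext (IsScalarTower.algebraMap_eq A K K').symm)) ≫ t) :
    ∃ l : (yon S).obj (Over.mk str) ⟶ Z, l ≫ p = 𝟙 _ ∧
      (yon S).map (specToBase (CommRingCat.ofHom (algebraMap A K))) ≫ l = t := by
  -- an affine chart at the image of the closed point
  obtain ⟨U₁, a₁, u₁, hU₁, ha₁, hu₁⟩ := AlgSpDec.exists_affine_chart_at hZ (Points.ofPt m (IsLocalRing.closedPoint A'))
  obtain ⟨au, hau⟩ := (yon S).map_surjective (a₁ ≫ p)
  let C₀ : CommRingCat.{u} := Γ(U₁.left, ⊤)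
  obtain ⟨γ, hγ⟩ : ∃ γ : CommRingCat.of A ⟶ C₀, Spec.map γ = U₁.left.isoSpec.inv ≫ au.left := ⟨_, Spec.map_preimage _⟩
  let U : Over S := Over.mk (Spec.map γ ≫ str)
  let i : U ⟶ U₁ := CategoryTheory.Over.homMk U₁.left.isoSpec.inv (by
    change _ = Spec.map γ ≫ str
    rw [hγ, Category.assoc]
    exact congrArg (U₁.left.isoSpec.inv ≫ ·) (Over.w au).symm)
  let a : (yon S).obj U ⟶ Z := (yon S).map i ≫ a₁
  have hi : Etale i.left := (inferInstance : Etale U₁.left.isoSpec.inv)
  have ha : RepWith @Etale a := repWith_comp ((repWith_yon_map_iff _ i).2 hi) ha₁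
  have hap : a ≫ p = (yon S).map (specToBase γ) := by
    rw [Category.assoc, ← hau, ← Functor.map_comp]
    congr 1
    exact Over.OverMorphism.ext hγ.symm
  let u : ↥U.left := U₁.left.isoSpec.hom u₁
  have hu : Points.ofPt a u = Points.ofPt m (IsLocalRing.closedPoint A') := by
    rw [ofPt_comp, ← hu₁]
    congr 1
    exact (Scheme.Hom.comp_apply _ _ _).symm.trans (congrArg (fun k => k u₁) U₁.left.isoSpec.hom_inv_id)
  -- the two fibres
  let ιK : CommRingCat.of A ⟶ CommRingCat.of K := CommRingCat.ofHom (algebraMap A K)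
  let φ : CommRingCat.of A ⟶ CommRingCat.of A' := CommRingCat.ofHom (algebraMap A A')
  obtain ⟨L, γL, κL, hLw, sqL, hLgen⟩ := exists_spec_pullback hp γ ιK a t ha.rep hap ht
  obtain ⟨B', γ', β', hBw, sqB, hBgen⟩ := exists_spec_pullback hp γ φ a m ha.rep hap hm
  have hκe : Etale (Spec.map κL) := ha.property _ _ _ sqL
  have hβe : Etale (Spec.map β') := ha.property _ _ _ sqB
  obtain ⟨w, -, hw⟩ := exists_ofPt_of_eq sqB hu
  -- algebra structures
  let _ : Algebra A C₀ := γ.hom.toAlgebra
  let _ : Algebra K L := κL.hom.toAlgebra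
  let _ : Algebra A L := (ιK ≫ κL).hom.toAlgebra
  have : IsScalarTower A K L := IsScalarTower.of_algebraMap_eq fun _ => rfl
  let _ : Algebra A' B' := β'.hom.toAlgebra
  have : Algebra.Etale A' B' := (etale_of_specMap β' : β'.hom.Etale)
  let ρ : ↑C₀ →ₐ[A] L := { γL.hom with commutes' := RingHom.congr_fun (congrArg CommRingCat.Hom.hom hLw) }
  let _ : Algebra A B' := (φ ≫ β').hom.toAlgebra
  have : IsScalarTower A A' B' := IsScalarTower.of_algebraMap_eq fun _ => rfl
  let γA : ↑C₀ →ₐ[A] B' := { γ'.hom with commutes' := RingHom.congr_fun (congrArg CommRingCat.Hom.hom hBw) }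
  let π : A' ⊗[A] ↑C₀ →ₐ[A'] B' := Algebra.TensorProduct.lift (Algebra.ofId A' B') γA fun _ _ => mul_comm _ _
  have hπ : Function.Surjective π := by
    have := hBgen π.toRingHom.range (fun c => ⟨1 ⊗ₜ c, by simp [π, γA]⟩) fun x => ⟨x ⊗ₜ 1, by
      simp [π, γA]; rfl⟩
    intro b
    exact (this ▸ Subring.mem_top b : b ∈ π.toRingHom.range)
  -- the map to `K' ⊗ L`
  let R : CommRingCat.{u} := CommRingCat.of (K' ⊗[K] L)
  let incK : CommRingCat.of K' ⟶ R := CommRingCat.ofHom Algebra.TensorProduct.includeLeftRingHom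
  let incL : L ⟶ R := CommRingCat.ofHom (Algebra.TensorProduct.includeRight (R := K) (A := K') (B := L)).toRingHom
  have hKL : CommRingCat.ofHom (algebraMap K K') ≫ incK = κL ≫ incL := by
    ext x
    exact Algebra.TensorProduct.tmul_one_eq_one_tmul x
  let aK' : CommRingCat.of A' ⟶ CommRingCat.of K' := CommRingCat.ofHom (algebraMap A' K')
  let ιK' : CommRingCat.of A ⟶ CommRingCat.of K' := CommRingCat.ofHom (algebraMap A K')
  let kK : CommRingCat.of K ⟶ CommRingCat.of K' := CommRingCat.ofHom (algebraMap K K')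
  have hφK : φ ≫ aK' = ιK' := CommRingCat.hom_ext (IsScalarTower.algebraMap_eq A A' K').symm
  have hιK : ιK ≫ kK = ιK' := CommRingCat.hom_ext (IsScalarTower.algebraMap_eq A K K').symm
  have hres' : ∀ {R : CommRingCat.{u}} (δ : CommRingCat.of K' ⟶ R) (ε : CommRingCat.of A ⟶ R) (h : ιK' ≫ δ = ε),
      (yon S).map (specHom φ (aK' ≫ δ) ε (by rw [← Category.assoc, hφK, h])) ≫ m =
        (yon S).map (specHom ιK (kK ≫ δ) ε (by rw [← Category.assoc, hιK, h])) ≫ t := by
    intro R δ ε h
    rw [← specHom_comp φ aK' ιK' hφK δ ε h, ← specHom_comp ιK kK ιK' hιK δ ε h, Functor.map_comp,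
      Functor.map_comp, Category.assoc, Category.assoc, hres]
  obtain ⟨ι, hι₁, hι₂⟩ : ∃ ι : B' ⟶ R, γ' ≫ ι = γL ≫ incL ∧ β' ≫ ι = aK' ≫ incK := by
    let ε := ιK' ≫ incK
    have hγR : γ ≫ γL ≫ incL = ε := by
      rw [← Category.assoc, hLw, Category.assoc, ← hKL, ← Category.assoc, hιK]
    have hβR : φ ≫ aK' ≫ incK = ε := by rw [← Category.assoc, hφK]
    obtain ⟨l, hl⟩ := (yon S).map_surjective (sqB.lift ((yon S).map (specHom γ (γL ≫ incL) ε hγR))
      ((yon S).map (specHom φ (aK' ≫ incK) ε hβR)) (by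
        rw [hres' incK ε rfl, ← specHom_comp γ γL (ιK ≫ κL) hLw incL ε
          (by rw [Category.assoc, ← hKL, ← Category.assoc, hιK]), Functor.map_comp, Category.assoc, sqL.w,
          ← Category.assoc, ← Functor.map_comp, specHom_comp]
        congr 2
        exact specHom_congr _ _ _ _ hKL.symm))
    have h1 : Spec.map γ' = Spec.map γ' := rfl
    refine ⟨Spec.preimage l.left, Spec.map_injective ?_, Spec.map_injective ?_⟩
    · rw [Spec.map_comp, Spec.map_preimage]
      have := congrArg Over.Hom.left ((yon S).map_injective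
        (((yon S).map_comp l _).trans ((congrArg (· ≫ _) hl).trans (sqB.lift_fst _ _ _))))
      exact this
    · rw [Spec.map_comp, Spec.map_preimage]
      have := congrArg Over.Hom.left ((yon S).map_injective
        (((yon S).map_comp l _).trans ((congrArg (· ≫ _) hl).trans (sqB.lift_snd _ _ _))))
      exact this
  -- the map back
  let R₂ : CommRingCat.{u} := CommRingCat.of (K' ⊗[A'] B')
  let jK : CommRingCat.of K' ⟶ R₂ := CommRingCat.ofHom Algebra.TensorProduct.includeLeftRingHom
  let jB : B' ⟶ R₂ := CommRingCat.ofHom (Algebra.TensorProduct.includeRight (R := A') (A := K') (B := B')).toRingHom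
  have hAB : aK' ≫ jK = β' ≫ jB := by
    ext x
    exact Algebra.TensorProduct.tmul_one_eq_one_tmul x
  obtain ⟨θ₀, hθ₁, hθ₂⟩ : ∃ θ₀ : L ⟶ R₂, γL ≫ θ₀ = γ' ≫ jB ∧ κL ≫ θ₀ = kK ≫ jK := by
    let ε := ιK' ≫ jK
    have hγR : γ ≫ γ' ≫ jB = ε := by
      rw [← Category.assoc, hBw, Category.assoc, ← hAB, ← Category.assoc, hφK]
    have hKR : ιK ≫ kK ≫ jK = ε := by rw [← Category.assoc, hιK]
    obtain ⟨l, hl⟩ := (yon S).map_surjective (sqL.lift ((yon S).map (specHom γ (γ' ≫ jB) ε hγR))
      ((yon S).map (specHom ιK (kK ≫ jK) ε hKR)) (by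
        rw [← hres' jK ε rfl, ← specHom_comp γ γ' (φ ≫ β') hBw jB ε
          (by rw [Category.assoc, ← hAB, ← Category.assoc, hφK]), Functor.map_comp, Category.assoc, sqB.w,
          ← Category.assoc, ← Functor.map_comp, specHom_comp]
        congr 2
        exact specHom_congr _ _ _ _ hAB.symm))
    refine ⟨Spec.preimage l.left, Spec.map_injective ?_, Spec.map_injective ?_⟩
    · rw [Spec.map_comp, Spec.map_preimage]
      have := congrArg Over.Hom.left ((yon S).map_injective
        (((yon S).map_comp l _).trans ((congrArg (· ≫ _) hl).trans (sqL.lift_fst _ _ _))))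
      exact this
    · rw [Spec.map_comp, Spec.map_preimage]
      have := congrArg Over.Hom.left ((yon S).map_injective
        (((yon S).map_comp l _).trans ((congrArg (· ≫ _) hl).trans (sqL.lift_snd _ _ _))))
      exact this
  have hθ₂' : ∀ x, θ₀.hom (κL.hom x) = jK.hom (algebraMap K K' x) :=
    RingHom.congr_fun (congrArg CommRingCat.Hom.hom hθ₂)
  let θ : K' ⊗[K] L →+* K' ⊗[A'] B' :=
    (Algebra.TensorProduct.lift (R := K) (S := K) ({ jK.hom with commutes' := fun _ => rfl } : K' →ₐ[K] K' ⊗[A'] B')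
      ({ θ₀.hom with commutes' := hθ₂' } : L →ₐ[K] K' ⊗[A'] B') fun _ _ => mul_comm _ _).toRingHom
  have hθL : ∀ y, θ (incL.hom y) = θ₀.hom y := fun y => by
    change (Algebra.TensorProduct.lift _ _ _) (1 ⊗ₜ y) = _
    simp
    rfl
  have hθK : ∀ y, θ (incK.hom y) = jK.hom y := fun y => by
    change (Algebra.TensorProduct.lift _ _ _) (y ⊗ₜ 1) = _
    simp
    rfl
  let ιA : B' →ₐ[A'] K' ⊗[K] L :=
    { ι.hom with commutes' := fun x => (RingHom.congr_fun (congrArg CommRingCat.Hom.hom hι₂) x).trans rfl }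
  have hιinj : Function.Injective ιA := by
    have hcomp : ∀ b, θ (ιA b) = jB.hom b := by
      intro b
      have := hBgen ((θ.comp ι.hom).eqLocus jB.hom)
        (fun c => by
          change θ (ι.hom (γ'.hom c)) = jB.hom (γ'.hom c)
          have h1 : ι.hom (γ'.hom c) = incL.hom (γL.hom c) := RingHom.congr_fun (congrArg CommRingCat.Hom.hom hι₁) c
          rw [h1, hθL]
          exact RingHom.congr_fun (congrArg CommRingCat.Hom.hom hθ₁) c)
        (fun x => by
          change θ (ι.hom (β'.hom x)) = jB.hom (β'.hom x)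
          have h1 : ι.hom (β'.hom x) = incK.hom (aK'.hom x) := RingHom.congr_fun (congrArg CommRingCat.Hom.hom hι₂) x
          rw [h1, hθK]
          exact RingHom.congr_fun (congrArg CommRingCat.Hom.hom hAB) x)
      exact (this ▸ Subring.mem_top b : b ∈ (θ.comp ι.hom).eqLocus jB.hom)
    intro b b' hbb
    have := congrArg θ hbb
    rw [hcomp, hcomp] at this
    exact Algebra.TensorProduct.includeRight_injective (IsFractionRing.injective A' K') this
  obtain ⟨hBet, r, hr, hrm⟩ := etale_range (K := K) (K' := K') ρ π hπ ιA hιinj (fun c => by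
      have : π (1 ⊗ₜ c) = γ'.hom c := by simp [π, γA]
      rw [this]
      exact RingHom.congr_fun (congrArg CommRingCat.Hom.hom hι₁) c)
    (show PrimeSpectrum B' from w).asIdeal (congrArg PrimeSpectrum.asIdeal hw)
  -- the cover
  let B : CommRingCat.{u} := CommRingCat.of ρ.range
  let ηB : CommRingCat.of A ⟶ B := CommRingCat.ofHom (algebraMap A ρ.range)
  let σ : C₀ ⟶ B := CommRingCat.ofHom ρ.rangeRestrict.toRingHom
  have hσ : γ ≫ σ = ηB := CommRingCat.hom_ext (RingHom.ext ρ.rangeRestrict.commutes)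
  let V : Over S := Over.mk (Spec.map ηB ≫ str)
  let q : V ⟶ Over.mk str := specToBase ηB
  let c : (yon S).obj V ⟶ Z := (yon S).map (specHom γ σ ηB hσ) ≫ a
  have hcp : c ≫ p = (yon S).map q := by rw [Category.assoc, hap, ← Functor.map_comp, specHom_toBase]
  have hqe : Etale q.left := by
    change Etale (Spec.map ηB)
    rw [HasRingHomProperty.Spec_iff (P := @Etale)]
    exact RingHom.etale_algebraMap.2 hBet
  have hqs : Surjective q.left := by
    refine ⟨fun P => ?_⟩
    have : Algebra.HasGoingDown A ρ.range := inferInstance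
    have : r.LiesOver (IsLocalRing.maximalIdeal A) := ⟨hrm.symm⟩
    obtain ⟨Q, -, hQ, hQP⟩ := Ideal.exists_ideal_le_liesOver_of_le (p := (show PrimeSpectrum A from P).asIdeal) r
      (IsLocalRing.le_maximalIdeal (show PrimeSpectrum A from P).isPrime.ne_top)
    exact ⟨(⟨Q, hQ⟩ : PrimeSpectrum ρ.range), PrimeSpectrum.ext hQP.over.symm⟩
  have hq : fppf q.left := fppf_of_etale q.left
  -- agreement on the double cover
  let W : CommRingCat.{u} := CommRingCat.of (↥ρ.range ⊗[A] ↥ρ.range)
  let i₁ : B ⟶ W := CommRingCat.ofHom Algebra.TensorProduct.includeLeftRingHom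
  let i₂ : B ⟶ W := CommRingCat.ofHom (Algebra.TensorProduct.includeRight (R := A) (A := ρ.range) (B := ρ.range)).toRingHom
  have hpo : IsPushout ηB ηB i₁ i₂ := CommRingCat.isPushout_tensorProduct A ρ.range ρ.range
  let W' : Over S := Over.mk (Spec.map (ηB ≫ i₁) ≫ str)
  let pr₁ : W' ⟶ V := specHom ηB i₁ _ rfl
  let pr₂ : W' ⟶ V := specHom ηB i₂ _ hpo.w.symm
  have hWred : IsReduced W'.left := by
    have : Algebra.Etale A (↥ρ.range ⊗[A] ↥ρ.range) := Algebra.Etale.comp A ρ.range _
    have : Etale (Spec.map (ηB ≫ i₁)) := by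
      rw [HasRingHomProperty.Spec_iff (P := @Etale)]
      exact RingHom.etale_algebraMap.2 this
    have : IsReduced (Spec (CommRingCat.of A)) := inferInstance
    exact AlgSpDec.isReduced_of_etaleMor (Spec.map (ηB ≫ i₁))
  let LL : CommRingCat.{u} := CommRingCat.of (↑L ⊗[A] ↑L)
  let ν : ↥ρ.range ⊗[A] ↥ρ.range →ₐ[A] ↑L ⊗[A] ↑L := Algebra.TensorProduct.map ρ.range.val ρ.range.val
  have hνinj : Function.Injective ν := by
    have : Module.Flat A K := IsLocalization.flat K (nonZeroDivisors A)
    have : Module.Flat A L := Module.Flat.trans A K L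
    have : Module.Flat A ρ.range := inferInstance
    have h1 := Module.Flat.lTensor_preserves_injective_linearMap (M := ↥ρ.range) ρ.range.val.toLinearMap Subtype.val_injective
    have h2 := Module.Flat.rTensor_preserves_injective_linearMap (M := ↑L) ρ.range.val.toLinearMap Subtype.val_injective
    have e : ν.toLinearMap = ρ.range.val.toLinearMap.rTensor ↑L ∘ₗ ρ.range.val.toLinearMap.lTensor ↥ρ.range := by
      ext x y
      rfl
    exact fun x y h => h1 (h2 ((DFunLike.congr_fun e x).symm.trans (h.trans (DFunLike.congr_fun e y))))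
  let νc : W ⟶ LL := CommRingCat.ofHom ν.toRingHom
  let T₂ : Over S := Over.mk (Spec.map (ηB ≫ i₁ ≫ νc) ≫ str)
  let d : T₂ ⟶ W' := specHom (ηB ≫ i₁) νc _ (Category.assoc _ _ _)
  have hd : IsDominant d.left := ⟨(PrimeSpectrum.denseRange_comap_iff_ker_le_nilRadical ν.toRingHom).2 (by
    rw [show RingHom.ker ν.toRingHom = ⊥ from (RingHom.injective_iff_ker_eq_bot ν.toRingHom).1 hνinj]
    exact bot_le)⟩
  let valB : B ⟶ L := CommRingCat.ofHom ρ.range.val.toRingHom
  have hval : ηB ≫ valB = ιK ≫ κL := CommRingCat.hom_ext (RingHom.ext ρ.range.val.commutes)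
  have hσval : σ ≫ valB = γL := rfl
  let L' : Over S := Over.mk (Spec.map (ιK ≫ κL) ≫ str)
  let toV : L' ⟶ V := specHom ηB valB _ hval
  have hcL : (yon S).map toV ≫ c = (yon S).map (specHom ιK κL _ rfl) ≫ t := by
    rw [← Category.assoc, ← Functor.map_comp, specHom_comp, specHom_congr γ _ _ hLw hσval]
    exact sqL.w
  have hW : (yon S).map pr₁ ≫ c = (yon S).map pr₂ ≫ c := by
    refine eq_of_isSeparatedMor hp d _ _ ?_ ?_
    · rw [Category.assoc ((yon S).map pr₁) c p, Category.assoc ((yon S).map pr₂) c p, hcp, ← Functor.map_comp, ← Functor.map_comp, specHom_toBase,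
        specHom_toBase]
    · -- both projections factor through `Spec L`
      let k₁ : L ⟶ LL := CommRingCat.ofHom Algebra.TensorProduct.includeLeftRingHom
      let k₂ : L ⟶ LL := CommRingCat.ofHom (Algebra.TensorProduct.includeRight (R := A) (A := L) (B := L)).toRingHom
      have hk₁ : i₁ ≫ νc = valB ≫ k₁ := by
        ext x
        change ν (x ⊗ₜ 1) = (x : L) ⊗ₜ 1
        simp [ν]
      have hk₂ : i₂ ≫ νc = valB ≫ k₂ := by
        ext x
        change ν (1 ⊗ₜ x) = 1 ⊗ₜ (x : L)
        simp [ν]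
      have hε₁ : (ιK ≫ κL) ≫ k₁ = ηB ≫ i₁ ≫ νc := by rw [hk₁, ← Category.assoc ηB, hval]
      have hε₂ : (ιK ≫ κL) ≫ k₂ = ηB ≫ i₁ ≫ νc := by
        rw [← hval, Category.assoc, ← hk₂, ← Category.assoc ηB i₂, ← hpo.w, Category.assoc]
      have hkk : κL ≫ k₁ = κL ≫ k₂ := by
        have := IsLocalization.ringHom_ext (R := A) (nonZeroDivisors A) (S := K)
          (j := (κL ≫ k₁).hom) (k := (κL ≫ k₂).hom)
          (congrArg CommRingCat.Hom.hom
            ((Category.assoc ιK κL k₁).symm.trans (hε₁.trans (hε₂.symm.trans (Category.assoc ιK κL k₂)))))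
        exact CommRingCat.hom_ext this
      have e₁ : d ≫ pr₁ = specHom (ιK ≫ κL) k₁ _ hε₁ ≫ toV := by
        rw [specHom_comp, specHom_comp]
        exact specHom_congr _ _ _ _ hk₁
      have e₂ : d ≫ pr₂ = specHom (ιK ≫ κL) k₂ _ hε₂ ≫ toV := by
        rw [specHom_comp, specHom_comp]
        exact specHom_congr _ _ _ _ hk₂
      rw [← Category.assoc ((yon S).map d) ((yon S).map pr₁) c, ← Category.assoc ((yon S).map d) ((yon S).map pr₂) c,
        ← Functor.map_comp, ← Functor.map_comp, e₁, e₂,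
        Functor.map_comp, Functor.map_comp, Category.assoc, Category.assoc, hcL,
        ← Category.assoc ((yon S).map (specHom (ιK ≫ κL) k₁ _ hε₁)),
        ← Category.assoc ((yon S).map (specHom (ιK ≫ κL) k₂ _ hε₂)), ← Functor.map_comp, ← Functor.map_comp,
        specHom_comp, specHom_comp]
      congr 2
      exact specHom_congr _ _ _ _ hkk
  -- descend
  obtain ⟨v, hv, -⟩ := Presieve.isSheafFor_singleton.1
    ((Presieve.isSheafFor_iff_generate _).2 (((isSheaf_iff_isSheaf_of_type _ _).1 Z.property) _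
      (mem_J_of_fppf q hq (Sieve.generate (Presieve.singleton q))
        ⟨_, 𝟙 _, q, Presieve.singleton_self q, Category.id_comp _⟩)))
    ((J S).uliftYonedaEquiv c) (fun {T} y z h => by
      have hs : IsPullback pr₁.left pr₂.left q.left q.left := isPullback_SpecMap_of_isPushout _ _ _ _ hpo
      let k := hs.lift y.left z.left (congrArg Over.Hom.left h)
      let ko : T ⟶ W' := CategoryTheory.Over.homMk k (by
        rw [← Over.w pr₁, ← Category.assoc, hs.lift_fst, Over.w y])
      have hy : ko ≫ pr₁ = y := Over.OverMorphism.ext (hs.lift_fst _ _ _)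
      have hz : ko ≫ pr₂ = z := Over.OverMorphism.ext (hs.lift_snd _ _ _)
      rw [uliftYonedaEquiv_precomp, uliftYonedaEquiv_precomp, ← hy, ← hz, Functor.map_comp, Functor.map_comp,
        Category.assoc, Category.assoc, hW])
  obtain ⟨l, rfl⟩ : ∃ l : (yon S).obj (Over.mk str) ⟶ Z, (J S).uliftYonedaEquiv l = v :=
    ⟨_, Equiv.apply_symm_apply _ _⟩
  have hl : (yon S).map q ≫ l = c :=
    (J S).uliftYonedaEquiv.injective (by rw [← uliftYonedaEquiv_precomp]; exact hv)
  refine ⟨l, hom_ext_of_fppf q hq _ _ ?_, ?_⟩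
  · rw [Category.comp_id, ← Category.assoc, hl, hcp]
  · let qL : L' ⟶ Over.mk (Spec.map ιK ≫ str) := specHom ιK κL _ rfl
    have hqLs : Surjective qL.left := by
      have : Nontrivial ↥ρ.range := by
        by_contra hn
        rw [not_nontrivial_iff_subsingleton] at hn
        exact hr.ne_top (Subsingleton.elim _ _)
      have : Nontrivial L := Subtype.val_injective.nontrivial (α := ↥ρ.range) (f := Subtype.val)
      refine ⟨fun x => ⟨Classical.arbitrary (PrimeSpectrum L), ?_⟩⟩
      exact Subsingleton.elim (α := PrimeSpectrum K) _ _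
    have hqLe : Etale qL.left := hκe
    refine hom_ext_of_fppf qL (fppf_of_etale qL.left) _ _ ?_
    rw [← hcL, ← hl, ← Category.assoc, ← Category.assoc, ← Functor.map_comp, ← Functor.map_comp]
    congr 2
    rw [specHom_toBase, specHom_toBase]

end

end Groth.Agent.AlgSpVal
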