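import Mathlib.AlgebraicGeometry.ValuativeCriterion
import Groth.Agent.AlgSpVal.Basic
import Groth.Agent.AlgSpPts.SepDescent

/-!
# Uniqueness in the valuative criterion gives separatedness
-/

set_option backward.isDefEq.respectTransparency false
set_option backward.isDefEq.respectTransparency.types false

universe u

open CategoryTheory Limits Opposite AlgebraicGeometry AlgSp Groth.Agent.AlgSpLib

namespace Groth.Agent.AlgSpVal

variable {S : Scheme.{u}} {F G : Sp S}

theorem isSeparatedMor_of_uniqVC (hF : IsAlgSpace F) (hG : IsAlgSpace G) {f : F ⟶ G}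
    (hqs : IsQuasiSeparatedMor f) (hu : UniqVC f) : IsSeparatedMor f := by
  obtain ⟨hr, hl, -, -, hm⟩ := AlgSpPts.diagonal_package hF hG f
  refine ⟨hr, fun T W g fst snd sq => ?_⟩
  have hqc : QuasiCompact snd.left := hqs.property g fst snd sq
  have hft : LocallyOfFiniteType snd.left := hl.property g fst snd sq
  have hmono : Mono snd.left := hm.property g fst snd sq
  have : UniversallyClosed snd.left := by
    refine UniversallyClosed.of_valuativeCriterion _ fun sq' => ?_
    let A := Over.mk (sq'.i₂ ≫ T.hom)
    let K := Over.mk (Spec.map (CommRingCat.ofHom (algebraMap sq'.R sq'.K)) ≫ sq'.i₂ ≫ T.hom)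
    let b : A ⟶ T := CategoryTheory.Over.homMk sq'.i₂ rfl
    let j : K ⟶ A := CategoryTheory.Over.homMk (Spec.map (CommRingCat.ofHom (algebraMap sq'.R sq'.K))) rfl
    let i₁ : K ⟶ W := CategoryTheory.Over.homMk sq'.i₁ (by
      change sq'.i₁ ≫ W.hom = _ ≫ sq'.i₂ ≫ T.hom
      rw [← Over.w snd, ← Category.assoc, sq'.commSq.w, Category.assoc])
    have hij : i₁ ≫ snd = j ≫ b := Over.OverMorphism.ext sq'.commSq.w
    let l := (yon S).map b ≫ g ≫ pullback.fst f f
    let l' := (yon S).map b ≫ g ≫ pullback.snd f f
    have hl₁ : (yon S).map j ≫ l = (yon S).map i₁ ≫ fst := by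
      rw [← Functor.map_comp_assoc, ← hij, Functor.map_comp, Category.assoc, ← sq.w_assoc,
        pullback.diagonal_fst, Category.comp_id]
    have hl₂ : (yon S).map j ≫ l' = (yon S).map i₁ ≫ fst := by
      rw [← Functor.map_comp_assoc, ← hij, Functor.map_comp, Category.assoc, ← sq.w_assoc,
        pullback.diagonal_snd, Category.comp_id]
    let vs : ValSq f :=
      { A := sq'.R, K := sq'.K, str := sq'.i₂ ≫ T.hom, top := (yon S).map i₁ ≫ fst, bot := l ≫ f,
        comm := ((congrArg (· ≫ f) hl₁).symm.trans (Category.assoc _ _ _)) }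
    have hll : l = l' := hu vs l l' hl₁ rfl hl₂ (by
      change l' ≫ f = l ≫ f
      simp only [l, l', Category.assoc, pullback.condition])
    have hlift : l ≫ pullback.diagonal f = (yon S).map b ≫ g := by
      apply pullback.hom_ext
      · rw [Category.assoc, pullback.diagonal_fst, Category.comp_id, Category.assoc]
      · rw [Category.assoc, pullback.diagonal_snd, Category.comp_id, Category.assoc]
        exact hll
    obtain ⟨k, hk⟩ := (yon S).map_surjective (sq.lift l ((yon S).map b) hlift)
    have hk₂ : k ≫ snd = b := (yon S).map_injective (by rw [Functor.map_comp, hk, sq.lift_snd])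
    have hk₂' : k.left ≫ snd.left = sq'.i₂ := congrArg Over.Hom.left hk₂
    refine ⟨⟨⟨k.left, ?_, hk₂'⟩⟩⟩
    rw [← cancel_mono snd.left, Category.assoc, hk₂']
    exact sq'.commSq.w.symm
  have : IsProper snd.left := { }
  exact (IsClosedImmersion.iff_isProper_and_mono _).2 ⟨(by assumption : IsProper snd.left), hmono⟩

end Groth.Agent.AlgSpVal
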