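import Groth.Agent.AlgSpVal.UnivClosedPoly
import Groth.Agent.AlgSpLib.EtLocalInst
import Mathlib.AlgebraicGeometry.AffineSpace

/-!
# Universal closedness and affine spaces over a chart of the target
-/

set_option backward.isDefEq.respectTransparency false
set_option backward.isDefEq.respectTransparency.types false

universe u

open CategoryTheory Limits Opposite AlgebraicGeometry AlgSp Groth.Agent.AlgSpLib

namespace Groth.Agent.AlgSpVal

variable {S : Scheme.{u}}

/-- Closedness of a base change restricts to open subschemes. -/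
theorem isClosedMap_snd_of_openImmersion {F G P P' : Sp S} {T T' : Over S} {f : F ⟶ G}
    {g : (yon S).obj T ⟶ G} {fst : P ⟶ F} {snd : P ⟶ (yon S).obj T} (sq : IsPullback fst snd f g)
    (h : IsClosedMap (Points.map snd)) (k : T' ⟶ T) [IsOpenImmersion k.left] {g' : (yon S).obj T' ⟶ G}
    (hg' : (yon S).map k ≫ g = g')
    {fst' : P' ⟶ F} {snd' : P' ⟶ (yon S).obj T'} (sq' : IsPullback fst' snd' f g') :
    IsClosedMap (Points.map snd') := by
  subst hg'
  let m : P' ⟶ P := sq.lift fst' (snd' ≫ (yon S).map k) (by rw [sq'.w, Category.assoc])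
  have hm₂ : m ≫ snd = snd' ≫ (yon S).map k := sq.lift_snd _ _ _
  have sqm : IsPullback m snd' snd ((yon S).map k) := by
    refine IsPullback.of_right ?_ hm₂ sq
    rw [sq.lift_fst]
    exact sq'
  have hm : RepWith @IsOpenImmersion m := repWith_of_isPullback sqm.flip ((repWith_yon_map_iff _ _).2 ‹_›)
  have hopen : IsOpenMap (Points.map m) :=
    AlgSpPts.isOpenMap_map (repWith_mono (P := @IsOpenImmersion) (Q := @UniversallyOpen)
      (fun _ _ j (hj : IsOpenImmersion j) => inferInstanceAs (UniversallyOpen j)) _ hm)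
  have hinj : Function.Injective (Points.map m) :=
    AlgSpPts.injective_map (repWith_mono (P := @IsOpenImmersion)
      (fun _ _ j (hj : IsOpenImmersion j) => j.isOpenEmbedding.injective) _ hm)
  intro C hC
  let C' := closure (Points.map m '' C)
  have : Points.map snd' '' C = Points.map ((yon S).map k) ⁻¹' (Points.map snd '' C') := by
    ext x
    constructor
    · rintro ⟨c, hc, rfl⟩
      refine ⟨Points.map m c, subset_closure ⟨c, hc, rfl⟩, ?_⟩
      rw [← Points.map_comp, hm₂, Points.map_comp]
    · rintro ⟨c', hc', hcx⟩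
      obtain ⟨z, hz₁, hz₂⟩ := exists_point_of_isPullback sqm (x := c') (y := x) hcx
      refine ⟨z, ?_, hz₂⟩
      have : z ∈ Points.map m ⁻¹' C' := by rw [Set.mem_preimage, hz₁]; exact hc'
      rwa [hopen.preimage_closure_eq_closure_preimage (Points.continuous_map m), hinj.preimage_image,
        hC.closure_eq] at this
  rw [this]
  exact (h _ isClosed_closure).preimage (Points.continuous_map _)

/-- Universal closedness is tested on the affine spaces over a chart of the target. -/
theorem isUnivClosedMor_of_affineSpace {F G : Sp S} (hF : IsAlgSpace F) (hG : IsAlgSpace G) {f : F ⟶ G}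
    (hqc : IsQuasiCompactMor f) {V : Over S} {p : (yon S).obj V ⟶ G} (hp : RepWith @Etale p)
    (hp' : RepWith @Surjective p)
    (H : ∀ (n : ℕ) (P : Sp S) (fst : P ⟶ F)
      (snd : P ⟶ (yon S).obj (Over.mk ((𝔸(ULift.{u} (Fin n); V.left) ↘ V.left) ≫ V.hom))),
      IsPullback fst snd f ((yon S).map (Over.homMk (𝔸(ULift.{u} (Fin n); V.left) ↘ V.left)) ≫ p) →
        IsClosedMap (Points.map snd)) :
    IsUnivClosedMor f := by
  refine isUnivClosedMor_of_polynomial hF hG hqc hp hp' fun A str i hi n => ?_
  let j : Spec (CommRingCat.of (MvPolynomial (ULift.{u} (Fin n)) A)) ⟶ 𝔸(ULift.{u} (Fin n); V.left) :=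
    (AffineSpace.SpecIso (ULift.{u} (Fin n)) A).inv ≫ AffineSpace.map (ULift.{u} (Fin n)) i.left
  have hj : j ≫ 𝔸(ULift.{u} (Fin n); V.left) ↘ V.left = Spec.map (polyHom A n) ≫ i.left := by
    rw [Category.assoc, AffineSpace.map_over, AffineSpace.SpecIso_inv_over_assoc]
    rfl
  have : IsOpenImmersion (AffineSpace.map (ULift.{u} (Fin n)) i.left) :=
    MorphismProperty.of_isPullback (AffineSpace.isPullback_map i.left).flip hi
  have : IsOpenImmersion j := inferInstanceAs (IsOpenImmersion (_ ≫ _))
  let k : Over.mk (Spec.map (polyHom A n) ≫ str) ⟶ Over.mk ((𝔸(ULift.{u} (Fin n); V.left) ↘ V.left) ≫ V.hom) :=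
    CategoryTheory.Over.homMk j (by
      change j ≫ _ ≫ V.hom = Spec.map (polyHom A n) ≫ str
      rw [← Category.assoc, hj, Category.assoc, Over.w i]
      rfl)
  let π : Over.mk ((𝔸(ULift.{u} (Fin n); V.left) ↘ V.left) ≫ V.hom) ⟶ V :=
    Over.homMk (𝔸(ULift.{u} (Fin n); V.left) ↘ V.left)
  have hk : k ≫ π = specToBase (str := str) (polyHom A n) ≫ i := Over.OverMorphism.ext hj
  have : IsOpenImmersion k.left := ‹IsOpenImmersion j›
  refine isClosedMap_snd_of_openImmersion (IsPullback.of_hasPullback f ((yon S).map π ≫ p))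
    (H n _ _ _ (IsPullback.of_hasPullback f _)) k ?_
    ((IsPullback.of_hasPullback _ _).paste_horiz (IsPullback.of_hasPullback f ((yon S).map i ≫ p)))
  rw [← Functor.map_comp_assoc, hk, Functor.map_comp, Category.assoc]

end Groth.Agent.AlgSpVal
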